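import Mathlib
import Cfsg.Prelude.Def_Solvable
import Cfsg.Agent.Lib.CIT.Basic
import Cfsg.Agent.Lib.Characters.Burnside

/-!
# Groups in which no prime divides three element orders

Elementary consequences of the hypothesis: element orders are products of at most two primes, each
prime lies in at most one composite order, centralizers of involutions are solvable.
-/

set_option autoImplicit false
set_option linter.style.haveILetI false

namespace CfsgLib.ThreeOrders

open Subgroup

universe u

variable {G : Type u} [Group G]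

/-- No prime divides three pairwise distinct element orders. -/
def ThreeCoprime (G : Type u) [Group G] : Prop :=
  ∀ p : ℕ, p.Prime → ∀ a b c : G, orderOf a ≠ orderOf b → orderOf b ≠ orderOf c →
    orderOf a ≠ orderOf c → ¬ (p ∣ orderOf a ∧ p ∣ orderOf b ∧ p ∣ orderOf c)

theorem isSolvable_of_two_primes {H : Type*} [Group H] [Finite H] {p q : ℕ} (hp : p.Prime)
    (hq : q.Prime) (h : ∀ s : ℕ, s.Prime → s ∣ Nat.card H → s = p ∨ s = q) :
    Group.IsSolvable H := by
  obtain ⟨a, m, hm, e⟩ := Nat.exists_eq_pow_mul_and_not_dvd (Nat.card_pos (α := H)).ne' p hp.ne_one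
  have hm0 : m ≠ 0 := fun h0 => by simp [h0] at hm
  have hm' : m = q ^ m.primeFactorsList.length :=
    Nat.eq_prime_pow_of_unique_prime_dvd hm0 fun {d} hd hdm =>
      (h d hd (e ▸ hdm.mul_left _)).resolve_left fun hdp => hm (hdp ▸ hdm)
  exact CfsgLib.Burnside.isSolvable_of_card_eq hp hq a m.primeFactorsList.length
    (e.trans (congrArg (p ^ a * ·) hm'))

section

variable [Finite G]

theorem exists_orderOf_eq {g : G} {d : ℕ} (hd : d ∣ orderOf g) :
    ∃ x ∈ zpowers g, orderOf x = d :=
  ⟨_, npow_mem_zpowers g (orderOf g / d), orderOf_pow_orderOf_div (orderOf_pos g).ne' hd⟩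

namespace ThreeCoprime

variable (h : ThreeCoprime G)
include h

/-- A prime lies in at most one composite element order. -/
theorem eq_of_dvd {p : ℕ} (hp : p.Prime) {a b : G} (ha : p ∣ orderOf a) (hb : p ∣ orderOf b)
    (ha' : orderOf a ≠ p) (hb' : orderOf b ≠ p) : orderOf a = orderOf b := by
  by_contra hne
  obtain ⟨c, -, hc⟩ := exists_orderOf_eq ha
  exact h p hp a b c hne (hc ▸ hb') (hc ▸ ha') ⟨ha, hb, hc ▸ dvd_rfl⟩

/-- Element orders are products of at most two primes. -/
theorem length_le_two (g : G) : (orderOf g).primeFactorsList.length ≤ 2 := by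
  rcases hl : (orderOf g).primeFactorsList with _ | ⟨p, _ | ⟨q, _ | ⟨s, l⟩⟩⟩
  · simp
  · simp
  · simp
  exfalso
  have hp : p.Prime := Nat.prime_of_mem_primeFactorsList (n := orderOf g) (by rw [hl]; simp)
  have hq : q.Prime := Nat.prime_of_mem_primeFactorsList (n := orderOf g) (by rw [hl]; simp)
  have hs : s.Prime := Nat.prime_of_mem_primeFactorsList (n := orderOf g) (by rw [hl]; simp)
  have hprod := Nat.prod_primeFactorsList (orderOf_pos g).ne'
  rw [hl, List.prod_cons, List.prod_cons, List.prod_cons, ← mul_assoc] at hprod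
  obtain ⟨c, -, hc⟩ := exists_orderOf_eq (g := g) (d := p * q) ⟨_, hprod.symm⟩
  have hne : p * q ≠ p := by
    intro e
    exact hq.ne_one (by simpa [hp.ne_zero] using e)
  have hm : 2 ≤ s * l.prod := by
    refine le_trans hs.two_le (Nat.le_mul_of_pos_right s ?_)
    refine Nat.pos_of_ne_zero fun h0 => ?_
    rw [h0] at hprod
    simp at hprod
    exact (orderOf_pos g).ne' hprod.symm
  have hlt : p * q < orderOf g := by
    rw [← hprod]
    exact lt_mul_of_one_lt_right (Nat.mul_pos hp.pos hq.pos) hm
  have := h.eq_of_dvd hp (a := g) (b := c) (hprod ▸ (dvd_mul_right p q).mul_right _)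
    (hc ▸ dvd_mul_right p q)
    (fun e => by have := Nat.le_mul_of_pos_right p hq.pos; omega) (hc ▸ hne)
  omega

theorem length_le_two_of_dvd {g : G} {m : ℕ} (hm : m ∣ orderOf g) :
    m.primeFactorsList.length ≤ 2 :=
  (List.Sublist.length_le (Nat.primeFactorsList_sublist_of_dvd hm (orderOf_pos g).ne')).trans
    (h.length_le_two g)

omit [Finite G] in
theorem of_injective {H : Type*} [Group H] (f : H →* G) (hf : Function.Injective f) :
    ∀ p : ℕ, p.Prime → ∀ a b c : H, orderOf a ≠ orderOf b → orderOf b ≠ orderOf c →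
      orderOf a ≠ orderOf c → ¬ (p ∣ orderOf a ∧ p ∣ orderOf b ∧ p ∣ orderOf c) := by
  intro p hp a b c
  simp only [← orderOf_injective f hf]
  exact h p hp (f a) (f b) (f c)

theorem of_surjective {Q : Type u} [Group Q] (f : G →* Q) (hf : Function.Surjective f) :
    ThreeCoprime Q := by
  intro p hp a b c
  have hlift : ∀ q : Q, ∃ g : G, orderOf g = orderOf q := fun q => by
    obtain ⟨g, rfl⟩ := hf q
    obtain ⟨x, -, hx⟩ := exists_orderOf_eq (orderOf_map_dvd f g)
    exact ⟨x, hx⟩
  obtain ⟨a', ha⟩ := hlift a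
  obtain ⟨b', hb⟩ := hlift b
  obtain ⟨c', hc⟩ := hlift c
  rw [← ha, ← hb, ← hc]
  exact h p hp a' b' c'

theorem quotient (N : Subgroup G) [N.Normal] : ThreeCoprime (G ⧸ N) :=
  h.of_surjective _ (QuotientGroup.mk'_surjective N)

/-- Two elements of odd prime order centralizing a common involution have the same order. -/
theorem eq_of_commute_involution {t x y : G} (ht : orderOf t = 2) {p q : ℕ} (hp : p.Prime)
    (hq : q.Prime) (hp2 : p ≠ 2) (hq2 : q ≠ 2) (hx : orderOf x = p) (hy : orderOf y = q)
    (hxt : Commute t x) (hyt : Commute t y) : p = q := by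
  have h1 : orderOf (t * x) = 2 * p := by
    rw [hxt.orderOf_mul_eq_mul_orderOf_of_coprime
      (by rw [ht, hx]; exact (Nat.coprime_primes Nat.prime_two hp).2 hp2.symm), ht, hx]
  have h2 : orderOf (t * y) = 2 * q := by
    rw [hyt.orderOf_mul_eq_mul_orderOf_of_coprime
      (by rw [ht, hy]; exact (Nat.coprime_primes Nat.prime_two hq).2 hq2.symm), ht, hy]
  have := h.eq_of_dvd Nat.prime_two (a := t * x) (b := t * y) (h1 ▸ dvd_mul_right 2 p)
    (h2 ▸ dvd_mul_right 2 q)
    (by rw [h1]; have := hp.two_le; omega) (by rw [h2]; have := hq.two_le; omega)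
  omega

/-- Centralizers of involutions are solvable. -/
theorem isSolvable_centralizer {t : G} (ht : orderOf t = 2) :
    Group.IsSolvable ↥(centralizer ({t} : Set G)) := by
  by_cases hex : ∃ r : ℕ, r.Prime ∧ r ≠ 2 ∧ r ∣ Nat.card ↥(centralizer ({t} : Set G))
  · obtain ⟨r, hr, hr2, hrd⟩ := hex
    haveI := Fact.mk hr
    obtain ⟨x, hx⟩ := exists_prime_orderOf_dvd_card' r hrd
    refine isSolvable_of_two_primes Nat.prime_two hr fun s hs hsd => ?_
    by_contra hne
    push Not at hne
    haveI := Fact.mk hs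
    obtain ⟨y, hy⟩ := exists_prime_orderOf_dvd_card' s hsd
    exact hne.2 (h.eq_of_commute_involution ht hs hr hne.1 hr2
      ((orderOf_coe y).trans hy) ((orderOf_coe x).trans hx)
      (mem_centralizer_singleton_iff.1 y.2).symm (mem_centralizer_singleton_iff.1 x.2).symm)
  · refine isSolvable_of_two_primes Nat.prime_two Nat.prime_two fun s hs hsd => Or.inl ?_
    by_contra hne
    exact hex ⟨s, hs, hne, hsd⟩

/-- The centralizer of a nontrivial 2-subgroup is solvable. -/
theorem isSolvable_centralizer_two {U : Subgroup G} (hU : IsPGroup 2 ↥U) (hU1 : U ≠ ⊥) :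
    Group.IsSolvable ↥(centralizer (U : Set G)) := by
  obtain ⟨u, hu, hu1⟩ := (bot_or_exists_ne_one U).resolve_left hU1
  obtain ⟨t, ht, hto⟩ :=
    CfsgLib.CIT.exists_involution_zpowers (CfsgLib.CIT.isTwo_of_mem hU hu) hu1
  have hle : centralizer (U : Set G) ≤ centralizer ({t} : Set G) :=
    centralizer_le (Set.singleton_subset_iff.2 (zpowers_le.2 hu ht))
  haveI := h.isSolvable_centralizer hto
  exact Group.isSolvable_of_isSolvable_injective (inclusion_injective hle)

end ThreeCoprime

end

end CfsgLib.ThreeOrders
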