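import Mathlib
import Cfsg.Agent.Lib.ThreeOrders.Basic
import Cfsg.Agent.Lib.InvChar.SolvableTwo
import Cfsg.Agent.Lib.PF.OddOrder

/-!
# The case with an element of order `2 r`, `r` an odd prime

Then the Sylow 2-subgroups are elementary abelian, elements of order divisible by `r` have order `r`
or `2 r`, and normalizers of nontrivial 2-subgroups are solvable.
-/

set_option autoImplicit false
set_option linter.style.haveILetI false

namespace CfsgLib.ThreeOrders

open Subgroup CfsgLib.CIT

universe u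

variable {G : Type u} [Group G]

/-- All 2-subgroups are commutative. -/
def AbelianTwo (G : Type u) [Group G] : Prop :=
  ∀ U : Subgroup G, IsPGroup 2 ↥U → ∀ a ∈ U, ∀ b ∈ U, Commute a b

theorem isSolvable_of_odd [Finite G] (h : Odd (Nat.card G)) : Group.IsSolvable G :=
  CfsgLib.PF.oddSolvable G h

/-- A normal 2-subgroup with solvable centralizer, Sylow 2-subgroups being abelian. -/
theorem isSolvable_of_normal_two [Finite G] (hab : AbelianTwo G) (V : Subgroup G) [V.Normal]
    (hV : IsPGroup 2 ↥V) (hC : Group.IsSolvable ↥(centralizer (V : Set G))) : Group.IsSolvable G := by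
  haveI : Fact (Nat.Prime 2) := ⟨Nat.prime_two⟩
  obtain ⟨S, hS⟩ := hV.exists_le_sylow
  have hSC : (S : Subgroup G) ≤ centralizer (V : Set G) := fun s hs => by
    rw [mem_centralizer_iff]
    exact fun v hv => hab S S.isPGroup' v (hS hv) s hs
  refine (Group.isSolvable_iff_subgroup_quotient (centralizer (V : Set G))).2 ⟨hC, ?_⟩
  refine isSolvable_of_odd (Nat.not_even_iff_odd.1 fun he => ?_)
  exact S.not_dvd_index
    ((even_iff_two_dvd.1 (by rwa [Subgroup.index] )).trans (index_dvd_of_le hSC))

namespace ThreeCoprime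

variable [Finite G] (h : ThreeCoprime G)
include h

/-- A nonsolvable group of this kind with abelian Sylow 2-subgroups has no normal 2-subgroup. -/
theorem pCore_eq_bot (hab : AbelianTwo G) (hns : ¬ Group.IsSolvable G) : Cfsg.pCore 2 G = ⊥ := by
  by_contra hne
  exact hns (isSolvable_of_normal_two hab _ CfsgLib.PCore.pCore_isPGroup
    (h.isSolvable_centralizer_two CfsgLib.PCore.pCore_isPGroup hne))

/-- Normalizers of nontrivial 2-subgroups are solvable. -/
theorem isSolvable_normalizer (hab : AbelianTwo G) {U : Subgroup G} (hU : IsPGroup 2 ↥U)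
    (hU1 : U ≠ ⊥) : Group.IsSolvable ↥(normalizer (U : Set G)) := by
  set N := normalizer (U : Set G)
  haveI : (U.subgroupOf N).Normal := normal_in_normalizer
  refine isSolvable_of_normal_two ?_ (U.subgroupOf N) (hU.comap_subtype) ?_
  · intro W hW a ha b hb
    exact Subtype.ext (hab (W.map N.subtype) (hW.map _) a ⟨a, ha, rfl⟩ b ⟨b, hb, rfl⟩).eq
  · haveI := h.isSolvable_centralizer_two hU hU1
    let f : ↥(centralizer ((U.subgroupOf N : Subgroup ↥N) : Set ↥N)) →* ↥(centralizer (U : Set G)) :=
      { toFun := fun x => ⟨((x : ↥N) : G), by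
          rw [mem_centralizer_iff]
          exact fun u hu => congrArg Subtype.val
            (mem_centralizer_iff.1 x.2 ⟨u, le_normalizer hu⟩ hu)⟩
        map_one' := rfl
        map_mul' := fun _ _ => rfl }
    exact Group.isSolvable_of_isSolvable_injective (f := f)
      fun x y e => Subtype.ext (Subtype.ext (congrArg Subtype.val e :))

end ThreeCoprime

/-- There is an element of order `2 r`. -/
structure CaseB (G : Type u) [Group G] (r : ℕ) : Prop where
  tc : ThreeCoprime G
  prime : r.Prime
  ne_two : r ≠ 2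
  witness : ∃ x : G, orderOf x = 2 * r

namespace CaseB

variable [Finite G] {r : ℕ} (h : CaseB G r)
include h

theorem even_order {g : G} (hg : 2 ∣ orderOf g) : orderOf g = 2 ∨ orderOf g = 2 * r := by
  obtain ⟨x, hx⟩ := h.witness
  by_cases h2 : orderOf g = 2
  · exact Or.inl h2
  · refine Or.inr (hx ▸ h.tc.eq_of_dvd Nat.prime_two hg (hx ▸ dvd_mul_right 2 r) h2 ?_)
    rw [hx]
    have := h.prime.two_le
    omega

theorem r_order {g : G} (hg : r ∣ orderOf g) : orderOf g = r ∨ orderOf g = 2 * r := by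
  obtain ⟨x, hx⟩ := h.witness
  by_cases h2 : orderOf g = r
  · exact Or.inl h2
  · refine Or.inr (hx ▸ h.tc.eq_of_dvd h.prime hg (hx ▸ dvd_mul_left r 2) h2 ?_)
    rw [hx]
    have := h.prime.two_le
    omega

omit [Finite G] in
theorem coprime_two_r : Nat.Coprime 2 r :=
  (Nat.coprime_primes Nat.prime_two h.prime).2 h.ne_two.symm

theorem sq_eq_one {g : G} (hg : IsTwo g) : g * g = 1 := by
  obtain ⟨k, hk⟩ := hg
  obtain ⟨j, -, hj⟩ := (Nat.dvd_prime_pow Nat.prime_two).1 (orderOf_dvd_of_pow_eq_one hk)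
  rcases j with _ | j
  · have hg1 : g = 1 := orderOf_eq_one_iff.1 (by simpa using hj)
    rw [hg1, one_mul]
  · rcases h.even_order (g := g) (hj ▸ dvd_pow_self 2 j.succ_ne_zero) with e | e
    · rw [← sq, ← e, pow_orderOf_eq_one]
    · exfalso
      have hd : r ∣ 2 ^ (j + 1) := hj ▸ e ▸ dvd_mul_left r 2
      exact h.ne_two ((Nat.prime_dvd_prime_iff_eq h.prime Nat.prime_two).1
        (h.prime.dvd_of_dvd_pow hd))

theorem abelianTwo : AbelianTwo G := by
  intro U hU a ha b hb
  have h1 := h.sq_eq_one (isTwo_of_mem hU (mul_mem ha hb))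
  have h2 := h.sq_eq_one (isTwo_of_mem hU ha)
  have h3 := h.sq_eq_one (isTwo_of_mem hU hb)
  calc a * b = (a * a) * (b * a) * (b * b) := by
        rw [eq_comm] at h1
        calc a * b = a * (a * b * (a * b)) * b := by rw [← h1, mul_one]
          _ = _ := by group
    _ = b * a := by rw [h2, h3, one_mul, mul_one]

theorem pow_r_eq_one {g : G} {k : ℕ} (hg : orderOf g = r ^ k) : g ^ r = 1 := by
  rcases k with _ | k
  · have hg1 : g = 1 := orderOf_eq_one_iff.1 (by simpa using hg)
    rw [hg1, one_pow]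
  · rcases h.r_order (g := g) (hg ▸ dvd_pow_self r k.succ_ne_zero) with e | e
    · exact orderOf_dvd_iff_pow_eq_one.1 e.dvd
    · exfalso
      have hd : 2 ∣ r ^ (k + 1) := hg ▸ e ▸ dvd_mul_right 2 r
      exact h.ne_two.symm ((Nat.prime_dvd_prime_iff_eq Nat.prime_two h.prime).1
        (Nat.prime_two.dvd_of_dvd_pow hd))

theorem pow_r_eq_one_of_mem {R : Subgroup G} (hR : IsPGroup r ↥R) {g : G} (hg : g ∈ R) :
    g ^ r = 1 := by
  haveI := Fact.mk h.prime
  obtain ⟨k, hk⟩ := IsPGroup.iff_orderOf.1 hR ⟨g, hg⟩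
  exact h.pow_r_eq_one ((orderOf_mk g hg).symm.trans hk)

/-- Elements of prime order commuting with an involution. -/
theorem eq_of_commute_involution {t y : G} (ht : orderOf t = 2) (hty : Commute t y) {s : ℕ}
    (hs : s.Prime) (hy : orderOf y = s) (hs2 : s ≠ 2) : s = r := by
  have hcop : Nat.Coprime 2 s := (Nat.coprime_primes Nat.prime_two hs).2 hs2.symm
  have h1 : orderOf (t * y) = 2 * s := by
    rw [hty.orderOf_mul_eq_mul_orderOf_of_coprime (by rw [ht, hy]; exact hcop), ht, hy]
  have := hs.two_le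
  rcases h.even_order (g := t * y) (h1 ▸ dvd_mul_right 2 s) with e | e <;> omega

/-- Elements of prime order commuting with an element of order `r`. -/
theorem eq_of_commute_r {w y : G} (hw : orderOf w = r) (hwy : Commute w y) {s : ℕ}
    (hs : s.Prime) (hy : orderOf y = s) (hsr : s ≠ r) : s = 2 := by
  have hcop : Nat.Coprime r s := (Nat.coprime_primes h.prime hs).2 hsr.symm
  have h1 : orderOf (w * y) = r * s := by
    rw [hwy.orderOf_mul_eq_mul_orderOf_of_coprime (by rw [hw, hy]; exact hcop), hw, hy]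
  rcases h.r_order (g := w * y) (h1 ▸ dvd_mul_right r s) with e | e
  · exfalso
    rw [h1] at e
    exact hs.ne_one (by simpa [h.prime.ne_zero] using e)
  · rw [h1, mul_comm 2 r] at e
    exact Nat.eq_of_mul_eq_mul_left h.prime.pos e

theorem prime_dvd_centralizer_involution {t : G} (ht : orderOf t = 2) {s : ℕ} (hs : s.Prime)
    (hd : s ∣ Nat.card ↥(centralizer ({t} : Set G))) : s = 2 ∨ s = r := by
  haveI := Fact.mk hs
  obtain ⟨y, hy⟩ := exists_prime_orderOf_dvd_card' s hd
  by_cases hs2 : s = 2
  · exact Or.inl hs2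
  · exact Or.inr (h.eq_of_commute_involution ht (mem_centralizer_singleton_iff.1 y.2).symm hs
      ((orderOf_coe y).trans hy) hs2)

theorem prime_dvd_centralizer_r {w : G} (hw : orderOf w = r) {s : ℕ} (hs : s.Prime)
    (hd : s ∣ Nat.card ↥(centralizer ({w} : Set G))) : s = 2 ∨ s = r := by
  haveI := Fact.mk hs
  obtain ⟨y, hy⟩ := exists_prime_orderOf_dvd_card' s hd
  by_cases hsr : s = r
  · exact Or.inr hsr
  · exact Or.inl (h.eq_of_commute_r hw (mem_centralizer_singleton_iff.1 y.2).symm hs
      ((orderOf_coe y).trans hy) hsr)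

theorem isSolvable_centralizer_r {w : G} (hw : orderOf w = r) :
    Group.IsSolvable ↥(centralizer ({w} : Set G)) :=
  isSolvable_of_two_primes Nat.prime_two h.prime fun _ hs hd => h.prime_dvd_centralizer_r hw hs hd

end CaseB

/-- In a solvable group with abelian Sylow 2-subgroups, the core and a Sylow 2-subgroup generate a
normal subgroup. -/
theorem sup_core_normal [Finite G] [Group.IsSolvable G] (hab : AbelianTwo G) (S : Sylow 2 G) :
    (Cfsg.pPrimeCore 2 G ⊔ (S : Subgroup G)).Normal := by
  haveI : Fact (Nat.Prime 2) := ⟨Nat.prime_two⟩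
  set O := Cfsg.pPrimeCore 2 G
  set π := QuotientGroup.mk' O
  have hπ : Function.Surjective π := QuotientGroup.mk'_surjective O
  set S' := S.mapSurjective hπ
  have hS' : (S' : Subgroup (G ⧸ O)) = (S : Subgroup G).map π := Sylow.coe_mapSurjective _ _
  haveI : Group.IsSolvable (G ⧸ O) := Group.isSolvable_of_surjective hπ
  have hle : (S' : Subgroup (G ⧸ O)) ≤ Cfsg.pCore 2 (G ⧸ O) := by
    refine le_trans ?_ (CfsgLib.InvChar.centralizer_pCore_le
      (CfsgLib.PCore.pPrimeCore_quotient_pPrimeCore (p := 2) (G := G)))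
    intro s hs
    rw [mem_centralizer_iff]
    intro v hv
    have hv' : v ∈ (S : Subgroup G).map π := hS' ▸ CfsgLib.PCore.pCore_le_sylow S' hv
    rw [hS'] at hs
    obtain ⟨a, ha, rfl⟩ := hs
    obtain ⟨b, hb, rfl⟩ := hv'
    rw [← map_mul, ← map_mul, (hab S S.isPGroup' b hb a ha).eq]
  have heq : (S' : Subgroup (G ⧸ O)) = Cfsg.pCore 2 (G ⧸ O) :=
    le_antisymm hle (CfsgLib.PCore.pCore_le_sylow S')
  have hn : ((S : Subgroup G).map π).Normal := by
    rw [← hS', heq]; exact Cfsg.pCore_normal _ _
  have := hn.comap π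
  rwa [Subgroup.comap_map_eq, QuotientGroup.ker_mk', sup_comm] at this

/-- In a solvable group with abelian Sylow 2-subgroups, every element is the product of an element
of the core and an element normalizing a given Sylow 2-subgroup. -/
theorem exists_core_mul_normalizer [Finite G] [Group.IsSolvable G] (hab : AbelianTwo G)
    (S : Sylow 2 G) (g : G) :
    ∃ k ∈ Cfsg.pPrimeCore 2 G, k⁻¹ * g ∈ normalizer ((S : Subgroup G) : Set G) := by
  haveI : Fact (Nat.Prime 2) := ⟨Nat.prime_two⟩
  set O := Cfsg.pPrimeCore 2 G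
  haveI := sup_core_normal hab S
  have hcov : g ∈ normalizer ((S : Subgroup G) : Set G) ⊔ (O ⊔ (S : Subgroup G)) := by
    exact (Sylow.normalizer_sup_eq_top' S
      (le_sup_right : (S : Subgroup G) ≤ O ⊔ (S : Subgroup G))).ge (mem_top g)
  have hle : normalizer ((S : Subgroup G) : Set G) ⊔ (O ⊔ (S : Subgroup G)) ≤
      O ⊔ normalizer ((S : Subgroup G) : Set G) :=
    sup_le le_sup_right (sup_le le_sup_left (le_trans le_normalizer le_sup_right))
  replace hcov := hle hcov
  rw [← SetLike.mem_coe, normal_mul, Set.mem_mul] at hcov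
  obtain ⟨k, hk, n, hn, rfl⟩ := hcov
  exact ⟨k, hk, by rwa [inv_mul_cancel_left]⟩

end CfsgLib.ThreeOrders
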