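import Mathlib

/-!
# Norms of fixed-point-free elements

If `x` of prime order `p` normalizes `P`, centralizes no nonidentity element of `P`, and both act on
an abelian group `A` of coprime order such that `(a * x) ^ p = 1` for all `a ∈ A`, then `P`
centralizes `A`.
-/

set_option autoImplicit false

namespace CfsgLib.ThreeOrders

open Subgroup Finset
open scoped IsMulCommutative

variable {G : Type*} [Group G]

/-- Conjugation by an element of the normalizer, on the subgroup. -/
def conjIn (A : Subgroup G) (g : G) (hg : g ∈ Subgroup.normalizer (A : Set G)) (a : ↥A) : ↥A :=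
  ⟨g * a * g⁻¹, (Subgroup.mem_normalizer_iff.1 hg a).1 a.2⟩

theorem coe_prod_conj_pow (A : Subgroup G) [IsMulCommutative A] {y : G}
    (hy : y ∈ Subgroup.normalizer (A : Set G)) (a : ↥A) (k : ℕ) :
    ((a : G) * y) ^ k = ((∏ i ∈ range k, conjIn A (y ^ i) (pow_mem hy i) a : ↥A) : G) * y ^ k := by
  induction k with
  | zero => simp
  | succ n ih =>
    rw [pow_succ, ih, Finset.prod_range_succ, Subgroup.coe_mul, pow_succ y n]
    simp only [conjIn]
    group

theorem prime_pow_commute {p : ℕ} (hp : p.Prime) {x c : G} (hx : x ^ p = 1) {i : ℕ} (hi : i ∈ range p)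
    (hi0 : i ≠ 0) (hc : Commute c (x ^ i)) : Commute c x := by
  have hco : Nat.Coprime i p :=
    ((hp.coprime_iff_not_dvd).2 fun hd => (Finset.mem_range.1 hi).not_ge
      (Nat.le_of_dvd (Nat.pos_of_ne_zero hi0) hd)).symm
  obtain ⟨m, -, hm⟩ := Nat.exists_mul_mod_eq_one_of_coprime hco hp.one_lt
  have h1 : (x ^ i) ^ m = x := by
    rw [← pow_mul, ← Nat.div_add_mod (i * m) p, pow_add, pow_mul, hx, one_pow, one_mul, hm, pow_one]
  rw [← h1]
  exact hc.pow_right m

/-- The norm argument. -/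
theorem centralizes_of_norm [Finite G] {A P : Subgroup G} [IsMulCommutative A] {x : G} {p : ℕ}
    (hp : p.Prime) (hxp : x ^ p = 1) (hPA : P ≤ Subgroup.normalizer (A : Set G))
    (hxA : x ∈ Subgroup.normalizer (A : Set G)) (hxP : x ∈ Subgroup.normalizer (P : Set G))
    (hfix : ∀ c ∈ P, Commute c x → c = 1) (hcop : Nat.Coprime (Nat.card A) (Nat.card P))
    (hN : ∀ a ∈ A, (a * x) ^ p = 1) : ∀ a ∈ A, ∀ c ∈ P, Commute c a := by
  classical
  haveI := Fintype.ofFinite P
  suffices key : ∀ (a : ↥A) (d : ↥P),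
      conjIn A d (hPA d.2) (a ^ Nat.card P) = a ^ Nat.card P by
    intro a ha c hc
    obtain ⟨m, hm⟩ := exists_pow_eq_self_of_coprime (x := (⟨a, ha⟩ : ↥A))
      (Nat.Coprime.coprime_dvd_right (orderOf_dvd_natCard _) hcop.symm)
    have h1 := congrArg Subtype.val (key ⟨a, ha⟩ ⟨c, hc⟩)
    simp only [conjIn, SubgroupClass.coe_pow] at h1
    have h2 : Commute c (a ^ Nat.card P) := by
      rw [mul_inv_eq_iff_eq_mul] at h1
      exact h1
    have h3 : (a ^ Nat.card P) ^ m = a := by simpa using congrArg Subtype.val hm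
    rw [← h3]
    exact h2.pow_right m
  intro a d
  have hxi : ∀ i : ℕ, x ^ i ∈ Subgroup.normalizer (A : Set G) := pow_mem hxA
  -- conjugates of `x` by elements of `P`
  have hy : ∀ c : ↥P, (c : G) * x * (c : G)⁻¹ ∈ Subgroup.normalizer (A : Set G) := fun c =>
    mul_mem (mul_mem (hPA c.2) hxA) (inv_mem (hPA c.2))
  have hrow : ∀ c : ↥P,
      ∏ i ∈ range p, conjIn A (((c : G) * x * (c : G)⁻¹) ^ i) (pow_mem (hy c) i) a = 1 := by
    intro c
    apply Subtype.ext
    have h1 := coe_prod_conj_pow A (hy c) a p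
    have h2 : ((a : G) * ((c : G) * x * (c : G)⁻¹)) ^ p = 1 := by
      have h3 : (c : G)⁻¹ * a * c ∈ A := by
        have := (Subgroup.mem_normalizer_iff.1 (inv_mem (hPA c.2)) a).1 a.2
        rwa [inv_inv] at this
      rw [show (a : G) * ((c : G) * x * (c : G)⁻¹) = c * (((c : G)⁻¹ * a * c) * x) * (c : G)⁻¹ by
        group, conj_pow, hN _ h3, mul_one, mul_inv_cancel]
    have h4 : ((c : G) * x * (c : G)⁻¹) ^ p = 1 := by rw [conj_pow, hxp, mul_one, mul_inv_cancel]
    rw [h4, mul_one, h2] at h1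
    exact h1.symm
  -- the elements occurring in place `i`
  let b : ℕ → ↥A := fun i => conjIn A (x ^ i) (hxi i) a
  let D : ℕ → ↥P → ↥P := fun i c => ⟨(c : G) * (x ^ i * (c : G)⁻¹ * (x ^ i)⁻¹),
    mul_mem c.2 ((Subgroup.mem_normalizer_iff.1 (pow_mem hxP i) _).1 (inv_mem c.2))⟩
  have hterm : ∀ (i : ℕ) (c : ↥P),
      conjIn A (((c : G) * x * (c : G)⁻¹) ^ i) (pow_mem (hy c) i) a =
        conjIn A (D i c) (hPA (D i c).2) (b i) := by
    intro i c
    apply Subtype.ext
    simp only [conjIn, b, D, conj_pow]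
    group
  have hinj : ∀ i ∈ range p, i ≠ 0 → Function.Bijective (D i) := by
    intro i hi hi0
    refine Finite.injective_iff_bijective.1 fun c c' e => ?_
    have h1 : (c : G) * (x ^ i * (c : G)⁻¹ * (x ^ i)⁻¹) =
        (c' : G) * (x ^ i * (c' : G)⁻¹ * (x ^ i)⁻¹) := congrArg Subtype.val e
    have h2 : Commute ((c' : G)⁻¹ * c) (x ^ i) := by
      show (c' : G)⁻¹ * c * x ^ i = x ^ i * ((c' : G)⁻¹ * c)
      calc (c' : G)⁻¹ * c * x ^ i
          = (c' : G)⁻¹ * ((c : G) * (x ^ i * (c : G)⁻¹ * (x ^ i)⁻¹)) * x ^ i * c := by group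
        _ = _ := by rw [h1]; group
    have h3 := hfix _ (mul_mem (inv_mem c'.2) c.2) (prime_pow_commute hp hxp hi hi0 h2)
    exact Subtype.ext (inv_mul_eq_one.1 h3).symm
  have hswap : (1 : ↥A) = ∏ i ∈ range p, ∏ c : ↥P, conjIn A (D i c) (hPA (D i c).2) (b i) := by
    rw [Finset.prod_comm]
    refine (Finset.prod_eq_one fun c _ => ?_).symm
    rw [← hrow c]
    exact Finset.prod_congr rfl fun i _ => (hterm i c).symm
  -- sums over `P` are fixed
  have hfixed : ∀ i, i ∈ range p → i ≠ 0 →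
      conjIn A d (hPA d.2) (∏ c : ↥P, conjIn A (D i c) (hPA (D i c).2) (b i)) =
        ∏ c : ↥P, conjIn A (D i c) (hPA (D i c).2) (b i) := by
    intro i hi hi0
    rw [Fintype.prod_bijective (D i) (hinj i hi hi0) _
      (fun c : ↥P => conjIn A c (hPA c.2) (b i)) fun _ => rfl]
    let f : ↥A →* ↥A :=
      { toFun := conjIn A d (hPA d.2)
        map_one' := Subtype.ext (by simp [conjIn])
        map_mul' := fun u v => Subtype.ext (by simp only [conjIn, Subgroup.coe_mul]; group) }
    show f _ = _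
    rw [map_prod]
    refine Fintype.prod_bijective (d * ·) (Group.mulLeft_bijective d) _ _ fun c => Subtype.ext ?_
    simp only [f, MonoidHom.coe_mk, OneHom.coe_mk, conjIn, Subgroup.coe_mul]
    group
  have h0 : ∏ c : ↥P, conjIn A (D 0 c) (hPA (D 0 c).2) (b 0) = a ^ Nat.card P := by
    rw [Finset.prod_eq_pow_card (b := a) fun c _ => Subtype.ext (by simp [conjIn, b, D]),
      Finset.card_univ, Nat.card_eq_fintype_card]
  rw [← Finset.mul_prod_erase _ _ (Finset.mem_range.2 hp.pos), h0] at hswap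
  rw [eq_inv_of_mul_eq_one_left hswap.symm]
  apply Subtype.ext
  let f : ↥A →* ↥A :=
    { toFun := conjIn A d (hPA d.2)
      map_one' := Subtype.ext (by simp [conjIn])
      map_mul' := fun u v => Subtype.ext (by simp only [conjIn, Subgroup.coe_mul]; group) }
  show ((f _ : ↥A) : G) = _
  rw [map_inv, map_prod]
  refine congrArg (fun u : ↥A => ((u⁻¹ : ↥A) : G)) (Finset.prod_congr rfl fun i hi => ?_)
  exact hfixed i (Finset.mem_of_mem_erase hi) (Finset.ne_of_mem_erase hi)

/-- The norm argument for an element acting fixed-point-freely on `A`. -/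
theorem pow_eq_one_of_fpf {A : Subgroup G} [IsMulCommutative A] {x : G} {p : ℕ}
    (hxp : x ^ p = 1) (hxA : x ∈ Subgroup.normalizer (A : Set G))
    (hfpf : ∀ a ∈ A, Commute x a → a = 1) {a : G} (ha : a ∈ A) : (a * x) ^ p = 1 := by
  have hm : (a * x) ^ p ∈ A := by
    have h := coe_prod_conj_pow A hxA ⟨a, ha⟩ p
    rw [hxp, mul_one] at h
    rw [h]
    exact SetLike.coe_mem _
  refine hfpf _ hm ?_
  have hca : Commute a ((a * x) ^ p) :=
    congrArg Subtype.val (mul_comm' (⟨a, ha⟩ : ↥A) ⟨_, hm⟩)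
  have hcax : Commute (a * x) ((a * x) ^ p) := Commute.self_pow _ _
  have := hca.inv_left.mul_left hcax
  rwa [inv_mul_cancel_left] at this

end CfsgLib.ThreeOrders
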