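import Mathlib
import Cfsg.Agent.Lib.ThreeOrders.CaseB
import Cfsg.Agent.Lib.ThreeOrders.Norm
import Cfsg.Agent.Lib.ConstDiff.Burnside

/-!
# The radical in the case with an element of order `2 r`

The largest normal subgroup of odd order is trivial.
-/

set_option autoImplicit false
set_option linter.style.haveILetI false

namespace CfsgLib.ThreeOrders

open Subgroup CfsgLib.CIT

universe u

variable {G : Type u} [Group G]

theorem mem_normalizer_of_forall [Finite G] {H : Subgroup G} {g : G}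
    (h : ∀ n ∈ H, g * n * g⁻¹ ∈ H) : g ∈ normalizer (H : Set G) := by
  rw [mem_normalizer_iff]
  intro n
  refine ⟨h n, fun hn => ?_⟩
  have hinj : Function.Injective fun m : ↥H => (⟨g * m * g⁻¹, h m m.2⟩ : ↥H) := fun a b e =>
    Subtype.ext (mul_left_cancel (mul_right_cancel (congrArg Subtype.val e)))
  obtain ⟨m, hm⟩ := (Finite.injective_iff_surjective.1 hinj) ⟨_, hn⟩
  rw [← mul_left_cancel (mul_right_cancel (congrArg Subtype.val hm))]
  exact m.2

theorem AbelianTwo.of_surjective [Finite G] (hab : AbelianTwo G) {Q : Type*} [Group Q]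
    (f : G →* Q) (hf : Function.Surjective f) : AbelianTwo Q := by
  haveI : Fact (Nat.Prime 2) := ⟨Nat.prime_two⟩
  intro U hU a ha b hb
  obtain ⟨P, hP⟩ := hU.exists_le_sylow
  obtain ⟨S, rfl⟩ := Sylow.mapSurjective_surjective hf 2 P
  have ha' := hP ha
  have hb' := hP hb
  rw [Sylow.coe_mapSurjective] at ha' hb'
  obtain ⟨x, hx, rfl⟩ := ha'
  obtain ⟨y, hy, rfl⟩ := hb'
  exact (hab S S.isPGroup' x hx y hy).map f

/-- An involution without fixed points on a finite subgroup inverts it. -/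
theorem inverts_of_fpf [Finite G] {t : G} (ht : t * t = 1) {Q : Subgroup G}
    (hn : t ∈ normalizer (Q : Set G)) (hfix : ∀ x ∈ Q, Commute x t → x = 1) :
    ∀ k ∈ Q, t * k * t⁻¹ = k⁻¹ := by
  intro k hk
  let φ : ↥Q → ↥Q := fun n =>
    ⟨(n : G)⁻¹ * (t * n * t⁻¹), mul_mem (inv_mem n.2) ((mem_normalizer_iff.1 hn n).1 n.2)⟩
  have hφ : Function.Injective φ := by
    intro a b e
    have e' : (a : G)⁻¹ * (t * a * t⁻¹) = (b : G)⁻¹ * (t * b * t⁻¹) := congrArg Subtype.val e
    have hc : Commute ((b : G) * (a : G)⁻¹) t := by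
      show (b : G) * (a : G)⁻¹ * t = t * ((b : G) * (a : G)⁻¹)
      calc (b : G) * (a : G)⁻¹ * t = b * ((a : G)⁻¹ * (t * a * t⁻¹)) * t * (a : G)⁻¹ := by group
        _ = _ := by rw [e']; group
    exact Subtype.ext (mul_inv_eq_one.1 (hfix _ (mul_mem b.2 (inv_mem a.2)) hc)).symm
  obtain ⟨⟨m, hm'⟩, hm⟩ := (Finite.injective_iff_surjective.1 hφ) ⟨k, hk⟩
  have hm2 : k = m⁻¹ * (t * m * t⁻¹) := (congrArg Subtype.val hm).symm
  have ti : t⁻¹ = t := inv_eq_of_mul_eq_one_right ht
  rw [hm2, ti, mul_inv_rev, mul_inv_rev, mul_inv_rev, inv_inv, ti]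
  calc t * (m⁻¹ * (t * m * t)) * t = t * m⁻¹ * t * m * (t * t) := by group
    _ = _ := by rw [ht]; group

variable [Finite G]

/-- An element of prime order, not centralizing a given Sylow 2-subgroup which it normalizes. -/
theorem CaseB.exists_prime_normalizing {r : ℕ} (h : CaseB G r) (hns : ¬ Group.IsSolvable G)
    (S : Sylow 2 G) : ∃ x ∈ normalizer ((S : Subgroup G) : Set G),
      (orderOf x).Prime ∧ orderOf x ≠ 2 ∧
        x ∉ centralizer ((S : Subgroup G) : Set G) := by
  haveI : Fact (Nat.Prime 2) := ⟨Nat.prime_two⟩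
  set N := normalizer ((S : Subgroup G) : Set G) with hN
  set C := centralizer ((S : Subgroup G) : Set G) with hC
  obtain ⟨t, ht, hto⟩ : ∃ t ∈ (S : Subgroup G), orderOf t = 2 := by
    have h2 : 2 ∣ Nat.card ↥(S : Subgroup G) := S.dvd_card_of_dvd_card (by
      by_contra h2
      exact hns (CfsgLib.ConstDiff.isSolvable_of_odd_card h2))
    obtain ⟨t, ht⟩ := exists_prime_orderOf_dvd_card' 2 h2
    exact ⟨t, t.2, (orderOf_coe t).trans ht⟩
  by_contra hcon
  push Not at hcon
  have hprime : ∀ x ∈ N, (orderOf x).Prime → x ∈ C := by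
    intro x hx hp
    by_cases h2 : orderOf x = 2
    · have hxS : x ∈ (S : Subgroup G) := by
        have hxp : IsPGroup 2 ↥(zpowers x) :=
          IsPGroup.of_card (n := 1) (by rw [Nat.card_zpowers, h2, pow_one])
        have hle : zpowers x ≤ N := zpowers_le.2 hx
        exact (S.is_maximal' (hxp.to_sup_of_normal_right' S.isPGroup' hle) le_sup_right).le
          (le_sup_left (b := (S : Subgroup G)) (mem_zpowers x))
      rw [mem_centralizer_iff]
      exact fun v hv => (h.abelianTwo S S.isPGroup' v hv x hxS).eq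
    · exact hcon x hx hp h2
  refine hns (CfsgLib.ConstDiff.burnside S fun g hg => ?_).1
  suffices key : ∀ n : ℕ, ∀ g ∈ N, orderOf g = n → g ∈ C from key _ g hg rfl
  intro n
  induction n using Nat.strong_induction_on with
  | _ n ih =>
  intro g hg hn
  by_cases hn1 : n = 1
  · rw [orderOf_eq_one_iff.1 (hn.trans hn1)]; exact one_mem _
  set p := n.minFac with hp
  have hpp : p.Prime := Nat.minFac_prime hn1
  have hn0 : 0 < n := hn ▸ orderOf_pos g
  have hsmall : ∀ q : ℕ, q.Prime → q ∣ n → g ^ q ∈ C := by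
    intro q hq hqn
    refine ih (n / q) (Nat.div_lt_self hn0 hq.one_lt) _ (pow_mem hg q) ?_
    rw [orderOf_pow_of_dvd hq.ne_zero (hn ▸ hqn), hn]
  by_cases hex : ∃ q : ℕ, q.Prime ∧ q ≠ p ∧ q ∣ n
  · obtain ⟨q, hq, hqp, hqn⟩ := hex
    have h1 : (g ^ (p : ℤ)) ^ (Nat.gcdA p q) * (g ^ (q : ℤ)) ^ (Nat.gcdB p q) = g := by
      rw [← zpow_mul, ← zpow_mul, ← zpow_add, ← Nat.gcd_eq_gcd_ab,
        (Nat.coprime_primes hpp hq).2 hqp.symm]
      simp
    rw [← h1]
    refine mul_mem (zpow_mem ?_ _) (zpow_mem ?_ _) <;> rw [zpow_natCast]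
    · exact hsmall p hpp n.minFac_dvd
    · exact hsmall q hq hqn
  push Not at hex
  have hnp : n = p ^ n.primeFactorsList.length :=
    Nat.eq_prime_pow_of_unique_prime_dvd hn0.ne' fun {d} hd hdn => by
      by_contra hne
      exact hex d hd hne hdn
  obtain ⟨k, hk⟩ : ∃ k, n.primeFactorsList.length = k := ⟨_, rfl⟩
  have hk2 : k ≤ 2 := hk ▸ hn ▸ h.tc.length_le_two g
  rw [hk] at hnp
  interval_cases k
  · exact absurd (by rw [hnp, pow_zero]) hn1
  · exact hprime g hg (by rw [hn, hnp, pow_one]; exact hpp)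
  · exfalso
    have hmem := hsmall p hpp n.minFac_dvd
    have hord : orderOf (g ^ p) = p := by
      rw [orderOf_pow_of_dvd hpp.ne_zero (hn ▸ n.minFac_dvd), hn, hnp, sq]
      exact Nat.mul_div_cancel _ hpp.pos
    have hcomm : Commute t (g ^ p) := (mem_centralizer_iff.1 hmem t ht :)
    have hpn : p ∣ orderOf g := hn ▸ n.minFac_dvd
    by_cases hp2 : p = 2
    · rcases h.even_order (g := g) (hp2 ▸ hpn) with e | e <;> rw [hn, hnp, hp2] at e
      · omega
      · have := h.prime.two_le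
        have := h.ne_two
        omega
    · have hpr := h.eq_of_commute_involution hto hcomm hpp hord hp2
      rcases h.r_order (g := g) (hpr ▸ hpn) with e | e <;> rw [hn, hnp, hpr, sq] at e
      · exact h.prime.ne_one (by simpa [h.prime.ne_zero] using e)
      · exact h.ne_two (Nat.eq_of_mul_eq_mul_right h.prime.pos e)

/-- A Sylow 2-subgroup contains two involutions. -/
theorem CaseB.exists_pair {r : ℕ} (h : CaseB G r) (hns : ¬ Group.IsSolvable G) (S : Sylow 2 G) :
    ∃ a ∈ (S : Subgroup G), ∃ b ∈ (S : Subgroup G),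
      orderOf a = 2 ∧ orderOf b = 2 ∧ a ≠ b := by
  classical
  haveI : Fact (Nat.Prime 2) := ⟨Nat.prime_two⟩
  haveI := Fintype.ofFinite ↥(S : Subgroup G)
  have hcard : 2 < Fintype.card ↥(S : Subgroup G) := by
    by_contra hle
    exact hns (CfsgLib.ConstDiff.solvable_of_card_le_two S
      (by rw [Nat.card_eq_fintype_card]; omega))
  obtain ⟨x, hx⟩ := Fintype.exists_ne_of_one_lt_card (by omega) (1 : ↥(S : Subgroup G))
  obtain ⟨y, hy1, hy⟩ : ∃ y : ↥(S : Subgroup G), y ≠ 1 ∧ y ≠ x := by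
    by_contra hall
    push Not at hall
    have hsub : (Finset.univ : Finset ↥(S : Subgroup G)) ⊆ {1, x} := fun y _ => by
      by_cases hy : y = 1
      · simp [hy]
      · simp [hall y hy]
    have := Finset.card_le_card hsub
    have := Finset.card_insert_le (1 : ↥(S : Subgroup G)) {x}
    simp only [Finset.card_univ, Finset.card_singleton] at *
    omega
  have ho : ∀ z : ↥(S : Subgroup G), z ≠ 1 → orderOf (z : G) = 2 := fun z hz =>
    CfsgLib.Involutions.orderOf_eq_two_iff_mul.2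
      ⟨fun e => hz (Subtype.ext e), h.sq_eq_one (isTwo_of_mem S.isPGroup' z.2)⟩
  exact ⟨x, x.2, y, y.2, ho x hx, ho y hy1, fun e => hy (Subtype.ext e).symm⟩

/-- The core of odd order is an `r`-group. -/
theorem CaseB.isPGroup_core {r : ℕ} (h : CaseB G r) (hns : ¬ Group.IsSolvable G) :
    IsPGroup r ↥(Cfsg.pPrimeCore 2 G) := by
  haveI : Fact (Nat.Prime 2) := ⟨Nat.prime_two⟩
  haveI := Fact.mk h.prime
  set R := Cfsg.pPrimeCore 2 G with hR
  haveI : R.Normal := Cfsg.pPrimeCore_normal _ _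
  refine IsPGroup.of_card (n := (Nat.card R).primeFactorsList.length)
    (Nat.eq_prime_pow_of_unique_prime_dvd Nat.card_pos.ne' ?_)
  intro q hq hqR
  by_contra hqr
  haveI := Fact.mk hq
  have hq2 : q ≠ 2 := by
    rintro rfl
    exact CfsgLib.PCore.not_dvd_card_pPrimeCore (p := 2) (G := G) hqR
  obtain ⟨Q⟩ := (inferInstance : Nonempty (Sylow q ↥R))
  set N := normalizer (((Q : Subgroup ↥R).map R.subtype : Subgroup G) : Set G) with hN
  have hidx : ¬ 2 ∣ N.index := by
    have h1 : N ⊔ R = ⊤ := Sylow.normalizer_sup_eq_top Q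
    have h3 : R.relIndex N * N.index = N.relIndex R * R.index := by
      have e1 := relIndex_mul_index (inf_le_left : N ⊓ R ≤ N)
      have e2 := relIndex_mul_index (inf_le_right : N ⊓ R ≤ R)
      rw [inf_relIndex_left] at e1
      rw [inf_relIndex_right] at e2
      rw [e1, e2]
    have h4 : R.relIndex N = R.index := by
      rw [← relIndex_sup_right, h1, relIndex_top_right]
    rw [h4, mul_comm (N.relIndex R)] at h3
    rw [Nat.eq_of_mul_eq_mul_left (Nat.pos_of_ne_zero index_ne_zero_of_finite) h3]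
    exact fun h2 => CfsgLib.PCore.not_dvd_card_pPrimeCore (p := 2) (G := G)
      (h2.trans (relIndex_dvd_card N R))
  obtain ⟨P⟩ := (inferInstance : Nonempty (Sylow 2 ↥N))
  set PG := (P : Subgroup ↥N).map N.subtype
  have hPN : PG ≤ N := map_subtype_le _
  have hPidx : ¬ 2 ∣ PG.index := by
    rw [Subgroup.index_map_subtype]
    exact Nat.prime_two.not_dvd_mul P.not_dvd_index hidx
  let S : Sylow 2 G := (P.isPGroup'.map N.subtype).toSylow hPidx
  obtain ⟨a, ha, b, hb, ha2, hb2, hab⟩ := h.exists_pair hns S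
  have ha' : a ∈ N := hPN ha
  have hb' : b ∈ N := hPN hb
  set QG := (Q : Subgroup ↥R).map R.subtype
  have hQp : IsPGroup q ↥QG := Q.isPGroup'.map _
  have hfix : ∀ t : G, orderOf t = 2 → ∀ x ∈ QG, Commute x t → x = 1 := by
    intro t ht x hx hxt
    by_contra hx1
    obtain ⟨k, hk⟩ := IsPGroup.iff_orderOf.1 hQp ⟨x, hx⟩
    rw [orderOf_mk] at hk
    rcases k with _ | k
    · exact hx1 (orderOf_eq_one_iff.1 (by simpa using hk))
    · obtain ⟨y, hy, hyo⟩ := exists_orderOf_eq (g := x) (d := q)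
        (hk ▸ dvd_pow_self q k.succ_ne_zero)
      obtain ⟨j, rfl⟩ := mem_zpowers_iff.1 hy
      exact hqr (h.eq_of_commute_involution ht (hxt.symm.zpow_right j) hq hyo hq2)
  have hab2 : orderOf (a * b) = 2 :=
    CfsgLib.Involutions.orderOf_eq_two_iff_mul.2
      ⟨fun e => hab ((mul_eq_one_iff_eq_inv.1 e).trans
          (CfsgLib.Involutions.inv_eq_self_of_involution hb2)),
        h.sq_eq_one (isTwo_of_mem S.isPGroup' (mul_mem ha hb))⟩
  have hQ1 : QG ≠ ⊥ := by
    intro e
    have h1 : Nat.card ↥(Q : Subgroup ↥R) = 1 := by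
      rw [← card_map_of_injective (K := (Q : Subgroup ↥R)) R.subtype_injective]
      exact card_eq_one.2 e
    have := Q.dvd_card_of_dvd_card hqR
    rw [h1] at this
    exact hq.ne_one (Nat.dvd_one.1 this)
  obtain ⟨x, hx, hx1⟩ := (bot_or_exists_ne_one _).resolve_left hQ1
  have ea := inverts_of_fpf (CfsgLib.Involutions.mul_self_eq_one ha2) ha' (hfix a ha2)
  have eb := inverts_of_fpf (CfsgLib.Involutions.mul_self_eq_one hb2) hb' (hfix b hb2)
  have hc : a * b * x * (a * b)⁻¹ = x := by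
    calc a * b * x * (a * b)⁻¹ = a * (b * x * b⁻¹) * a⁻¹ := by group
      _ = x := by rw [eb x hx, ea _ (inv_mem hx), inv_inv]
  refine hx1 (hfix (a * b) hab2 x hx ?_)
  exact (mul_inv_eq_iff_eq_mul.1 hc).symm

/-- The core of odd order is trivial. -/
theorem CaseB.pPrimeCore_eq_bot {r : ℕ} (h : CaseB G r) (hns : ¬ Group.IsSolvable G) :
    Cfsg.pPrimeCore 2 G = ⊥ := by
  haveI : Fact (Nat.Prime 2) := ⟨Nat.prime_two⟩
  haveI := Fact.mk h.prime
  set R := Cfsg.pPrimeCore 2 G with hR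
  haveI : R.Normal := Cfsg.pPrimeCore_normal _ _
  have hRr : IsPGroup r ↥R := h.isPGroup_core hns
  by_contra hR1
  set A := (Subgroup.center ↥R).map R.subtype with hAdef
  have hAn : A.Normal := inferInstance
  have hAR : A ≤ R := map_subtype_le _
  haveI hAc : IsMulCommutative ↥A := inferInstance
  have hA1 : A ≠ ⊥ := by
    haveI : Nontrivial ↥R := (nontrivial_iff_ne_bot R).2 hR1
    haveI := hRr.center_nontrivial
    rw [hAdef, Ne, map_eq_bot_iff_of_injective _ R.subtype_injective, ← Ne,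
      ← nontrivial_iff_ne_bot]
    infer_instance
  have hAr : ∀ a ∈ A, a ≠ 1 → orderOf a = r := fun a ha ha1 =>
    orderOf_eq_prime (h.pow_r_eq_one_of_mem hRr (hAR ha)) ha1
  obtain ⟨S⟩ := (inferInstance : Nonempty (Sylow 2 G))
  obtain ⟨x, hx, hp, hp2, hxC⟩ := h.exists_prime_normalizing hns S
  obtain ⟨p, hpx⟩ : ∃ p, orderOf x = p := ⟨_, rfl⟩
  rw [hpx] at hp hp2
  have hxp : x ^ p = 1 := hpx ▸ pow_orderOf_eq_one x
  have hSc : ∀ a ∈ (S : Subgroup G), ∀ b ∈ (S : Subgroup G), Commute a b :=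
    h.abelianTwo S S.isPGroup'
  have hxS : ∀ s ∈ (S : Subgroup G), x * s * x⁻¹ ∈ (S : Subgroup G) :=
    fun s hs => (mem_normalizer_iff.1 hx s).1 hs
  let φ : ↥(S : Subgroup G) →* G :=
    { toFun := fun s => (s : G)⁻¹ * (x * s * x⁻¹)
      map_one' := by simp
      map_mul' := fun s u => by
        simp only [Subgroup.coe_mul]
        have e1 : Commute (u : G)⁻¹ ((s : G)⁻¹ * (x * s * x⁻¹)) :=
          hSc _ (inv_mem u.2) _ (mul_mem (inv_mem s.2) (hxS _ s.2))
        calc ((s : G) * u)⁻¹ * (x * (s * u) * x⁻¹)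
            = (u : G)⁻¹ * ((s : G)⁻¹ * (x * s * x⁻¹)) * (x * u * x⁻¹) := by group
          _ = _ := by rw [e1.eq]; group }
  set T0 := φ.range
  have hT0S : T0 ≤ (S : Subgroup G) := by
    rintro _ ⟨s, rfl⟩
    exact mul_mem (inv_mem s.2) (hxS _ s.2)
  have hT0n : x ∈ normalizer (T0 : Set G) := by
    refine mem_normalizer_of_forall ?_
    rintro _ ⟨s, rfl⟩
    refine ⟨⟨x * s * x⁻¹, hxS _ s.2⟩, ?_⟩
    show (x * (s : G) * x⁻¹)⁻¹ * (x * (x * s * x⁻¹) * x⁻¹) = x * ((s : G)⁻¹ * (x * s * x⁻¹)) * x⁻¹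
    group
  have hfix : ∀ c ∈ T0, Commute c x → c = 1 := by
    rintro _ ⟨s, rfl⟩ hc
    have hu2 : φ s * φ s = 1 := h.sq_eq_one (isTwo_of_mem S.isPGroup' (hT0S ⟨s, rfl⟩))
    have e : φ s * x = (s : G)⁻¹ * x * s := by
      show (s : G)⁻¹ * (x * s * x⁻¹) * x = _
      group
    have h1 : (φ s * x) ^ p = 1 := by
      rw [e, show (s : G)⁻¹ * x * s = (s : G)⁻¹ * x * ((s : G)⁻¹)⁻¹ by group, conj_pow, hxp]
      group
    rw [hc.mul_pow, hxp, mul_one] at h1
    obtain ⟨j, hj⟩ := hp.odd_of_ne_two hp2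
    rw [hj, pow_succ, pow_mul, sq, hu2, one_pow, one_mul] at h1
    exact h1
  have hxA : x ∈ normalizer (A : Set G) := by rw [normalizer_eq_top A]; exact mem_top x
  have hcop : Nat.Coprime (Nat.card A) (Nat.card T0) := by
    obtain ⟨i, hi⟩ := IsPGroup.iff_card.1 (hRr.to_le hAR)
    obtain ⟨j, hj⟩ := IsPGroup.iff_card.1 (S.isPGroup'.to_le hT0S)
    rw [hi, hj]
    exact Nat.Coprime.pow i j h.coprime_two_r.symm
  have hN : ∀ a ∈ A, (a * x) ^ p = 1 := by
    intro a ha
    by_cases hpr : p = r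
    · subst hpr
      have h1 : (a * x) ^ p ∈ A := by
        have e := coe_prod_conj_pow A hxA ⟨a, ha⟩ p
        rw [hxp, mul_one] at e
        rw [e]
        exact SetLike.coe_mem _
      have h2 : (a * x) ^ (p ^ 2) = 1 := by
        rw [sq, pow_mul]
        exact h.pow_r_eq_one_of_mem hRr (hAR h1)
      obtain ⟨k, -, hk⟩ := (Nat.dvd_prime_pow hp).1 (orderOf_dvd_of_pow_eq_one h2)
      exact h.pow_r_eq_one hk
    · refine pow_eq_one_of_fpf hxp hxA (fun b hb hc => ?_) ha
      by_contra hb1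
      exact hp2 (h.eq_of_commute_r (hAr b hb hb1) hc.symm hp hpx hpr)
  have hcent := centralizes_of_norm hp hxp (by rw [normalizer_eq_top A]; exact le_top) hxA hT0n
    hfix hcop hN
  have hTC : T0 ≤ centralizer (A : Set G) := fun c hc => by
    rw [mem_centralizer_iff]
    exact fun a ha => (hcent a ha c hc).eq.symm
  have hT01 : T0 ≠ ⊥ := by
    intro e
    refine hxC ?_
    rw [mem_centralizer_iff]
    intro s hs
    have h0 : φ ⟨s, hs⟩ = 1 := by
      have : φ ⟨s, hs⟩ ∈ T0 := ⟨_, rfl⟩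
      rwa [e, mem_bot] at this
    have h1 : x * s * x⁻¹ = s := (inv_mul_eq_one.1 h0).symm
    exact (mul_inv_eq_iff_eq_mul.1 h1).symm
  -- the quotient by the core has a nontrivial solvable normal subgroup
  obtain ⟨a, ha, ha1⟩ := (bot_or_exists_ne_one A).resolve_left hA1
  haveI := h.isSolvable_centralizer_r (hAr a ha ha1)
  have hCle : centralizer (A : Set G) ≤ centralizer ({a} : Set G) :=
    centralizer_le (Set.singleton_subset_iff.2 ha)
  haveI : Group.IsSolvable ↥(centralizer (A : Set G)) :=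
    Group.isSolvable_of_isSolvable_injective (inclusion_injective hCle)
  set π := QuotientGroup.mk' R
  have hπ : Function.Surjective π := QuotientGroup.mk'_surjective R
  set K := (centralizer (A : Set G)).map π with hKdef
  haveI : K.Normal := Subgroup.Normal.map inferInstance π hπ
  haveI : Group.IsSolvable ↥K :=
    Group.isSolvable_of_surjective (MonoidHom.subgroupMap_surjective π (centralizer (A : Set G)))
  have hQns : ¬ Group.IsSolvable (G ⧸ R) := fun hs =>
    hns ((Group.isSolvable_iff_subgroup_quotient R).2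
      ⟨isSolvable_of_odd (Nat.coprime_two_right.1 CfsgLib.PCore.pPrimeCore_coprime), hs⟩)
  have hK2 : Cfsg.pCore 2 ↥K = ⊥ :=
    CfsgLib.PCore.pCore_eq_bot_of_normal K
      ((h.tc.quotient R).pCore_eq_bot (h.abelianTwo.of_surjective π hπ) hQns)
  have hKO : Cfsg.pPrimeCore 2 ↥K = ⊥ :=
    CfsgLib.PCore.pPrimeCore_eq_bot_of_normal K
      (CfsgLib.PCore.pPrimeCore_quotient_pPrimeCore (p := 2) (G := G))
  have htop := CfsgLib.InvChar.centralizer_pCore_le (G := ↥K) (p := 2) hKO
  rw [hK2] at htop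
  obtain ⟨c, hc, hc1⟩ := (bot_or_exists_ne_one T0).resolve_left hT01
  have hmem : (⟨π c, ⟨c, hTC hc, rfl⟩⟩ : ↥K) = 1 := by
    refine mem_bot.1 (htop ?_)
    rw [mem_centralizer_iff]
    intro y hy
    rw [coe_bot, Set.mem_singleton_iff] at hy
    simp [hy]
  have hcR : c ∈ R := by
    have e : π c = 1 := congrArg Subtype.val hmem
    rwa [QuotientGroup.mk'_apply, QuotientGroup.eq_one_iff] at e
  refine hc1 ?_
  have := CfsgLib.PCore.inf_eq_bot_of_isPGroup_coprime (p := 2)
    (S.isPGroup'.to_le hT0S) (CfsgLib.PCore.pPrimeCore_coprime (G := G))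
  exact mem_bot.1 (this ▸ mem_inf.2 ⟨hc, hcR⟩)

end CfsgLib.ThreeOrders
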