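import Mathlib
import Cfsg.Agent.Lib.ThreeOrders.Radical
import Cfsg.Agent.Lib.PLocal.Constraint
import Cfsg.Agent.Lib.BenderTrans.Main
import Cfsg.Agent.S3110

/-!
# The strongly embedded Sylow normalizer in rank at least three

With an element of order `2 r` and Sylow 2-subgroups of order at least eight, the normalizer of a
Sylow 2-subgroup is strongly embedded.
-/

set_option autoImplicit false
set_option linter.style.haveILetI false

namespace CfsgLib.ThreeOrders

open Subgroup CfsgLib.CIT CfsgLib.Involutions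

universe u

variable {G : Type u} [Group G] [Finite G]

/-- A solvable group is 2-constrained. -/
theorem isPConstrained_of_solvable (X : Type u) [Group X] [Finite X] [Group.IsSolvable X] :
    Cfsg.IsPConstrained 2 X := by
  haveI : Fact (Nat.Prime 2) := ⟨Nat.prime_two⟩
  obtain ⟨S⟩ := (inferInstance : Nonempty (Sylow 2 X))
  exact CfsgLib.PLocal.isPConstrained_of_pSolvable_centralizer S
    CfsgLib.PCore.isPSolvable_of_isSolvable

theorem faithful_of_core {H : Subgroup G} (hH : Cfsg.IsStronglyEmbedded H)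
    (hO : Cfsg.pPrimeCore 2 G = ⊥) : ∀ g : G, (∀ x : G ⧸ H, g • x = x) → g = 1 := by
  haveI : Fact (Nat.Prime 2) := ⟨Nat.prime_two⟩
  have h := CfsgLib.BenderTrans.oneFix_of_stronglyEmbedded hH
  intro g hg
  set φ := MulAction.toPermHom G (G ⧸ H)
  have hk : ∀ k ∈ φ.ker, ∀ x : G ⧸ H, k • x = x := fun k hk x => by
    rw [MonoidHom.mem_ker] at hk
    exact Equiv.congr_fun hk x
  have hmem : g ∈ φ.ker := by
    rw [MonoidHom.mem_ker]
    exact Equiv.ext hg
  have hodd : ¬ 2 ∣ Nat.card ↥φ.ker := by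
    intro h2
    obtain ⟨t, ht⟩ := exists_prime_orderOf_dvd_card' 2 h2
    obtain ⟨y, hy⟩ := h.nontriv ((1 : G) : G ⧸ H)
    exact hy (h.unique t ((orderOf_coe t).trans ht) _ _ (hk t t.2 y) (hk t t.2 _))
  have := CfsgLib.PCore.le_pPrimeCore_of_not_dvd (p := 2) (MonoidHom.normal_ker φ) hodd hmem
  rw [hO] at this
  exact mem_bot.1 this

omit [Finite G] in
/-- A square-trivial element normalizing a Sylow 2-subgroup lies in it. -/
theorem mem_of_normalizes {S : Sylow 2 G} {u : G} (hu : u * u = 1)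
    (hn : u ∈ normalizer ((S : Subgroup G) : Set G)) : u ∈ (S : Subgroup G) := by
  haveI : Fact (Nat.Prime 2) := ⟨Nat.prime_two⟩
  have hp : IsPGroup 2 ↥(zpowers u) := by
    intro ⟨x, hx⟩
    obtain ⟨j, rfl⟩ := mem_zpowers_iff.1 hx
    refine ⟨1, Subtype.ext ?_⟩
    show (u ^ j) ^ (2 ^ 1) = 1
    rw [pow_one, sq, ← zpow_add, ← two_mul, zpow_mul, zpow_two, hu, one_zpow]
  exact (S.is_maximal' (hp.to_sup_of_normal_right' S.isPGroup' (zpowers_le.2 hn)) le_sup_right).le
    (le_sup_left (b := (S : Subgroup G)) (mem_zpowers u))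

variable {r : ℕ}

theorem CaseB.orderOf_mem_sylow (h : CaseB G r) {S : Sylow 2 G} {a : G}
    (ha : a ∈ (S : Subgroup G)) (ha1 : a ≠ 1) : orderOf a = 2 :=
  orderOf_eq_two_iff_mul.2 ⟨ha1, h.sq_eq_one (isTwo_of_mem S.isPGroup' ha)⟩

theorem CaseB.hasFour (h : CaseB G r) (hns : ¬ Group.IsSolvable G) :
    CfsgLib.BenderTrans.HasFour G := by
  obtain ⟨S⟩ := (inferInstance : Nonempty (Sylow 2 G))
  obtain ⟨a, ha, b, hb, ha2, hb2, hne⟩ := h.exists_pair hns S
  exact ⟨a, b, ha2, hb2, hne, h.abelianTwo S S.isPGroup' a ha b hb⟩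

theorem odd_solvable_all : ∀ X : Type u, ∀ _ : Group X, ∀ _ : Finite X, Odd (Nat.card X) →
    Group.IsSolvable X := fun X _ _ hX => CfsgLib.PF.oddSolvable X hX

/-- Bender's conclusions for a strongly embedded subgroup. -/
theorem CaseB.concl (h : CaseB G r) (hns : ¬ Group.IsSolvable G) {H : Subgroup G}
    (hH : Cfsg.IsStronglyEmbedded H) : CfsgLib.BenderTrans.Concl G (G ⧸ H) :=
  CfsgLib.BenderTrans.concl_of_card_le (Nat.card G) G (G ⧸ H) le_rfl odd_solvable_all
    (CfsgLib.BenderTrans.oneFix_of_stronglyEmbedded hH)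
    (faithful_of_core hH (h.pPrimeCore_eq_bot hns)) (h.hasFour hns)

/-- A subgroup containing the normalizer of `S` and the centralizers of its involutions is strongly
embedded. -/
theorem CaseB.stronglyEmbedded_of_centralizers (h : CaseB G r) (hns : ¬ Group.IsSolvable G)
    (S : Sylow 2 G) {M : Subgroup G} (hM : M ≠ ⊤)
    (hN : normalizer ((S : Subgroup G) : Set G) ≤ M)
    (hC : ∀ a ∈ (S : Subgroup G), a ≠ 1 → centralizer ({a} : Set G) ≤ M) :
    Cfsg.IsStronglyEmbedded M := by
  haveI : Fact (Nat.Prime 2) := ⟨Nat.prime_two⟩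
  haveI : IsMulCommutative ↥(S : Subgroup G) :=
    ⟨⟨fun a b => Subtype.ext (h.abelianTwo S S.isPGroup' a a.2 b b.2).eq⟩⟩
  have hSM : (S : Subgroup G) ≤ M := le_trans le_normalizer hN
  refine ⟨hM, ?_, fun g hg => ?_⟩
  · obtain ⟨a, ha, -, -, ha2, -⟩ := h.exists_pair hns S
    exact even_iff_two_dvd.2 (ha2 ▸ orderOf_dvd_natCard M (hSM ha))
  rw [← Nat.not_even_iff_odd, even_iff_two_dvd]
  intro h2
  obtain ⟨z, hz⟩ := exists_prime_orderOf_dvd_card' 2 h2
  have hzo : orderOf (z : G) = 2 := (orderOf_coe z).trans hz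
  obtain ⟨hzM, w, hwM, hw⟩ := z.2
  have hconj : ∀ v ∈ M, orderOf v = 2 → ∃ m ∈ M, m * v * m⁻¹ ∈ (S : Subgroup G) := by
    intro v hv hvo
    have hp : IsPGroup 2 ↥((zpowers v).subgroupOf M) :=
      (IsPGroup.of_card (n := 1) (by rw [Nat.card_zpowers, hvo, pow_one]) :
        IsPGroup 2 ↥(zpowers v)).comap_subtype
    obtain ⟨P, hP⟩ := hp.exists_le_sylow
    obtain ⟨m, hm⟩ := MulAction.exists_smul_eq ↥M P (S.subtype hSM)
    refine ⟨m, m.2, ?_⟩
    have h1 : (MulAut.conj m) (⟨v, hv⟩ : ↥M) ∈ (S.subtype hSM : Subgroup ↥M) := by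
      rw [← hm, Sylow.coe_subgroup_smul]
      exact smul_mem_pointwise_smul _ (MulAut.conj m) _ (hP (mem_zpowers v))
    exact h1
  obtain ⟨m, hm, hma⟩ := hconj _ hzM hzo
  have hwo : orderOf w = 2 := by
    rw [← hzo, ← hw]
    exact (orderOf_injective _ (MulEquiv.injective (MulAut.conj g)) w).symm
  obtain ⟨m', hm', hmb⟩ := hconj w hwM hwo
  have hzw : g * w * g⁻¹ = (z : G) := hw
  set a := m * (z : G) * m⁻¹ with ha
  obtain ⟨n, hn, e⟩ := S.conj_eq_normalizer_conj_of_mem a (m * g * m'⁻¹) hma (by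
    have e : (m * g * m'⁻¹)⁻¹ * a * (m * g * m'⁻¹) = m' * w * m'⁻¹ := by
      rw [ha, ← hzw]; group
    rw [e]; exact hmb)
  have ha1 : a ≠ 1 := by
    intro e1
    rw [ha] at e1
    have h1 := congrArg orderOf e1
    rw [orderOf_conj_eq, orderOf_one, hzo] at h1
    omega
  have hmem : (m * g * m'⁻¹) * n⁻¹ ∈ centralizer ({a} : Set G) := by
    rw [mem_centralizer_singleton_iff]
    calc m * g * m'⁻¹ * n⁻¹ * a
        = (m * g * m'⁻¹) * (n⁻¹ * a * n) * n⁻¹ := by group
      _ = _ := by rw [← e]; group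
  refine hg ?_
  have h1 : m * g * m'⁻¹ ∈ M := by
    have := mul_mem (hC a hma ha1 hmem) (hN hn)
    rwa [inv_mul_cancel_right] at this
  have h2 := mul_mem (mul_mem (inv_mem hm) h1) hm'
  rwa [show m⁻¹ * (m * g * m'⁻¹) * m' = g by group] at h2

/-- The normalizer of a Sylow 2-subgroup of order at least eight is strongly embedded. -/
theorem CaseB.stronglyEmbedded (h : CaseB G r) (hns : ¬ Group.IsSolvable G) (S : Sylow 2 G)
    (h8 : 8 ≤ Nat.card ↥(S : Subgroup G)) :
    Cfsg.IsStronglyEmbedded (normalizer ((S : Subgroup G) : Set G)) := by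
  haveI : Fact (Nat.Prime 2) := ⟨Nat.prime_two⟩
  haveI hcomm : IsMulCommutative ↥(S : Subgroup G) :=
    ⟨⟨fun a b => Subtype.ext (h.abelianTwo S S.isPGroup' a a.2 b b.2).eq⟩⟩
  haveI : IsMulCommutative ↥(⊤ : Subgroup ↥(S : Subgroup G)) :=
    ⟨⟨fun a b => Subtype.ext (mul_comm' (a : ↥(S : Subgroup G)) b)⟩⟩
  have hrank : ∀ k : ℕ, 2 ^ k < Nat.card ↥(S : Subgroup G) →
      ¬ Cfsg.PRankLE 2 k ↥(S : Subgroup G) := fun k hk hle => by
    have := hle ⊤ inferInstance fun a _ => Subtype.ext
      (by rw [SubgroupClass.coe_pow, sq]; exact h.sq_eq_one (isTwo_of_mem S.isPGroup' a.2))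
    rw [card_top] at this
    omega
  have hrank2 : ¬ Cfsg.PRankLE 2 2 ↥(⊤ : Subgroup ↥(S : Subgroup G)) := fun hle => by
    have := hle ⊤ ⟨⟨fun a b => Subtype.ext (mul_comm' a.1 b.1)⟩⟩
      fun a _ => Subtype.ext (Subtype.ext (by
        rw [SubgroupClass.coe_pow, SubgroupClass.coe_pow, sq]
        exact h.sq_eq_one (isTwo_of_mem S.isPGroup' (a : ↥(S : Subgroup G)).2)))
    rw [card_top, card_top] at this
    omega
  obtain ⟨W, hWodd, hW⟩ := Cfsg.Agent.S3110.result (G := G)
    (fun T hT hT1 => by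
      haveI := h.tc.isSolvable_normalizer h.abelianTwo hT hT1
      exact isPConstrained_of_solvable _)
    S ⊤ inferInstance inferInstance
    (by
      ext x
      simp only [mem_top, iff_true, mem_centralizer_iff]
      exact fun y _ => mul_comm' y x)
    hrank2 S
  obtain ⟨hWgen, hWN⟩ := hW S le_rfl (hrank 1 (by omega))
  set N := normalizer ((S : Subgroup G) : Set G) with hN
  -- centralizers of involutions of `S`
  have hCa : ∀ a ∈ (S : Subgroup G), a ≠ 1 →
      ∀ g ∈ centralizer ({a} : Set G), ∃ k ∈ W, k⁻¹ * g ∈ N := by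
    intro a ha ha1 g hg
    set C := centralizer ({a} : Set G) with hC
    haveI := h.tc.isSolvable_centralizer (h.orderOf_mem_sylow ha ha1)
    have hSC : (S : Subgroup G) ≤ C := fun s hs =>
      mem_centralizer_singleton_iff.2 (h.abelianTwo S S.isPGroup' s hs a ha).eq
    have hab : AbelianTwo ↥C := fun U hU x hx y hy =>
      Subtype.ext (h.abelianTwo (U.map C.subtype) (hU.map _) x ⟨x, hx, rfl⟩ y ⟨y, hy, rfl⟩).eq
    obtain ⟨k, hk, hkN⟩ := exists_core_mul_normalizer hab (S.subtype hSC) ⟨g, hg⟩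
    refine ⟨k, ?_, ?_⟩
    · rw [hWgen]
      exact mem_iSup_of_mem (⟨a, ha, ha1⟩ : {b : G // b ∈ (S : Subgroup G) ∧ b ≠ 1})
        ⟨k, hk, rfl⟩
    · refine mem_normalizer_of_forall fun s hs => ?_
      have h2 := (mem_normalizer_iff.1 hkN ⟨s, hSC hs⟩).1 hs
      exact h2
  have hS1 : (S : Subgroup G) ≠ ⊥ := by
    intro e
    rw [e, card_bot] at h8
    omega
  by_cases hW1 : W = ⊥
  · refine h.stronglyEmbedded_of_centralizers hns S ?_ le_rfl fun a ha ha1 g hg => ?_
    · intro e
      haveI : (S : Subgroup G).Normal := normalizer_eq_top_iff.1 e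
      exact hS1 (le_bot_iff.1 ((h.tc.pCore_eq_bot h.abelianTwo hns) ▸
        CfsgLib.PCore.le_pCore inferInstance S.isPGroup'))
    · obtain ⟨k, hk, hkN⟩ := hCa a ha ha1 g hg
      rw [hW1, mem_bot] at hk
      rwa [hk, inv_one, one_mul] at hkN
  · set M := normalizer (W : Set G) with hM
    have hMtop : M ≠ ⊤ := by
      intro e
      haveI : W.Normal := normalizer_eq_top_iff.1 e
      exact hW1 (le_bot_iff.1 ((h.pPrimeCore_eq_bot hns) ▸
        CfsgLib.PCore.le_pPrimeCore (p := 2) inferInstance (Nat.coprime_two_right.2 hWodd)))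
    have hSE : Cfsg.IsStronglyEmbedded M := by
      refine h.stronglyEmbedded_of_centralizers hns S hMtop hWN fun a ha ha1 g hg => ?_
      obtain ⟨k, hk, hkN⟩ := hCa a ha ha1 g hg
      have := mul_mem (le_normalizer (H := W) hk) (hWN hkN)
      rwa [mul_inv_cancel_left] at this
    have hstab : MulAction.stabilizer G ((1 : G) : G ⧸ M) = M := by
      ext g
      rw [MulAction.mem_stabilizer_iff, ← StrongEmbedding.mem_iff_smul_base]
    have hcore := (h.concl hns hSE).core ((1 : G) : G ⧸ M)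
    -- involutions of `M` centralize `W`
    have hWc : ∀ t ∈ M, orderOf t = 2 → ∀ w ∈ W, Commute w t := fun t ht hto =>
      hcore W (hstab.symm ▸ le_normalizer) (hstab.symm ▸ le_rfl) hWodd t
        ⟨hto, StrongEmbedding.mem_iff_smul_base.1 ht⟩
    have hMN : M = N := by
      refine le_antisymm ?_ hWN
      -- every involution of `M` lies in `S`
      obtain ⟨w, hw, hw1⟩ := (bot_or_exists_ne_one W).resolve_left hW1
      obtain ⟨a, ha, -, -, ha2, -⟩ := h.exists_pair hns S
      obtain ⟨s, hs, hsw⟩ := Nat.exists_prime_and_dvd (mt orderOf_eq_one_iff.1 hw1)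
      obtain ⟨v, hv, hvo⟩ := exists_orderOf_eq hsw
      have hvW : v ∈ W := zpowers_le.2 hw hv
      have hs2 : s ≠ 2 := fun e => (Nat.not_even_iff_odd.2 hWodd)
        (even_iff_two_dvd.2 (e ▸ hvo ▸ orderOf_dvd_natCard W hvW))
      have hsr : s = r := h.eq_of_commute_involution ha2
        (hWc a (hWN (le_normalizer ha)) ha2 v hvW).symm hs hvo hs2
      set C := centralizer ({v} : Set G) with hC
      haveI := h.isSolvable_centralizer_r (hvo.trans hsr)
      set K := Subgroup.closure {t : G | t ∈ M ∧ orderOf t = 2} with hK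
      have hKC : K ≤ C := (closure_le _).2 fun t ht =>
        mem_centralizer_singleton_iff.2 (hWc t ht.1 ht.2 v hvW).eq.symm
      have hKM : K ≤ M := (closure_le _).2 fun t ht => ht.1
      haveI : Group.IsSolvable ↥K := Group.isSolvable_of_isSolvable_injective (inclusion_injective hKC)
      have hSK : (S : Subgroup G) ≤ K := fun s hs => by
        by_cases hs1 : s = 1
        · exact hs1 ▸ one_mem K
        · exact subset_closure ⟨hWN (le_normalizer hs), h.orderOf_mem_sylow hs hs1⟩
      have hab : AbelianTwo ↥K := fun U hU x hx y hy =>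
        Subtype.ext (h.abelianTwo (U.map K.subtype) (hU.map _) x ⟨x, hx, rfl⟩ y ⟨y, hy, rfl⟩).eq
      have hKn : M ≤ normalizer (K : Set G) := fun m hm => mem_normalizer_of_forall fun n hn => by
        induction hn using closure_induction with
        | mem t ht =>
          exact subset_closure ⟨mul_mem (mul_mem hm ht.1) (inv_mem hm),
            (orderOf_conj_eq m t).trans ht.2⟩
        | one => simp
        | mul x y _ _ hx hy =>
          rw [show m * (x * y) * m⁻¹ = (m * x * m⁻¹) * (m * y * m⁻¹) by group]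
          exact mul_mem hx hy
        | inv x _ hx =>
          rw [show m * x⁻¹ * m⁻¹ = (m * x * m⁻¹)⁻¹ by group]
          exact inv_mem hx
      -- the core of `K` centralizes `S`
      set OK := (Cfsg.pPrimeCore 2 ↥K).map K.subtype with hOK
      have hOodd : Odd (Nat.card ↥OK) := by
        rw [hOK, card_map_of_injective K.subtype_injective]
        exact Nat.coprime_two_right.1 CfsgLib.PCore.pPrimeCore_coprime
      have hOn : M ≤ normalizer (OK : Set G) := by
        haveI : (K.subgroupOf M).Normal := by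
          rw [normal_subgroupOf_iff_le_normalizer hKM]; exact hKn
        intro m hm
        refine mem_normalizer_of_forall ?_
        rintro _ ⟨x, hx, rfl⟩
        let f : MulAut ↥K := K.normalizerMonoidHom ⟨m, hKn hm⟩
        refine ⟨f x, ?_, rfl⟩
        have hmap := CfsgLib.PCore.map_pPrimeCore_equiv (p := 2) f
        rw [← hmap]
        exact ⟨x, hx, rfl⟩
      have hOc : ∀ k ∈ OK, ∀ s ∈ (S : Subgroup G), Commute k s := by
        intro k hk s hs
        by_cases hs1 : s = 1
        · exact hs1 ▸ Commute.one_right k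
        · exact hcore OK (hstab.symm ▸ le_trans (map_subtype_le _) hKM) (hstab.symm ▸ hOn) hOodd s
            ⟨h.orderOf_mem_sylow hs hs1, StrongEmbedding.mem_iff_smul_base.1
              (hWN (le_normalizer hs))⟩ k hk
      have hinv : ∀ t ∈ M, orderOf t = 2 → t ∈ (S : Subgroup G) := by
        intro t htM hto
        refine mem_of_normalizes (mul_self_eq_one hto) ?_
        obtain ⟨k, hk, hkN⟩ := exists_core_mul_normalizer hab (S.subtype hSK)
          ⟨t, subset_closure ⟨htM, hto⟩⟩
        refine mem_normalizer_of_forall fun s hs => ?_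
        have h2 : (k : G)⁻¹ * t * s * ((k : G)⁻¹ * t)⁻¹ ∈ (S : Subgroup G) :=
          (mem_normalizer_iff.1 hkN ⟨s, hSK hs⟩).1 hs
        have h3 := (hOc k ⟨k, hk, rfl⟩ _ h2).eq
        have h4 : (k : G)⁻¹ * t * s * ((k : G)⁻¹ * t)⁻¹ = t * s * t⁻¹ := by
          have e2 : (k : G) * ((k : G)⁻¹ * t * s * ((k : G)⁻¹ * t)⁻¹) * (k : G)⁻¹ = t * s * t⁻¹ := by
            group
          rwa [h3, mul_inv_cancel_right] at e2
        rwa [h4] at h2
      intro m hm
      refine mem_normalizer_of_forall fun s hs => ?_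
      by_cases hs1 : s = 1
      · simp [hs1]
      · exact hinv _ (mul_mem (mul_mem hm (hWN (le_normalizer hs))) (inv_mem hm))
          ((orderOf_conj_eq m s).trans (h.orderOf_mem_sylow hs hs1))
    exact hMN ▸ hSE

end CfsgLib.ThreeOrders
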