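import Mathlib
import Cfsg.Agent.Lib.CIT.Basic
import Cfsg.Agent.Lib.CIT.Defs
import Cfsg.Agent.Lib.PSL2.Involution
import Cfsg.Agent.Classical.SLBasic

/-!
# No overgroup of index two of `PSL₂(9)`

When every element of even order has order 2 or 4 and centralizers of involutions are 2-groups, a
group has no normal subgroup `PSL₂(9)` of index two.
-/

set_option autoImplicit false
set_option linter.style.haveILetI false

namespace CfsgLib.ThreeOrders.Nine

open Subgroup Matrix

universe u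

theorem orderOf_conj' {G : Type*} [Group G] (g x : G) : orderOf (g * x * g⁻¹) = orderOf x :=
  (MulAut.conj g).orderOf_eq x

theorem centralizer_dihedral {F : Type} [Field F] [Fintype F] (hF : Fintype.card F = 9)
    {i : ProjectiveSpecialLinearGroup (Fin 2) F} (hi : orderOf i = 2) :
    Nonempty (↥(centralizer ({i} : Set (ProjectiveSpecialLinearGroup (Fin 2) F))) ≃*
      DihedralGroup 4) := by
  classical
  have hodd : Odd (Fintype.card F) := by rw [hF]; decide
  obtain ⟨p, hp⟩ := CharP.exists F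
  have : Fact p.Prime := ⟨CharP.char_is_prime F p⟩
  let ι : F →+* AlgebraicClosure F := algebraMap F _
  have : CharP (AlgebraicClosure F) p := charP_of_injective_ringHom ι.injective p
  obtain ⟨Φ, hΦ⟩ := CfsgLib.PSL2.exists_frob (F := F) (L := AlgebraicClosure F) p
  obtain ⟨x, y, h⟩ := CfsgLib.PSL2.exists_isPair_split (ι := ι) (Φ := Φ)
  obtain ⟨j, hj, hC, -⟩ := CfsgLib.PSL2.exists_centralizer_eq hodd hΦ h (by rw [hF]; decide)
  obtain ⟨g, hg⟩ := isConj_iff.1
    (CfsgLib.PSL2.isConj_of_orderOf_two (CfsgLib.PSL2.two_ne_zero_of_odd hodd) hi hj)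
  obtain ⟨-, ⟨φ⟩⟩ := CfsgLib.PSL2.pslPair_dihedral hΦ h
  rw [hF, show (9 - 1) / Nat.gcd 2 (9 - 1) = 4 from rfl] at φ
  refine ⟨(((MulAut.conj g).subgroupMap _).trans (MulEquiv.subgroupCongr ?_)).trans φ⟩
  rw [← hC, ← hg]
  ext z
  change z ∈ (centralizer ({i} : Set _)).map (MulAut.conj g).toMonoidHom ↔ _
  rw [mem_map_equiv, mem_centralizer_singleton_iff, mem_centralizer_singleton_iff,
    MulAut.conj_symm_apply]
  constructor
  · intro e
    calc z * (g * i * g⁻¹) = g * (g⁻¹ * z * g * i) * g⁻¹ := by group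
      _ = g * (i * (g⁻¹ * z * g)) * g⁻¹ := by rw [e]
      _ = g * i * g⁻¹ * z := by group
  · intro e
    calc g⁻¹ * z * g * i = g⁻¹ * (z * (g * i * g⁻¹)) * g := by group
      _ = g⁻¹ * (g * i * g⁻¹ * z) * g := by rw [e]
      _ = i * (g⁻¹ * z * g) := by group

theorem card_psl_nine {F : Type} [Field F] [Fintype F] (hF : Fintype.card F = 9) :
    Nat.card (ProjectiveSpecialLinearGroup (Fin 2) F) = 360 := by
  have h := Cfsg.Agent.Classical.card_psl_mul (F := F) 2 (by norm_num)
  rw [hF, Fin.prod_univ_two] at h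
  norm_num at h
  omega

theorem dihedral_facts :
    (Finset.univ.filter fun y : DihedralGroup 4 => y * y = 1 ∧ y ≠ 1).card ≤ 5 ∧
    (∀ y : DihedralGroup 4, y * y * (y * y) = 1) ∧
    (∀ y : DihedralGroup 4, y * y = 1 → y ≠ 1 →
      (∀ w : DihedralGroup 4, y * w = w * y) → y = DihedralGroup.r 2) ∧
    (∀ y : DihedralGroup 4, y * y = 1 → y ≠ 1 → y * DihedralGroup.r 1 = DihedralGroup.r 1 * y →
      y = DihedralGroup.r 2) ∧
    (∀ y : DihedralGroup 4, y * y ≠ 1 → y = DihedralGroup.r 1 ∨ y = DihedralGroup.r 3) := by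
  decide

section

variable {G : Type u} [Group G] [Finite G] {N : Subgroup G} {F : Type} [Field F] [Fintype F]
  (hF : Fintype.card F = 9) (e : ↥N ≃* ProjectiveSpecialLinearGroup (Fin 2) F)

/-- The centralizer in `N` of an element, as a subgroup of `G`. -/
abbrev centN (N : Subgroup G) (z : G) : Subgroup G := N ⊓ centralizer ({z} : Set G)

omit [Finite G] in
theorem mem_centN {z x : G} : x ∈ centN N z ↔ x ∈ N ∧ Commute x z := by
  rw [mem_inf, mem_centralizer_singleton_iff]
  rfl

include hF e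

omit [Finite G] in
theorem centN_dihedral {z : G} (hz : z ∈ N) (hz2 : orderOf z = 2) :
    Nonempty (↥(centN N z) ≃* DihedralGroup 4) := by
  obtain ⟨φ⟩ := centralizer_dihedral hF (i := e ⟨z, hz⟩)
    (by rw [e.orderOf_eq, orderOf_mk, hz2])
  have hmem : ∀ x : ↥(centN N z), e ⟨x, (mem_centN.1 x.2).1⟩ ∈
      centralizer ({e ⟨z, hz⟩} : Set (ProjectiveSpecialLinearGroup (Fin 2) F)) := fun x => by
    rw [mem_centralizer_singleton_iff, ← map_mul, ← map_mul]
    exact congrArg e (Subtype.ext (mem_centN.1 x.2).2)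
  refine ⟨(MulEquiv.ofBijective (MonoidHom.mk' (fun x : ↥(centN N z) =>
    (⟨_, hmem x⟩ : ↥(centralizer ({e ⟨z, hz⟩} : Set (ProjectiveSpecialLinearGroup (Fin 2) F)))))
    fun a b => Subtype.ext ?_) ⟨fun a b hab => ?_, fun w => ?_⟩).trans φ⟩
  · show e _ = e _ * e _
    rw [← map_mul]
    rfl
  · exact Subtype.ext (congrArg Subtype.val (e.injective (congrArg Subtype.val hab) : _ = _) :)
  · refine ⟨⟨(e.symm w.1 : ↥N), mem_centN.2 ⟨SetLike.coe_mem _, ?_⟩⟩, Subtype.ext ?_⟩
    · have h1 := congrArg e.symm (mem_centralizer_singleton_iff.1 w.2)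
      rw [map_mul, map_mul, e.symm_apply_apply] at h1
      exact congrArg Subtype.val h1
    · exact (congrArg e (Subtype.ext rfl)).trans (e.apply_symm_apply _)

omit [Finite G] in
/-- At most five involutions in such a centralizer. -/
theorem ncard_involutions_le {z : G} (hz : z ∈ N) (hz2 : orderOf z = 2) :
    {x : G | x ∈ centN N z ∧ orderOf x = 2}.ncard ≤ 5 := by
  classical
  obtain ⟨φ⟩ := centN_dihedral hF e hz hz2
  refine le_trans ?_ dihedral_facts.1
  rw [← Set.ncard_coe_finset]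
  refine Set.ncard_le_ncard_of_injOn
    (fun x => if h : x ∈ centN N z then φ ⟨x, h⟩ else 1) (fun x hx => ?_) ?_
  · simp only [dif_pos hx.1, Finset.coe_filter, Finset.mem_univ, true_and, Set.mem_ofPred_eq]
    have hx2 := pow_orderOf_eq_one x
    rw [hx.2, pow_two] at hx2
    refine ⟨by rw [← map_mul, φ.map_eq_one_iff]; exact Subtype.ext hx2, ?_⟩
    rw [ne_eq, φ.map_eq_one_iff]
    intro h
    have h0 : x = 1 := congrArg Subtype.val h
    have h2 : orderOf x = 2 := hx.2
    rw [h0, orderOf_one] at h2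
    exact absurd h2 (by norm_num)
  · intro x hx y hy hxy
    simp only [dif_pos hx.1, dif_pos hy.1] at hxy
    exact congrArg Subtype.val (φ.injective hxy)

/-- At least 45 involutions. -/
theorem le_ncard_involutions {z : G} (hz : z ∈ N) (hz2 : orderOf z = 2) :
    45 ≤ {x : G | x ∈ N ∧ orderOf x = 2}.ncard := by
  obtain ⟨φ⟩ := centN_dihedral hF e hz hz2
  have hle : centN N z ≤ N := inf_le_left
  have hcard : Nat.card ↥N = 360 := (Nat.card_congr e.toEquiv).trans (card_psl_nine hF)
  have hC : Nat.card ↥((centN N z).subgroupOf N) = 8 := by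
    rw [Nat.card_congr (subgroupOfEquivOfLe hle).toEquiv, Nat.card_congr φ.toEquiv,
      DihedralGroup.nat_card]
  have hidx := card_eq_card_quotient_mul_card_subgroup ((centN N z).subgroupOf N)
  rw [hcard, hC] at hidx
  have h45 : 45 = Nat.card (↥N ⧸ (centN N z).subgroupOf N) := by omega
  rw [h45, ← Nat.card_coe_set_eq]
  refine Nat.card_le_card_of_injective
    (fun c => ⟨(c.out : G) * z * (c.out : G)⁻¹,
      mul_mem (mul_mem c.out.2 hz) (inv_mem c.out.2), by rw [orderOf_conj', hz2]⟩) fun c d hcd => ?_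
  have h1 : (c.out : G) * z * (c.out : G)⁻¹ = (d.out : G) * z * (d.out : G)⁻¹ :=
    congrArg Subtype.val hcd
  rw [← c.out_eq', ← d.out_eq', QuotientGroup.eq]
  refine mem_centN.2 ⟨mul_mem (inv_mem c.out.2) d.out.2, ?_⟩
  show (c.out : G)⁻¹ * d.out * z = z * ((c.out : G)⁻¹ * d.out)
  calc (c.out : G)⁻¹ * d.out * z
      = (c.out : G)⁻¹ * ((d.out : G) * z * (d.out : G)⁻¹) * d.out := by group
    _ = (c.out : G)⁻¹ * ((c.out : G) * z * (c.out : G)⁻¹) * d.out := by rw [h1]
    _ = _ := by group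

variable (hG : CfsgLib.CIT.IsCIT G)
  (horder : ∀ x : G, 2 ∣ orderOf x → orderOf x = 2 ∨ orderOf x = 4)
  [N.Normal] (hN : N.index = 2)
include hG horder hN

omit [N.Normal] in
/-- There is no involution outside. -/
theorem no_outer_involution {b : G} (hb : b * b = 1) (hbN : b ∉ N) : False := by
  classical
  have hb2 : orderOf b = 2 := orderOf_eq_prime (by rw [pow_two]; exact hb)
    fun h => hbN (h ▸ N.one_mem)
  haveI : Fact (Nat.Prime 2) := ⟨Nat.prime_two⟩
  have hbi : b⁻¹ = b := inv_eq_of_mul_eq_one_right hb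
  -- every involution of `N` centralizes an involution of `C_N(b)`
  have key : ∀ c : G, c ∈ N → orderOf c = 2 →
      ∃ z : G, z ∈ centN N b ∧ orderOf z = 2 ∧ c ∈ centN N z := by
    intro c hc hc2
    have hcc : c * c = 1 := by rw [← pow_two, ← hc2]; exact pow_orderOf_eq_one c
    have hci : c⁻¹ = c := inv_eq_of_mul_eq_one_right hcc
    have hbc : b * c ∉ N := fun h => hbN ((Subgroup.mul_mem_cancel_right N hc).1 h)
    have hsq : b * c * (b * c) ∈ N := mul_self_mem_of_index_two hN _
    have hev : 2 ∣ orderOf (b * c) := by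
      by_contra hodd
      obtain ⟨j, hj⟩ := Nat.odd_iff.2 (Nat.two_dvd_ne_zero.1 hodd)
      refine hbc ?_
      have : (b * c * (b * c)) ^ (j + 1) = b * c := by
        rw [← pow_two, ← pow_mul, show 2 * (j + 1) = orderOf (b * c) + 1 by omega, pow_succ,
          pow_orderOf_eq_one, one_mul]
      exact this ▸ pow_mem hsq _
    rcases horder _ hev with h2 | h4
    · refine ⟨c, mem_centN.2 ⟨hc, ?_⟩, hc2, mem_centN.2 ⟨hc, Commute.refl c⟩⟩
      have h1 : (b * c)⁻¹ = b * c :=
        inv_eq_of_mul_eq_one_right (by rw [← pow_two, ← h2]; exact pow_orderOf_eq_one _)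
      rw [_root_.mul_inv_rev, hbi, hci] at h1
      exact h1
    · have hz2 : orderOf (b * c * (b * c)) = 2 := by
        rw [← pow_two, orderOf_pow_of_dvd two_ne_zero (by rw [h4]; decide), h4]
      have hzi : b * c * (b * c) = c * b * (c * b) := by
        have h1 : (b * c * (b * c))⁻¹ = b * c * (b * c) :=
          inv_eq_of_mul_eq_one_right (by rw [← pow_two, ← hz2]; exact pow_orderOf_eq_one _)
        rw [_root_.mul_inv_rev, _root_.mul_inv_rev, hbi, hci] at h1
        exact h1.symm
      refine ⟨_, mem_centN.2 ⟨hsq, ?_⟩, hz2, mem_centN.2 ⟨hc, ?_⟩⟩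
      · show b * c * (b * c) * b = b * (b * c * (b * c))
        calc b * c * (b * c) * b = b * (c * b * (c * b)) := by group
          _ = b * (b * c * (b * c)) := by rw [← hzi]
      · show c * (b * c * (b * c)) = b * c * (b * c) * c
        calc c * (b * c * (b * c)) = c * b * (c * b) * c := by group
          _ = b * c * (b * c) * c := by rw [← hzi]
  obtain ⟨x, hx⟩ := exists_prime_orderOf_dvd_card' (G := ↥N) 2
    (by rw [Nat.card_congr e.toEquiv, card_psl_nine hF]; decide)
  obtain ⟨z₁, hz₁, hz₁2, -⟩ := key x x.2 ((orderOf_coe x).trans hx)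
  -- the involutions of `C_N(b)`
  let D := centN N b
  have hD : IsPGroup 2 ↥D := (hG b hb2).to_le inf_le_right
  haveI : Nontrivial ↥D := (Subgroup.nontrivial_iff_ne_bot D).2 fun h => by
    change z₁ ∈ D at hz₁
    rw [h, mem_bot] at hz₁
    rw [hz₁, orderOf_one] at hz₁2
    exact absurd hz₁2 (by norm_num)
  haveI : Nontrivial ↥(center ↥D) := IsPGroup.center_nontrivial (G := ↥D) hD
  obtain ⟨w, hw1⟩ := exists_ne (1 : ↥(center ↥D))
  have hwG : ((w : ↥D) : G) ≠ 1 := fun h => hw1 (Subtype.ext (Subtype.ext h))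
  obtain ⟨z₀, hz₀, hz₀2⟩ := CfsgLib.CIT.exists_involution_zpowers
    (CfsgLib.CIT.isTwo_of_mem hD (w : ↥D).2) hwG
  have hz₀D : z₀ ∈ D := zpowers_le.2 (w : ↥D).2 hz₀
  have hDle : ∀ y ∈ D, y ∈ centN N z₀ := by
    intro y hy
    refine mem_centN.2 ⟨(mem_centN.1 hy).1, ?_⟩
    obtain ⟨n, rfl⟩ := mem_zpowers_iff.1 hz₀
    have h1 : Commute ((w : ↥D) : G) y :=
      (congrArg Subtype.val (mem_center_iff.1 w.2 ⟨y, hy⟩)).symm
    exact (h1.zpow_left n).symm
  let I : G → Set G := fun z => {x | x ∈ centN N z ∧ orderOf x = 2}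
  let T : Finset G := (Set.toFinite {x | x ∈ D ∧ orderOf x = 2}).toFinset
  have hT : T.card ≤ 5 := by
    rw [← Set.ncard_eq_toFinset_card]
    exact (Set.ncard_le_ncard (t := {x | x ∈ centN N z₀ ∧ orderOf x = 2})
      (fun x hx => ⟨hDle x hx.1, hx.2⟩) (Set.toFinite _)).trans
      (ncard_involutions_le hF e (mem_centN.1 hz₀D).1 hz₀2)
  have hsub : {x : G | x ∈ N ∧ orderOf x = 2} ⊆ ⋃ z ∈ T, I z := by
    intro c hc
    obtain ⟨z, hz, hz2, hcz⟩ := key c hc.1 hc.2
    exact Set.mem_iUnion₂.2 ⟨z, (Set.Finite.mem_toFinset _).2 ⟨hz, hz2⟩, hcz, hc.2⟩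
  have h1 := (le_ncard_involutions hF e (mem_centN.1 hz₁).1 hz₁2).trans
    (Set.ncard_le_ncard hsub (Set.toFinite _))
  have h2 := h1.trans (Finset.set_ncard_biUnion_le T I)
  have h3 : ∑ z ∈ T, (I z).ncard ≤ ∑ _z ∈ T, 5 := by
    refine Finset.sum_le_sum fun z hz => ?_
    have hz' := (Set.Finite.mem_toFinset _).1 hz
    exact ncard_involutions_le hF e (mem_centN.1 hz'.1).1 hz'.2
  rw [Finset.sum_const, smul_eq_mul] at h3
  omega

theorem false_of_nine : False := by
  haveI : Fact (Nat.Prime 2) := ⟨Nat.prime_two⟩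
  obtain ⟨x, hx⟩ := exists_prime_orderOf_dvd_card' (G := ↥N) 2
    (by rw [Nat.card_congr e.toEquiv, card_psl_nine hF]; decide)
  set z : G := (x : G) with hzdef
  have hz : z ∈ N := x.2
  have hz2 : orderOf z = 2 := (orderOf_coe x).trans hx
  obtain ⟨g, hg⟩ : ∃ g : G, g ∉ N := by
    by_contra h
    push Not at h
    have : N = ⊤ := eq_top_iff.2 fun y _ => h y
    rw [this, index_top] at hN
    exact absurd hN (by norm_num)
  -- an element outside centralizing `z`
  obtain ⟨s, hsN, hsz⟩ : ∃ s : G, s ∉ N ∧ Commute s z := by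
    have hgz : g * z * g⁻¹ ∈ N := Normal.conj_mem inferInstance z hz g
    obtain ⟨w, hw⟩ := isConj_iff.1 (CfsgLib.PSL2.isConj_of_orderOf_two
      (CfsgLib.PSL2.two_ne_zero_of_odd (F := F) (by rw [hF]; decide))
      (x := e ⟨_, hgz⟩) (y := e x) (by rw [e.orderOf_eq, orderOf_mk, orderOf_conj', hz2])
      (by rw [e.orderOf_eq, hx]))
    obtain ⟨n, rfl⟩ := e.surjective w
    rw [← map_inv, ← map_mul, ← map_mul] at hw
    have hn : (n : G) * (g * z * g⁻¹) * (n : G)⁻¹ = z := congrArg Subtype.val (e.injective hw)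
    refine ⟨n * g, fun h => hg ((Subgroup.mul_mem_cancel_left N n.2).1 h), ?_⟩
    show (n : G) * g * z = z * (n * g)
    calc (n : G) * g * z = (n : G) * (g * z * g⁻¹) * (n : G)⁻¹ * (n * g) := by group
      _ = z * (n * g) := by rw [hn]
  obtain ⟨φ⟩ := centN_dihedral hF e hz hz2
  obtain ⟨-, hexp, hcen, hr1, hfour⟩ := dihedral_facts
  have hzm : z ∈ centN N z := mem_centN.2 ⟨hz, Commute.refl z⟩
  have hφz : φ ⟨z, hzm⟩ = DihedralGroup.r 2 := by
    refine hcen _ ?_ ?_ fun w => ?_
    · rw [← map_mul, φ.map_eq_one_iff]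
      exact Subtype.ext (by rw [MulMemClass.coe_mul, ← pow_two, ← hz2]; exact pow_orderOf_eq_one z)
    · rw [ne_eq, φ.map_eq_one_iff]
      intro h
      have h' : z = 1 := congrArg Subtype.val h
      rw [h', orderOf_one] at hz2
      exact absurd hz2 (by norm_num)
    · obtain ⟨v, rfl⟩ := φ.surjective w
      rw [← map_mul, ← map_mul]
      exact congrArg φ (Subtype.ext (mem_centN.1 v.2).2.symm)
  set a := φ.symm (DihedralGroup.r 1) with hadef
  set b := φ.symm (DihedralGroup.sr 0) with hbdef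
  have haa : (a : G) * a = z := by
    have : a * a = ⟨z, hzm⟩ := φ.injective (by rw [map_mul, hφz, hadef, φ.apply_symm_apply]; decide)
    exact congrArg Subtype.val this
  have hba : (b : G) * (a : G)⁻¹ * (b : G)⁻¹ = a := by
    have : b * a⁻¹ * b⁻¹ = a := φ.injective (by
      rw [map_mul, map_mul, map_inv, map_inv, hadef, hbdef, φ.apply_symm_apply,
        φ.apply_symm_apply]
      decide)
    exact congrArg Subtype.val this
  -- such an element can be chosen to centralize `a`
  obtain ⟨t, htN, htz, hta⟩ : ∃ t : G, t ∉ N ∧ Commute t z ∧ t * (a : G) * t⁻¹ = a := by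
    have hsa : s * (a : G) * s⁻¹ ∈ centN N z := mem_centN.2
      ⟨Normal.conj_mem inferInstance _ (mem_centN.1 a.2).1 s,
        ((hsz.mul_left (mem_centN.1 a.2).2).mul_left hsz.inv_left)⟩
    have h4 : φ ⟨_, hsa⟩ * φ ⟨_, hsa⟩ ≠ 1 := by
      rw [← map_mul, ne_eq, φ.map_eq_one_iff]
      intro h
      have h' : s * (a : G) * s⁻¹ * (s * (a : G) * s⁻¹) = 1 := congrArg Subtype.val h
      have h'' : z = 1 := by
        rw [← haa]
        calc (a : G) * a = s⁻¹ * (s * (a : G) * s⁻¹ * (s * (a : G) * s⁻¹)) * s := by group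
          _ = 1 := by rw [h']; group
      rw [h'', orderOf_one] at hz2
      exact absurd hz2 (by norm_num)
    rcases hfour _ h4 with h | h
    · refine ⟨s, hsN, hsz, ?_⟩
      have : (⟨_, hsa⟩ : ↥(centN N z)) = a := φ.injective (by rw [h, hadef, φ.apply_symm_apply])
      exact congrArg Subtype.val this
    · have h1 : s * (a : G) * s⁻¹ = (a : G)⁻¹ := by
        have : (⟨_, hsa⟩ : ↥(centN N z)) = a⁻¹ := φ.injective (by
          rw [h, map_inv, hadef, φ.apply_symm_apply]; decide)
        exact congrArg Subtype.val this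
      refine ⟨(b : G) * s, fun h => hsN ((Subgroup.mul_mem_cancel_left N (mem_centN.1 b.2).1).1 h),
        (mem_centN.1 b.2).2.mul_left hsz, ?_⟩
      calc (b : G) * s * a * ((b : G) * s)⁻¹ = (b : G) * (s * (a : G) * s⁻¹) * (b : G)⁻¹ := by group
        _ = a := by rw [h1, hba]
  have ht1 : t ≠ 1 := fun h => htN (h ▸ N.one_mem)
  have htC : t ∈ centralizer ({z} : Set G) := mem_centralizer_singleton_iff.2 htz.eq
  have h24 : orderOf t = 2 ∨ orderOf t = 4 := by
    refine horder t ?_
    obtain ⟨u, hu, hu2⟩ :=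
      CfsgLib.CIT.exists_involution_zpowers (CfsgLib.CIT.isTwo_of_mem (hG z hz2) htC) ht1
    exact hu2 ▸ orderOf_dvd_of_mem_zpowers hu
  have ht4 : orderOf t = 4 := h24.resolve_left fun h => no_outer_involution hF e hG horder hN
    (by rw [← pow_two, ← h]; exact pow_orderOf_eq_one t) htN
  have hta' : Commute t (a : G) := mul_inv_eq_iff_eq_mul.1 hta
  have htt : t * t ∈ centN N z := mem_centN.2 ⟨mul_self_mem_of_index_two hN t, htz.mul_left htz⟩
  have htt1 : t * t ≠ 1 := fun h => by
    have := orderOf_dvd_of_pow_eq_one (show t ^ 2 = 1 by rw [pow_two, h])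
    rw [ht4] at this
    exact absurd this (by decide)
  have hz' : t * t = z := by
    have : (⟨_, htt⟩ : ↥(centN N z)) = ⟨z, hzm⟩ := φ.injective (by
      rw [hφz]
      refine hr1 _ ?_ ?_ ?_
      · rw [← map_mul, φ.map_eq_one_iff]
        refine Subtype.ext ?_
        show t * t * (t * t) = 1
        have := pow_orderOf_eq_one t
        rw [ht4] at this
        rw [← pow_two, ← pow_two, ← pow_mul]
        exact this
      · rw [ne_eq, φ.map_eq_one_iff]
        exact fun h => htt1 (congrArg Subtype.val h)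
      · rw [show DihedralGroup.r 1 = φ a from (φ.apply_symm_apply _).symm, ← map_mul, ← map_mul]
        exact congrArg φ (Subtype.ext (hta'.mul_left hta').eq))
    exact congrArg Subtype.val this
  refine no_outer_involution hF e hG horder hN (b := t * (a : G)) ?_
    (fun h => htN ((Subgroup.mul_mem_cancel_right N (mem_centN.1 a.2).1).1 h))
  calc t * (a : G) * (t * a) = t * ((a : G) * t) * a := by group
    _ = t * (t * a) * a := by rw [hta'.eq]
    _ = t * t * ((a : G) * a) := by group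
    _ = 1 := by rw [hz', haa, ← pow_two, ← hz2]; exact pow_orderOf_eq_one z

end

end CfsgLib.ThreeOrders.Nine
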