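import Mathlib
import Cfsg.Prelude.Def_LieExceptional
import Cfsg.Prelude.Def_PLocal
import Cfsg.Agent.Lib.ThreeOrders.Basic
import Cfsg.Agent.Lib.Recog.RootPowers
import Cfsg.Agent.Lib.SuzukiGroup.Tori

/-!
# Torus orders in `PSL₂` and in the Suzuki groups

In a group with no prime dividing three element orders the torus orders have at most two prime
factors.
-/

set_option autoImplicit false
set_option linter.style.haveILetI false

namespace CfsgLib.ThreeOrders

universe u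

variable {G : Type u} [Group G] [Finite G]

omit [Finite G] in
/-- An element whose doubled order is a multiple of `q + 1`, resp. `q - 1`. -/
theorem psl_torus {F : Type} [Field F] [Fintype F]
    (e : G ≃* Matrix.ProjectiveSpecialLinearGroup (Fin 2) F) {o : ℕ}
    (ho : o = Fintype.card F + 1 ∨ o = Fintype.card F - 1) : ∃ x : G, o ∣ 2 * orderOf x := by
  obtain ⟨g, hg⟩ : ∃ g : Matrix.SpecialLinearGroup (Fin 2) F, orderOf g = o := by
    rcases ho with rfl | rfl <;> rw [← Nat.card_eq_fintype_card]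
    · exact CfsgLib.Recog.RootPowers.exists_orderOf_add_one
    · exact CfsgLib.Recog.RootPowers.exists_orderOf_sub_one
  set π := QuotientGroup.mk' (Subgroup.center (Matrix.SpecialLinearGroup (Fin 2) F))
  refine ⟨e.symm (π g), ?_⟩
  rw [e.symm.orderOf_eq, ← hg, orderOf_dvd_iff_pow_eq_one, mul_comm, pow_mul, pow_two]
  have hz : g ^ orderOf (π g) ∈ Subgroup.center (Matrix.SpecialLinearGroup (Fin 2) F) := by
    rw [← QuotientGroup.eq_one_iff, QuotientGroup.mk_pow]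
    exact pow_orderOf_eq_one (π g)
  obtain ⟨r, hr, hrz⟩ := Matrix.SpecialLinearGroup.mem_center_iff.1 hz
  rw [Fintype.card_fin] at hr
  refine Subtype.ext ?_
  rw [Matrix.SpecialLinearGroup.coe_mul, ← hrz, ← map_mul, ← pow_two, hr, map_one,
    Matrix.SpecialLinearGroup.coe_one]

omit [Finite G] in
/-- The torus elements in characteristic two. -/
theorem psl_torus_even {F : Type} [Field F] [Fintype F]
    (e : G ≃* Matrix.ProjectiveSpecialLinearGroup (Fin 2) F) (hev : Even (Fintype.card F)) {o : ℕ}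
    (ho : o = Fintype.card F + 1 ∨ o = Fintype.card F - 1) : ∃ x : G, o ∣ orderOf x := by
  obtain ⟨x, hx⟩ := psl_torus e ho
  refine ⟨x, (Nat.Coprime.dvd_of_dvd_mul_left (Nat.coprime_two_right.2 ?_) hx)⟩
  have h1 : 1 < Fintype.card F := Fintype.one_lt_card
  obtain ⟨j, hj⟩ := hev
  rw [Nat.odd_iff]
  rcases ho with rfl | rfl <;> omega

omit [Finite G] in
/-- The torus elements in odd characteristic. -/
theorem psl_torus_odd {F : Type} [Field F] [Fintype F]
    (e : G ≃* Matrix.ProjectiveSpecialLinearGroup (Fin 2) F) (hodd : Odd (Fintype.card F)) {d : ℕ}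
    (hd : d = (Fintype.card F + 1) / 2 ∨ d = (Fintype.card F - 1) / 2) :
    ∃ x : G, d ∣ orderOf x := by
  obtain ⟨j, hj⟩ := hodd
  obtain ⟨o, ho, hod⟩ : ∃ o, (o = Fintype.card F + 1 ∨ o = Fintype.card F - 1) ∧ o = 2 * d := by
    rcases hd with rfl | rfl
    · exact ⟨_, Or.inl rfl, by omega⟩
    · exact ⟨_, Or.inr rfl, by omega⟩
  obtain ⟨x, hx⟩ := psl_torus e ho
  exact ⟨x, Nat.dvd_of_mul_dvd_mul_left two_pos (hod ▸ hx)⟩

/-- The five alternatives of the theorem. -/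
def Conclusion (G : Type u) [Group G] : Prop :=
    (∃ (F : Type) (_ : Field F) (_ : Fintype F), CharP F 2 ∧ 4 ≤ Fintype.card F ∧
        (Fintype.card F + 1).primeFactorsList.length ≤ 2 ∧ (Fintype.card F - 1).primeFactorsList.length ≤ 2 ∧
        Nonempty (G ⧸ Cfsg.pCore 2 G ≃* Matrix.ProjectiveSpecialLinearGroup (Fin 2) F)) ∨
    (∃ (F : Type) (_ : Field F) (_ : Fintype F), 5 < Fintype.card F ∧ (Fintype.card F % 8 = 3 ∨ Fintype.card F % 8 = 5) ∧
        ((Fintype.card F + 1) / 2).primeFactorsList.length ≤ 2 ∧ ((Fintype.card F - 1) / 2).primeFactorsList.length ≤ 2 ∧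
        Nonempty (G ≃* Matrix.ProjectiveSpecialLinearGroup (Fin 2) F)) ∨
    (∃ (F : Type) (_ : Field F) (_ : Fintype F), (Fintype.card F = 7 ∨ Fintype.card F = 9) ∧
        Nonempty (G ≃* Matrix.ProjectiveSpecialLinearGroup (Fin 2) F)) ∨
    (∃ (F : Type) (_ : Field F) (_ : Fintype F), Fintype.card F = 4 ∧ Nonempty (G ≃* Matrix.ProjectiveSpecialLinearGroup (Fin 3) F)) ∨
    (∃ n : ℕ, 1 ≤ n ∧ IsSimpleGroup G ∧ Nat.card G = (2 ^ (2 * n + 1)) ^ 2 * ((2 ^ (2 * n + 1)) ^ 2 + 1) * (2 ^ (2 * n + 1) - 1) ∧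
        (2 ^ (2 * n + 1) - 1).primeFactorsList.length ≤ 2 ∧ (2 ^ (2 * n + 1) - 2 ^ (n + 1) + 1).primeFactorsList.length ≤ 2 ∧
        (2 ^ (2 * n + 1) + 2 ^ (n + 1) + 1).primeFactorsList.length ≤ 2)

namespace ThreeCoprime

variable (h : ThreeCoprime G)
include h

theorem psl_even_bounds {F : Type} [Field F] [Fintype F]
    (e : G ≃* Matrix.ProjectiveSpecialLinearGroup (Fin 2) F) (hev : Even (Fintype.card F)) :
    (Fintype.card F + 1).primeFactorsList.length ≤ 2 ∧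
      (Fintype.card F - 1).primeFactorsList.length ≤ 2 := by
  obtain ⟨x, hx⟩ := psl_torus_even e hev (Or.inl rfl)
  obtain ⟨y, hy⟩ := psl_torus_even e hev (Or.inr rfl)
  exact ⟨h.length_le_two_of_dvd hx, h.length_le_two_of_dvd hy⟩

theorem psl_odd_bounds {F : Type} [Field F] [Fintype F]
    (e : G ≃* Matrix.ProjectiveSpecialLinearGroup (Fin 2) F) (hodd : Odd (Fintype.card F)) :
    ((Fintype.card F + 1) / 2).primeFactorsList.length ≤ 2 ∧
      ((Fintype.card F - 1) / 2).primeFactorsList.length ≤ 2 := by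
  obtain ⟨x, hx⟩ := psl_torus_odd e hodd (Or.inl rfl)
  obtain ⟨y, hy⟩ := psl_torus_odd e hodd (Or.inr rfl)
  exact ⟨h.length_le_two_of_dvd hx, h.length_le_two_of_dvd hy⟩

/-- The three torus orders of a Suzuki group and its order. -/
theorem suzuki_bounds (hI : Cfsg.Lie.IsoSuzuki G) :
    ∃ n : ℕ, 1 ≤ n ∧
      Nat.card G = (2 ^ (2 * n + 1)) ^ 2 * ((2 ^ (2 * n + 1)) ^ 2 + 1) * (2 ^ (2 * n + 1) - 1) ∧
      (2 ^ (2 * n + 1) - 1).primeFactorsList.length ≤ 2 ∧
      (2 ^ (2 * n + 1) - 2 ^ (n + 1) + 1).primeFactorsList.length ≤ 2 ∧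
      (2 ^ (2 * n + 1) + 2 ^ (n + 1) + 1).primeFactorsList.length ≤ 2 := by
  obtain ⟨F, i1, i2, m, hm, hF, ⟨e⟩⟩ := hI
  obtain ⟨hc2, ⟨P⟩⟩ := CfsgLib.SuzukiGroup.exists_params hF
  haveI := hc2
  obtain ⟨a, b, ha, hb, hca, hcb⟩ := CfsgLib.SuzukiGroup.exists_torus_pair P hF hm
  have key : ∀ {a : ↥(Cfsg.Lie.Sz F (2 ^ (m + 1)))}, CfsgLib.SuzukiGroup.FPF a →
      (Nat.card ↥(Subgroup.centralizer {a})).primeFactorsList.length ≤ 2 := by
    intro a ha
    haveI := CfsgLib.SuzukiGroup.fpf_isCyclic P hF hm ha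
    obtain ⟨g, hg⟩ := IsCyclic.exists_ofOrder_eq_natCard (α := ↥(Subgroup.centralizer {a}))
    refine h.length_le_two_of_dvd (g := e.symm (g : ↥(Cfsg.Lie.Sz F (2 ^ (m + 1))))) ?_
    rw [e.symm.orderOf_eq, Subgroup.orderOf_coe, hg]
  have hA := key ha
  have hB := key hb
  rw [hca] at hA
  rw [hcb] at hB
  let φ : Fˣ →* ↥(Cfsg.Lie.Sz F (2 ^ (m + 1))) :=
    MonoidHom.mk' (CfsgLib.SuzukiGroup.dEl P) fun x y => (CfsgLib.SuzukiGroup.dEl_mul P x y).symm
  have hφ : Function.Injective φ := fun x y hxy => by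
    have h1 := congrFun (congrFun (congrArg CfsgLib.SuzukiGroup.mat hxy) 0) 0
    simp [φ, CfsgLib.SuzukiGroup.dMat] at h1
    exact Units.ext h1
  obtain ⟨γ, hγ⟩ := IsCyclic.exists_ofOrder_eq_natCard (α := Fˣ)
  rw [Nat.card_units, Nat.card_eq_fintype_card, hF] at hγ
  have hC : (2 ^ (2 * m + 1) - 1).primeFactorsList.length ≤ 2 := by
    refine h.length_le_two_of_dvd (g := e.symm (φ γ)) ?_
    rw [e.symm.orderOf_eq, orderOf_injective φ hφ, hγ]
  refine ⟨m, hm, ?_, hC, hB, hA⟩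
  rw [Nat.card_congr e.toEquiv, CfsgLib.SuzukiGroup.card_sz P, hF]
  ring

end ThreeCoprime

end CfsgLib.ThreeOrders
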