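import Mathlib
import Cfsg.Agent.Lib.CIT.Steps
import Cfsg.Agent.Lib.CIT.Extension
import Cfsg.Agent.Lib.CIT.NoOdd
import Cfsg.Agent.Lib.CIT.SuzukiIso
import Cfsg.Agent.Lib.ThreeOrders.Tori
import Cfsg.Agent.Lib.ThreeOrders.Nine

/-!
# Every even element order is 2 or 4

The centralizers of involutions are then 2-groups and the classification of such groups applies.
-/

set_option autoImplicit false
set_option linter.style.haveILetI false

namespace CfsgLib.ThreeOrders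

open Subgroup CfsgLib.CIT

universe u

variable {G : Type u} [Group G] [Finite G]

theorem pow_four' {M : Type*} [Monoid M] (g : M) : g ^ 4 = g * g * (g * g) := by
  rw [show (4 : ℕ) = 2 + 2 from rfl, pow_add, pow_two]

/-- Every even element order is 2 or 4. -/
def EvenSmall (G : Type u) [Group G] : Prop :=
  ∀ x : G, 2 ∣ orderOf x → orderOf x = 2 ∨ orderOf x = 4

theorem EvenSmall.quotient (h : EvenSmall G) (N : Subgroup G) [N.Normal] : EvenSmall (G ⧸ N) := by
  intro y hy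
  obtain ⟨g, rfl⟩ := QuotientGroup.mk'_surjective N y
  obtain ⟨x, -, hx⟩ := exists_orderOf_eq (orderOf_map_dvd (QuotientGroup.mk' N) g)
  rw [← hx] at hy ⊢
  exact h x hy

theorem EvenSmall.isCIT (h : EvenSmall G) : IsCIT G := by
  intro t ht
  by_contra hne
  obtain ⟨y, hy, p, hp, hp2, hyp⟩ := exists_odd_prime_order hne
  have hc : Commute t y := (mem_centralizer_singleton_iff.1 hy).symm
  have ho : orderOf (t * y) = 2 * p := by
    rw [hc.orderOf_mul_eq_mul_orderOf_of_coprime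
      (by rw [ht, hyp]; exact (Nat.coprime_primes Nat.prime_two hp).2 (Ne.symm hp2)), ht, hyp]
  have := hp.two_le
  rcases h (t * y) (ho ▸ dvd_mul_right 2 p) with e | e <;> rw [ho] at e <;> omega

omit [Finite G] in
theorem EvenSmall.pow_four (h : EvenSmall G) {x : G} (hx : 2 ∣ orderOf x) : x ^ 4 = 1 := by
  rw [← orderOf_dvd_iff_pow_eq_one]
  rcases h x hx with e | e <;> rw [e]
  norm_num

/-- The core is trivial over a Suzuki quotient. -/
theorem EvenSmall.suzuki_false (h : EvenSmall G) (h2 : Cfsg.pCore 2 G ≠ ⊥)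
    (hs : Cfsg.IsSuzuki (G ⧸ Cfsg.pCore 2 G))
    (hTI : ∃ M H, TI.Hyp (G := G ⧸ Cfsg.pCore 2 G) M H) : False := by
  haveI : Fact (Nat.Prime 2) := ⟨Nat.prime_two⟩
  have hG : IsCIT G := h.isCIT
  have hQ : EvenSmall (G ⧸ Cfsg.pCore 2 G) := h.quotient _
  obtain ⟨M, H, hTI⟩ := hTI
  have hH2 := (TI.main hTI).2.1
  obtain ⟨u, hu⟩ : ∃ u : ↥H, u * u ≠ 1 := by
    by_contra hcon
    push Not at hcon
    obtain ⟨a, b, hab⟩ := TI.suzuki_nonabelian hTI hs
    have hinv : ∀ c : ↥H, c⁻¹ = c := fun c => inv_eq_of_mul_eq_one_right (hcon c)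
    apply hab
    have := hinv (a * b)
    rw [mul_inv_rev, hinv, hinv] at this
    exact this.symm
  have huu : (u : G ⧸ Cfsg.pCore 2 G) * u ≠ 1 := fun e => hu (Subtype.ext e)
  have hu4 : orderOf (u : G ⧸ Cfsg.pCore 2 G) = 4 := by
    have hev : 2 ∣ orderOf (u : G ⧸ Cfsg.pCore 2 G) := by
      obtain ⟨k, hk⟩ := isTwo_of_mem hH2 u.2
      obtain ⟨j, -, hj⟩ := (Nat.dvd_prime_pow Nat.prime_two).1 (orderOf_dvd_of_pow_eq_one hk)
      rcases j with _ | j
      · have h1 : (u : G ⧸ Cfsg.pCore 2 G) = 1 := orderOf_eq_one_iff.1 (by simpa using hj)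
        exact absurd (by rw [h1, one_mul]) huu
      · rw [hj]; exact dvd_pow_self 2 (Nat.succ_ne_zero _)
    refine (hQ _ hev).resolve_left fun e => huu ?_
    have h1 := pow_orderOf_eq_one (u : G ⧸ Cfsg.pCore 2 G)
    rw [e, pow_two] at h1
    exact h1
  obtain ⟨x, hx⟩ := QuotientGroup.mk'_surjective (Cfsg.pCore 2 G) (u : G ⧸ Cfsg.pCore 2 G)
  have hxev : ∀ y : G, QuotientGroup.mk' (Cfsg.pCore 2 G) y = (u : G ⧸ Cfsg.pCore 2 G) →
      y ^ 4 = 1 := by
    intro y hy
    refine h.pow_four (dvd_trans ?_ (orderOf_map_dvd (QuotientGroup.mk' (Cfsg.pCore 2 G)) y))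
    rw [hy, hu4]
    norm_num
  have hxn : x ∉ Cfsg.pCore 2 G := fun e => by
    have h0 : QuotientGroup.mk' (Cfsg.pCore 2 G) x = 1 := (QuotientGroup.eq_one_iff x).2 e
    rw [hx] at h0
    exact huu (by rw [h0, one_mul])
  have hzn : x * x ∉ Cfsg.pCore 2 G := fun e => by
    have h0 : QuotientGroup.mk' (Cfsg.pCore 2 G) (x * x) = 1 :=
      (QuotientGroup.eq_one_iff (x * x)).2 e
    rw [map_mul, hx] at h0
    exact huu h0
  have hx4 : x ^ 4 = 1 := hxev x hx
  have key : ∀ v : ↥(vSub G), phiV (x * x) (phiV x v) = 1 := by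
    intro v
    refine Subtype.ext ?_
    rw [phiV_val, phiV_val, OneMemClass.coe_one]
    have hxv : (x * (v : G)) ^ 4 = 1 := hxev _ (by
      have h0 : QuotientGroup.mk' (Cfsg.pCore 2 G) (v : G) = 1 :=
        (QuotientGroup.eq_one_iff (v : G)).2 (vSub_le v.2)
      rw [map_mul, hx, h0, mul_one])
    set a := (v : G)
    have h4 : (x * a) ^ 4 = x * a * x⁻¹ * ((x * x) * a * (x * x)⁻¹) *
        ((x * x) * (x * a * x⁻¹) * (x * x)⁻¹) * (x ^ 4 * a * (x ^ 4)⁻¹) * x ^ 4 := by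
      rw [pow_four' (x * a), pow_four' x]
      group
    rw [h4, hx4, inv_one, one_mul, mul_one, mul_one] at hxv
    have hm : ∀ g : G, g * a * g⁻¹ ∈ vSub G := fun g => conj_mem_vSub g v.2
    have hc : Commute a (x * a * x⁻¹ * ((x * x) * a * (x * x)⁻¹) *
        ((x * x) * (x * a * x⁻¹) * (x * x)⁻¹)) :=
      vSub_comm v.2 (vSub_le (mul_mem (mul_mem (hm x) (hm _)) (conj_mem_vSub _ (hm x))))
    calc a * (x * a * x⁻¹) * (x * x * (a * (x * a * x⁻¹)) * (x * x)⁻¹)
        = a * (x * a * x⁻¹ * ((x * x) * a * (x * x)⁻¹) *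
            ((x * x) * (x * a * x⁻¹) * (x * x)⁻¹)) := by group
      _ = _ := hc.eq.trans hxv
  have hr : (phiV x).range ≤ (phiV (x * x)).ker := by
    rintro _ ⟨v, rfl⟩
    exact key v
  have hker : (phiV x).ker ≤ (phiV (x * x)).ker := by
    intro v hv
    rw [MonoidHom.mem_ker, phiV_eq_one_iff] at hv ⊢
    exact hv.mul_right hv
  have hzz : x * x * (x * x) ∈ Cfsg.pCore 2 G := by
    rw [← pow_four', hx4]
    exact one_mem _
  have hV := sq_card_fixV hG h2 hzn hzz
  rw [← card_ker_phiV] at hV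
  have hmul := Subgroup.card_eq_card_quotient_mul_card_subgroup (phiV x).ker
  rw [Nat.card_congr (QuotientGroup.quotientKerEquivRange (phiV x)).toEquiv] at hmul
  have hr' := Subgroup.card_le_of_le hr
  have hk' := Subgroup.card_le_of_le hker
  have hpos : 0 < Nat.card (phiV (x * x)).ker := Nat.card_pos
  have heq : (phiV x).ker = (phiV (x * x)).ker := by
    refine Subgroup.eq_of_le_of_card_ge hker ?_
    refine Nat.le_of_mul_le_mul_left ?_ hpos
    rw [hV, hmul]
    exact Nat.mul_le_mul_right _ hr'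
  have htop : ∀ v : ↥(vSub G), v ∈ (phiV (x * x)).ker := by
    intro v
    have h1 : phiV x v ∈ (phiV x).ker := heq ▸ hr ⟨v, rfl⟩
    rw [MonoidHom.mem_ker, Subtype.ext_iff, phiV_phiV] at h1
    rw [MonoidHom.mem_ker, Subtype.ext_iff, phiV_val]
    exact h1
  have hall : Nat.card (phiV (x * x)).ker = Nat.card ↥(vSub G) := by
    rw [(eq_top_iff' _).2 htop, Subgroup.card_top]
  rw [hall] at hV
  have h1 := one_lt_card_vSub h2
  nlinarith

omit [Finite G] in
theorem EvenSmall.odd_prime_shape {F : Type} [Field F] [Fintype F]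
    (h : EvenSmall G) (e : G ≃* Matrix.ProjectiveSpecialLinearGroup (Fin 2) F)
    (hp : (Fintype.card F).Prime) (h7 : 7 ≤ Fintype.card F) {k : ℕ}
    (hk : Fintype.card F = 2 ^ k + 1 ∨ Fintype.card F + 1 = 2 ^ k) : Fintype.card F = 7 := by
  have hodd : Odd (Fintype.card F) := hp.odd_of_ne_two (by omega)
  obtain ⟨j, rfl⟩ : ∃ j, k = j + 1 := ⟨k - 1, by
    rcases Nat.eq_zero_or_pos k with rfl | hk0
    · simp at hk; omega
    · omega⟩
  rw [pow_succ] at hk
  obtain ⟨x, hx⟩ : ∃ x : G, 2 ^ j ∣ orderOf x := by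
    rcases hk with hk | hk
    · exact psl_torus_odd e hodd (Or.inr (by omega))
    · exact psl_torus_odd e hodd (Or.inl (by omega))
  have hj2 : 2 ≤ j := by
    by_contra hj
    have : 2 ^ j ≤ 2 := le_trans (Nat.pow_le_pow_right two_pos (by omega : j ≤ 1)) (le_refl _)
    omega
  have hev : 2 ∣ orderOf x := (dvd_pow_self 2 (by omega : j ≠ 0)).trans hx
  have h4 : 2 ^ j ∣ 4 := hx.trans (orderOf_dvd_of_pow_eq_one (h.pow_four hev))
  have hle : 2 ^ j ≤ 4 := Nat.le_of_dvd (by norm_num) h4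
  have hge : 4 ≤ 2 ^ j := le_trans (by norm_num) (Nat.pow_le_pow_right two_pos hj2)
  have hj4 : 2 ^ j = 4 := le_antisymm hle hge
  rw [hj4] at hk
  rcases hk with hk | hk
  · exfalso
    rw [hk] at hp
    exact absurd hp (by norm_num)
  · omega

theorem even_conclusion (tc : ThreeCoprime G) {F : Type} [i1 : Field F] [i2 : Fintype F] {n : ℕ}
    (hn2 : 2 ≤ n) (hn : Fintype.card F = 2 ^ n)
    (e : G ⧸ Cfsg.pCore 2 G ≃* Matrix.ProjectiveSpecialLinearGroup (Fin 2) F) : Conclusion G := by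
  haveI : Fact (Nat.Prime 2) := ⟨Nat.prime_two⟩
  have hev : Even (Fintype.card F) := by rw [hn]; exact Nat.even_pow.2 ⟨even_two, by omega⟩
  obtain ⟨h1, h2⟩ := (tc.quotient (Cfsg.pCore 2 G)).psl_even_bounds e hev
  have hc : CharP F 2 := charP_of_card_eq_prime_pow hn
  have h4 : 4 ≤ Fintype.card F := by
    rw [hn]
    exact le_trans (by norm_num) (Nat.pow_le_pow_right two_pos hn2)
  exact Or.inl ⟨F, i1, i2, hc, h4, h1, h2, ⟨e⟩⟩

/-- The theorem when every even element order is 2 or 4. -/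
theorem caseA (tc : ThreeCoprime G) (h : EvenSmall G) (hns : ¬ Group.IsSolvable G) :
    Conclusion G := by
  haveI : Fact (Nat.Prime 2) := ⟨Nat.prime_two⟩
  have hG := h.isCIT
  obtain ⟨hO, hq, hqnt, hq2, hqO, -⟩ := hG.nonsolvable_structure hns
  haveI := hqnt
  by_cases h2 : Cfsg.pCore 2 G = ⊥
  · haveI : Nontrivial G := by
      by_contra hn
      rw [not_nontrivial_iff_subsingleton] at hn
      exact hns inferInstance
    rcases shapeAny_of_steps kleinStep countStep hG h2 hO with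
        ⟨-, F, i1, i2, ⟨n, hn2, hn⟩, ⟨e⟩⟩ | ⟨hs, M, H, hTI⟩ |
        ⟨⟨-, F, i1, i2, h7, hq, ⟨e⟩⟩ | ⟨N, hN, hN2, F, i1, i2, hF, ⟨e⟩⟩ |
          ⟨-, -, F, i1, i2, hF, he⟩, -⟩
    · exact even_conclusion tc hn2 hn
        (((QuotientGroup.quotientMulEquivOfEq h2).trans QuotientGroup.quotientBot).trans e)
    · obtain ⟨n, hn, hcard, h1, h2', h3⟩ := tc.suzuki_bounds (TI.isoSuzuki hTI hs)
      exact Or.inr (Or.inr (Or.inr (Or.inr ⟨n, hn, hs.1, hcard, h1, h2', h3⟩)))
    · refine Or.inr (Or.inr (Or.inl ⟨F, i1, i2, ?_, ⟨e⟩⟩))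
      rcases hq with h9 | ⟨hp, k, hk⟩
      · exact Or.inr h9
      · exact Or.inl (h.odd_prime_shape e hp h7 hk)
    · exact absurd (Nine.false_of_nine hF e hG h hN2) id
    · exact Or.inr (Or.inr (Or.inr (Or.inl ⟨F, i1, i2, hF, he⟩)))
  · rcases shapeAny_of_steps kleinStep countStep hq hq2 hqO with
        ⟨-, F, i1, i2, ⟨n, hn2, hn⟩, ⟨e⟩⟩ | ⟨hs, hTI⟩ | ⟨hodd, -⟩
    · exact even_conclusion tc hn2 hn e
    · exact (h.suzuki_false h2 hs hTI).elim
    · exact absurd hodd (quotient_not_odd hG h2)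

end CfsgLib.ThreeOrders
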