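import Mathlib
import Cfsg.Agent.Lib.Coprime.HyperplaneGeneration
import Cfsg.Agent.Lib.MinSimple12.CaseNormal

/-!
# Auxiliary facts

Groups of operators of order `p ^ 2`, and numbers of the form `2 ^ n - 1`.
-/

set_option autoImplicit false
set_option linter.style.haveILetI false

namespace CfsgLib.ThreeOrders

open Subgroup

variable {G : Type*} [Group G] [Finite G]

/-- A `p'`-group normalized by an elementary abelian group of order `p ^ 2` lies in every subgroup
containing all the fixed point groups. -/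
theorem le_of_centralizers_le {p : ℕ} [Fact p.Prime] {A X M : Subgroup G}
    (hA : Cfsg.IsElementaryAbelian p A) (hcard : Nat.card A = p ^ 2)
    (hX : (Nat.card X).Coprime p) (hAX : A ≤ normalizer (X : Set G))
    (hM : ∀ a ∈ A, a ≠ 1 → ∀ x ∈ X, Commute x a → x ∈ M) : X ≤ M := by
  have hp := (Fact.out : p.Prime)
  have hA1 : A ≠ ⊥ := by
    intro e
    rw [e, card_bot] at hcard
    have := one_lt_pow₀ hp.one_lt (two_ne_zero)
    omega
  rw [← CfsgLib.Coprime39.eq_hyperCent hA hA1 hX hAX]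
  refine iSup_le fun ⟨B, hBA, hBi⟩ => ?_
  have hB1 : B ≠ ⊥ := by
    intro e
    rw [e, relIndex_bot_left, hcard] at hBi
    nlinarith [hp.two_le]
  obtain ⟨b, hb, hb1⟩ := (bot_or_exists_ne_one B).resolve_left hB1
  intro x hx
  exact hM b (hBA hb) hb1 x hx.1 (mem_centralizer_iff.1 hx.2 b hb).symm

/-- An elementary abelian group of order `p ^ 2` does not act fixed-point-freely. -/
theorem exists_commute_of_card_sq {p : ℕ} [Fact p.Prime] {A X : Subgroup G}
    (hA : Cfsg.IsElementaryAbelian p A) (hcard : Nat.card A = p ^ 2)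
    (hX : (Nat.card X).Coprime p) (hAX : A ≤ normalizer (X : Set G)) (hX1 : X ≠ ⊥) :
    ∃ a ∈ A, a ≠ 1 ∧ ∃ x ∈ X, x ≠ 1 ∧ Commute x a := by
  by_contra h
  push Not at h
  refine hX1 (le_bot_iff.1 (le_of_centralizers_le hA hcard hX hAX fun a ha ha1 x hx hc => ?_))
  by_contra hx1
  exact h a ha ha1 x hx (fun e => hx1 (mem_bot.2 e)) hc

/-- If `2 ^ n - 1` is a power of a prime `r` then it is `1` or `r`. -/
theorem exponent_eq_one {n r j : ℕ} (hr : r.Prime) (hn : 2 ≤ n) (h : 2 ^ n - 1 = r ^ j) :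
    2 ^ n - 1 = r := by
  have := Nat.one_le_two_pow (n := n)
  have e := CfsgLib.MinSimple12.two_pow_sub_one_prime_pow hr hn (a := j) (by omega)
  omega

/-- Prime divisors of `2 ^ r - 1`, for a prime `r`, exceed `r`. -/
theorem lt_of_dvd_two_pow_sub_one {r q : ℕ} (hr : r.Prime) (hq : q.Prime) (h : q ∣ 2 ^ r - 1) :
    r < q := by
  by_contra hle
  push Not at hle
  haveI := Fact.mk hq
  have hq2 : q ≠ 2 := by
    rintro rfl
    have h2 : 2 ∣ 2 ^ r := dvd_pow_self 2 hr.ne_zero
    have := Nat.one_le_two_pow (n := r)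
    omega
  have h2 : ((2 : ℕ) : ZMod q) ≠ 0 := fun e =>
    hq2 ((Nat.prime_dvd_prime_iff_eq hq Nat.prime_two).1 ((ZMod.natCast_eq_zero_iff _ _).1 e))
  have h1 : ((2 : ℕ) : ZMod q) ^ r = 1 := by
    have := (ZMod.natCast_eq_zero_iff _ _).2 h
    rw [Nat.cast_sub Nat.one_le_two_pow, sub_eq_zero, Nat.cast_pow, Nat.cast_one] at this
    exact this
  have hne : ((2 : ℕ) : ZMod q) ≠ 1 := by
    intro e
    have e' : ((1 : ℕ) : ZMod q) = 0 := by
      have : ((2 : ℕ) : ZMod q) = ((1 : ℕ) : ZMod q) + ((1 : ℕ) : ZMod q) := by push_cast; norm_num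
      rw [e] at this
      simp at this
    rw [ZMod.natCast_eq_zero_iff] at e'
    exact hq.one_lt.ne' (Nat.dvd_one.1 e')
  haveI := Fact.mk hr
  have hord := orderOf_eq_prime h1 hne
  have hd := ZMod.orderOf_dvd_card_sub_one h2
  rw [hord] at hd
  have hq1 := hq.two_le
  have := Nat.le_of_dvd (by omega) hd
  omega

end CfsgLib.ThreeOrders
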