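import Mathlib
import Cfsg.Agent.Lib.ThreeOrders.Strong
import Cfsg.Agent.Lib.ThreeOrders.Helpers
import Cfsg.Agent.Lib.CIT.TI

/-!
# Rank at least three with an element of order `2 r`: the setup

`N = N(S)` is strongly embedded and contains the centralizers of the involutions of `S`.
-/

set_option autoImplicit false
set_option linter.style.haveILetI false

namespace CfsgLib.ThreeOrders

open Subgroup MulAction CfsgLib.CIT CfsgLib.Involutions

universe u

variable {G : Type u} [Group G]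

/-- The point stabiliser. -/
abbrev SN (S : Sylow 2 G) : Subgroup G := Subgroup.normalizer ((S : Subgroup G) : Set G)

/-- The points. -/
abbrev base (M : Subgroup G) : G ⧸ M := ((1 : G) : G ⧸ M)

theorem smul_base_eq_iff {M : Subgroup G} {g : G} : g • base M = base M ↔ g ∈ M := by
  rw [MulAction.Quotient.smul_coe, smul_eq_mul, mul_one, QuotientGroup.eq, mul_one]
  exact inv_mem_iff

/-- A complement of `S` in its normalizer. -/
structure Comp (S : Sylow 2 G) (E : Subgroup G) : Prop where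
  le : E ≤ SN S
  odd : Odd (Nat.card ↥E)
  cover : ∀ m ∈ SN S, ∃ s ∈ (S : Subgroup G), s⁻¹ * m ∈ E

/-- Rank at least three. -/
structure Big (G : Type u) [Group G] (r : ℕ) (S : Sylow 2 G) : Prop where
  cb : CaseB G r
  ns : ¬ Group.IsSolvable G
  h8 : 8 ≤ Nat.card ↥(S : Subgroup G)

variable [Finite G] {r : ℕ}

omit [Finite G] in
theorem odd_of_pow_eq_one {g : G} {n : ℕ} (hn : Odd n) (h : g ^ n = 1) : Odd (orderOf g) :=
  Odd.of_dvd_nat hn (orderOf_dvd_of_pow_eq_one h)

/-- An element of odd order commuting with an involution has order at most `r`. -/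
theorem CaseB.pow_r_of_odd_commute (h : CaseB G r) {t g : G} (ht : orderOf t = 2)
    (hg : Odd (orderOf g)) (hc : Commute t g) : g ^ r = 1 := by
  by_cases hg1 : g = 1
  · rw [hg1, one_pow]
  obtain ⟨p, hp, hpd⟩ := Nat.exists_prime_and_dvd (mt orderOf_eq_one_iff.1 hg1)
  obtain ⟨y, hy, hyo⟩ := exists_orderOf_eq hpd
  have hp2 : p ≠ 2 := fun e => (Nat.not_even_iff_odd.2 hg) (even_iff_two_dvd.2 (e ▸ hpd))
  obtain ⟨k, rfl⟩ := mem_zpowers_iff.1 hy
  obtain rfl := h.eq_of_commute_involution ht (hc.zpow_right k) hp hyo hp2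
  rcases h.r_order hpd with e | e
  · rw [← e]; exact pow_orderOf_eq_one g
  · rw [e] at hg
    exact absurd (even_two_mul p) (Nat.not_even_iff_odd.2 hg)

namespace Big

variable {S : Sylow 2 G} (b : Big G r S)
include b

theorem se : Cfsg.IsStronglyEmbedded (SN S) := b.cb.stronglyEmbedded b.ns S b.h8

theorem oneFix : CfsgLib.BenderTrans.OneFix G (G ⧸ SN S) :=
  CfsgLib.BenderTrans.oneFix_of_stronglyEmbedded b.se

theorem faithful : ∀ g : G, (∀ x : G ⧸ SN S, g • x = x) → g = 1 :=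
  faithful_of_core b.se (b.cb.pPrimeCore_eq_bot b.ns)

theorem concl : CfsgLib.BenderTrans.Concl G (G ⧸ SN S) := b.cb.concl b.ns b.se

omit [Finite G] in
theorem two_le_r : 3 ≤ r := by
  have := b.cb.prime.two_le
  have := b.cb.ne_two
  omega

omit b [Finite G] in
theorem _root_.CfsgLib.ThreeOrders.sylow_le_SN (S : Sylow 2 G) : (S : Subgroup G) ≤ SN S :=
  le_normalizer

theorem orderOf_eq {a : G} (ha : a ∈ (S : Subgroup G)) (ha1 : a ≠ 1) : orderOf a = 2 :=
  b.cb.orderOf_mem_sylow ha ha1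

theorem commute {a c : G} (ha : a ∈ (S : Subgroup G)) (hc : c ∈ (S : Subgroup G)) : Commute a c :=
  b.cb.abelianTwo S S.isPGroup' a ha c hc

omit b [Finite G] in
theorem mem_sylow {t : G} (ht : t ∈ SN S) (h2 : orderOf t = 2) : t ∈ (S : Subgroup G) :=
  mem_of_normalizes (mul_self_eq_one h2) ht

theorem mem_invAt {a : G} (ha : a ∈ (S : Subgroup G)) (ha1 : a ≠ 1) :
    a ∈ CfsgLib.BenderTrans.invAt G (base (SN S)) :=
  ⟨b.orderOf_eq ha ha1, smul_base_eq_iff.2 (sylow_le_SN S ha)⟩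

/-- Centralizers of involutions of `S`. -/
theorem centralizer_le {a g : G} (ha : a ∈ (S : Subgroup G)) (ha1 : a ≠ 1) (hg : Commute g a) :
    g ∈ SN S :=
  smul_base_eq_iff.1 (b.oneFix.fix_of_commute (b.mem_invAt ha ha1) hg)

/-- Control of fusion. -/
theorem mem_of_conj {a g : G} (ha : a ∈ (S : Subgroup G)) (ha1 : a ≠ 1)
    (hg : g * a * g⁻¹ ∈ SN S) : g ∈ SN S := by
  have h1 := CfsgLib.BenderTrans.conj_mem_invAt (g := g) (b.mem_invAt ha ha1)
  exact smul_base_eq_iff.1 (b.oneFix.unique _ h1.1 _ _ h1.2 (smul_base_eq_iff.2 hg))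

theorem exists_conj {a c : G} (ha : a ∈ (S : Subgroup G)) (ha1 : a ≠ 1)
    (hc : c ∈ (S : Subgroup G)) (hc1 : c ≠ 1) : ∃ m ∈ SN S, m * a * m⁻¹ = c := by
  obtain ⟨g, hg⟩ := isConj_iff.1 (CfsgLib.StrongEmbedding.isConj_involutions b.se
    (b.orderOf_eq ha ha1) (b.orderOf_eq hc hc1))
  exact ⟨g, b.mem_of_conj ha ha1 (hg ▸ sylow_le_SN S hc), hg⟩

theorem exists_pair : ∃ a ∈ (S : Subgroup G), ∃ c ∈ (S : Subgroup G), a ≠ 1 ∧ c ≠ 1 ∧ a ≠ c := by
  obtain ⟨a, ha, c, hc, ha2, hc2, hne⟩ := b.cb.exists_pair b.ns S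
  exact ⟨a, ha, c, hc, ne_one_of_involution ha2, ne_one_of_involution hc2, hne⟩

/-- A solvable subgroup meeting `S` in a group of order at least four lies in the normalizer. -/
theorem solvable_le {Γ : Subgroup G} (hΓ : Group.IsSolvable ↥Γ) {a c : G} (ha : a ∈ (S : Subgroup G))
    (hc : c ∈ (S : Subgroup G)) (ha1 : a ≠ 1) (hc1 : c ≠ 1) (hne : a ≠ c) (haΓ : a ∈ Γ)
    (hcΓ : c ∈ Γ) : Γ ≤ SN S := by
  haveI : Fact (Nat.Prime 2) := ⟨Nat.prime_two⟩
  haveI := hΓ
  classical
  have ha2 := mul_self_eq_one (b.orderOf_eq ha ha1)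
  have hc2 := mul_self_eq_one (b.orderOf_eq hc hc1)
  have hac : a * c = c * a := (b.commute ha hc).eq
  have hac1 : a * c ≠ 1 := fun e => hne ((mul_eq_one_iff_eq_inv.1 e).trans
    (inv_eq_self_of_involution (b.orderOf_eq hc hc1)))
  have hgen : ∀ x ∈ ({a, c} : Set G), ∀ y ∈ ({a, c} : Set G), x * y = y * x := by
    rintro x (rfl | rfl) y (rfl | rfl)
    exacts [rfl, hac, hac.symm, rfl]
  set A := Subgroup.closure ({a, c} : Set G) with hA
  have hAS : A ≤ (S : Subgroup G) := (closure_le _).2 fun x hx => by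
    rcases hx with rfl | rfl <;> assumption
  have hAΓ : A ≤ Γ := (closure_le _).2 fun x hx => by
    rcases hx with rfl | rfl <;> assumption
  have hEA : Cfsg.IsElementaryAbelian 2 A :=
    ⟨Subgroup.isMulCommutative_closure hgen, fun x hx => by
      rw [sq]; exact b.cb.sq_eq_one (isTwo_of_mem S.isPGroup' (hAS hx))⟩
  have hcard : Nat.card A = 2 ^ 2 := by
    have hset : (A : Set G) = {1, a, c, a * c} := by
      refine le_antisymm ?_ ?_
      · let K : Subgroup G :=
          { carrier := {1, a, c, a * c}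
            one_mem' := Or.inl rfl
            mul_mem' := by
              have e1 : a * (a * c) = c := by rw [← mul_assoc, ha2, one_mul]
              have e2 : c * (a * c) = a := by rw [hac, ← mul_assoc, hc2, one_mul]
              have e3 : a * c * a = c := by rw [hac, mul_assoc, ha2, mul_one]
              have e4 : a * c * c = a := by rw [mul_assoc, hc2, mul_one]
              have e5 : a * c * (a * c) = 1 := by rw [← mul_assoc, e3, hc2]
              intro x y hx hy
              rcases hx with rfl | rfl | rfl | rfl <;> rcases hy with rfl | rfl | rfl | rfl <;>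
                simp [ha2, hc2, e1, e2, e3, e4, e5, ← hac]
            inv_mem' := by
              have ia : a⁻¹ = a := inv_eq_of_mul_eq_one_right ha2
              have ic : c⁻¹ = c := inv_eq_of_mul_eq_one_right hc2
              intro x hx
              rcases hx with rfl | rfl | rfl | rfl <;> simp [ia, ic, hac] }
        exact (closure_le K).2 (fun x hx => by
          rcases hx with rfl | rfl
          · exact Or.inr (Or.inl rfl)
          · exact Or.inr (Or.inr (Or.inl rfl)))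
      · intro x hx
        rcases hx with rfl | rfl | rfl | rfl
        · exact one_mem A
        · exact subset_closure (Or.inl rfl)
        · exact subset_closure (Or.inr rfl)
        · exact mul_mem (subset_closure (Or.inl rfl)) (subset_closure (Or.inr rfl))
    have hA' : Nat.card ↥A = (A : Set G).ncard := Nat.card_coe_set_eq (A : Set G)
    rw [hA', hset, Set.ncard_insert_of_notMem, Set.ncard_insert_of_notMem, Set.ncard_pair]
    · norm_num
    · intro e
      exact ha1 (mul_eq_right.1 e.symm)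
    · simp only [Set.mem_insert_iff, Set.mem_singleton_iff, not_or]
      exact ⟨hne, fun e => hc1 (mul_eq_left.1 e.symm)⟩
    · simp only [Set.mem_insert_iff, Set.mem_singleton_iff, not_or]
      exact ⟨fun e => ha1 e.symm, fun e => hc1 e.symm, fun e => hac1 e.symm⟩
  set K := (Cfsg.pPrimeCore 2 ↥Γ).map Γ.subtype
  have hKX : (Nat.card ↥K).Coprime 2 := by
    rw [card_map_of_injective Γ.subtype_injective]
    exact CfsgLib.PCore.pPrimeCore_coprime
  haveI : (Cfsg.pPrimeCore 2 ↥Γ).Normal := Cfsg.pPrimeCore_normal _ _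
  have hAK : A ≤ normalizer (K : Set G) := fun x hx => mem_normalizer_of_forall fun n hn => by
    obtain ⟨y, hy, rfl⟩ := hn
    exact ⟨_, ‹(Cfsg.pPrimeCore 2 ↥Γ).Normal›.conj_mem y hy ⟨x, hAΓ hx⟩, rfl⟩
  have hKN : K ≤ SN S := le_of_centralizers_le hEA hcard hKX hAK
    fun e he he1 x _ hx => b.centralizer_le (hAS he) he1 hx
  have hab : AbelianTwo ↥Γ := fun U hU x hx y hy =>
    Subtype.ext (b.cb.abelianTwo (U.map Γ.subtype) (hU.map _) x ⟨x, hx, rfl⟩ y ⟨y, hy, rfl⟩).eq
  have hp : IsPGroup 2 ↥(A.subgroupOf Γ) := (S.isPGroup'.to_le hAS).comap_subtype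
  obtain ⟨P, hP⟩ := hp.exists_le_sylow
  have haP : (⟨a, haΓ⟩ : ↥Γ) ∈ (P : Subgroup ↥Γ) := hP (subset_closure (Or.inl rfl))
  have hPS : ∀ s ∈ (P : Subgroup ↥Γ), (s : G) ∈ SN S := fun s hs =>
    b.centralizer_le ha ha1 (congrArg Subtype.val (hab P P.isPGroup' s hs _ haP).eq :)
  intro g hg
  obtain ⟨k, hk, hkn⟩ := exists_core_mul_normalizer hab P ⟨g, hg⟩
  have h1 := hPS _ ((mem_normalizer_iff.1 hkn _).1 haP)
  have h2 : (k : G)⁻¹ * g ∈ SN S := b.mem_of_conj ha ha1 h1
  have := mul_mem (hKN ⟨k, hk, rfl⟩) h2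
  rwa [Subgroup.coe_subtype, mul_inv_cancel_left] at this

theorem exists_comp : ∃ E : Subgroup G, Comp S E := by
  haveI : Fact (Nat.Prime 2) := ⟨Nat.prime_two⟩
  haveI : ((S : Subgroup G).subgroupOf (SN S)).Normal := normal_in_normalizer
  have hnd : ¬ 2 ∣ ((S : Subgroup G).subgroupOf (SN S)).index :=
    (S.subtype (sylow_le_SN S)).not_dvd_index
  obtain ⟨j, hj⟩ := S.isPGroup'.exists_card_eq
  have hc : Nat.card ↥((S : Subgroup G).subgroupOf (SN S)) = 2 ^ j := by
    rw [Nat.card_congr (Subgroup.subgroupOfEquivOfLe (sylow_le_SN S)).toEquiv, hj]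
  obtain ⟨E, hE⟩ := Subgroup.exists_right_complement'_of_coprime
    (N := (S : Subgroup G).subgroupOf (SN S))
    (hc ▸ Nat.Coprime.pow_left j ((Nat.prime_two.coprime_iff_not_dvd).2 hnd))
  refine ⟨E.map (SN S).subtype, map_subtype_le _, ?_, fun m hm => ?_⟩
  · rw [card_map_of_injective (SN S).subtype_injective, ← hE.symm.index_eq_card]
    exact Nat.not_even_iff_odd.1 fun he => hnd he.two_dvd
  · obtain ⟨⟨s, e⟩, hse⟩ := hE.2 ⟨m, hm⟩
    refine ⟨(s : ↥(SN S)), s.2, ?_⟩
    have h1 : ((s : ↥(SN S)) : G) * ((e : ↥(SN S)) : G) = m := congrArg Subtype.val hse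
    rw [← h1, inv_mul_cancel_left]
    exact ⟨e, e.2, rfl⟩

end Big

namespace Comp

variable {S : Sylow 2 G} {E : Subgroup G} (c : Comp S E)
include c

omit [Finite G] in
theorem odd_orderOf {e : G} (he : e ∈ E) : Odd (orderOf e) :=
  Odd.of_dvd_nat c.odd (orderOf_dvd_natCard E he)

omit [Finite G] in
theorem eq_one_of_mem {e : G} (he : e ∈ E) (hs : e ∈ (S : Subgroup G)) : e = 1 :=
  eq_one_of_isTwo_of_odd (isTwo_of_mem S.isPGroup' hs) (c.odd_orderOf he)

omit [Finite G] in
theorem conj {m : G} (hm : m ∈ SN S) : Comp S (E.map (MulAut.conj m).toMonoidHom) := by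
  refine ⟨?_, ?_, fun n hn => ?_⟩
  · rintro _ ⟨e, he, rfl⟩
    exact mul_mem (mul_mem hm (c.le he)) (inv_mem hm)
  · rw [card_map_of_injective (MulEquiv.injective _)]; exact c.odd
  · obtain ⟨s, hs, he⟩ := c.cover (m⁻¹ * n * m) (mul_mem (mul_mem (inv_mem hm) hn) hm)
    refine ⟨m * s * m⁻¹, (mem_normalizer_iff.1 hm s).1 hs, _, he, ?_⟩
    show m * (s⁻¹ * (m⁻¹ * n * m)) * m⁻¹ = _
    group

/-- Elements of order `r` lie in complements. -/
theorem exists_conj_mem [hr : Fact r.Prime] (hr2 : r ≠ 2) {g : G} (hg : g ∈ SN S)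
    (hgr : g ^ r = 1) : ∃ E' : Subgroup G, Comp S E' ∧ g ∈ E' := by
  haveI : Fact (Nat.Prime 2) := ⟨Nat.prime_two⟩
  set N := SN S with hN
  set E0 := E.subgroupOf N
  have hp : IsPGroup r ↥(zpowers (⟨g, hg⟩ : ↥N)) := by
    intro ⟨x, hx⟩
    obtain ⟨j, rfl⟩ := mem_zpowers_iff.1 hx
    refine ⟨1, Subtype.ext ?_⟩
    show ((⟨g, hg⟩ : ↥N) ^ j) ^ (r ^ 1) = 1
    rw [pow_one, ← zpow_natCast, ← zpow_mul, mul_comm, zpow_mul, zpow_natCast,
      show (⟨g, hg⟩ : ↥N) ^ r = 1 from Subtype.ext hgr, one_zpow]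
  obtain ⟨P, hP⟩ := hp.exists_le_sylow
  obtain ⟨Q⟩ := (inferInstance : Nonempty (Sylow r ↥E0))
  have hidx : ¬ r ∣ ((Q : Subgroup ↥E0).map E0.subtype).index := by
    rw [Subgroup.index_map_subtype]
    refine hr.out.not_dvd_mul Q.not_dvd_index fun hd => ?_
    obtain ⟨j, hj⟩ := S.isPGroup'.exists_card_eq
    have hSE : E0.index ∣ Nat.card ↥((S : Subgroup G).subgroupOf N) := by
      have hcompl : ((S : Subgroup G).subgroupOf N).IsComplement' E0 := by
        refine isComplement'_of_disjoint_and_mul_eq_univ ?_ ?_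
        · rw [disjoint_iff, eq_bot_iff]
          intro x hx
          exact mem_bot.2 (Subtype.ext (c.eq_one_of_mem hx.2 hx.1))
        · refine Set.eq_univ_of_forall fun x => ?_
          obtain ⟨s, hs, he⟩ := c.cover x x.2
          exact ⟨⟨s, le_normalizer hs⟩, hs,
            ⟨s⁻¹ * x, mul_mem (inv_mem (le_normalizer hs)) x.2⟩, he,
            Subtype.ext (mul_inv_cancel_left s x)⟩
      rw [hcompl.index_eq_card]
    rw [Nat.card_congr (Subgroup.subgroupOfEquivOfLe (sylow_le_SN S)).toEquiv, hj] at hSE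
    exact hr2 ((Nat.prime_dvd_prime_iff_eq hr.out Nat.prime_two).1
      (hr.out.dvd_of_dvd_pow (hd.trans hSE)))
  obtain ⟨m, hm⟩ :=
    MulAction.exists_smul_eq ↥N ((Q.isPGroup'.map E0.subtype).toSylow hidx) P
  refine ⟨_, c.conj m.2, ?_⟩
  have h1 : (⟨g, hg⟩ : ↥N) ∈ ((m • ((Q.isPGroup'.map E0.subtype).toSylow hidx) : Sylow r ↥N) :
      Subgroup ↥N) := hm ▸ hP (mem_zpowers _)
  rw [Sylow.coe_subgroup_smul] at h1
  obtain ⟨x, hx, hxg⟩ := h1
  exact ⟨(x : G), (map_subtype_le _ hx : x ∈ E0), congrArg Subtype.val hxg⟩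

end Comp

end CfsgLib.ThreeOrders
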