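import Mathlib
import Cfsg.Agent.Lib.ThreeOrders.Big

/-!
# Rank at least three: the odd part of the centralizer of a Sylow 2-subgroup is trivial

With `E` a complement of `S` in `N(S)` and `W = C_E(S) ≠ 1`, either `E / W` is an `r'`-group, giving
a configuration of Frobenius type, or `E` is an `r`-group and `|E / W| = r = 2 ^ n - 1`; both are
impossible.
-/

set_option autoImplicit false
set_option linter.style.haveILetI false

namespace CfsgLib.ThreeOrders

open Subgroup MulAction CfsgLib.CIT CfsgLib.Involutions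

universe u

variable {G : Type u} [Group G]

/-- The centralizer of `S` in the complement. -/
abbrev oddCent (S : Sylow 2 G) (E : Subgroup G) : Subgroup G :=
  E ⊓ centralizer ((S : Subgroup G) : Set G)

variable [Finite G] {r : ℕ} {S : Sylow 2 G} {E : Subgroup G}

omit [Finite G] in
theorem commute_of_mem_centralizer {x a : G} (hx : x ∈ centralizer ((S : Subgroup G) : Set G))
    (ha : a ∈ (S : Subgroup G)) : Commute x a :=
  (mem_centralizer_iff.1 hx a ha).symm

namespace Big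

variable (b : Big G r S)
include b

theorem isMulCommutative : IsMulCommutative ↥(S : Subgroup G) :=
  ⟨⟨fun a c => Subtype.ext (b.commute a.2 c.2).eq⟩⟩

theorem exists_ne_one : ∃ a ∈ (S : Subgroup G), a ≠ 1 := by
  obtain ⟨a, ha, -, -, ha1, -⟩ := b.exists_pair
  exact ⟨a, ha, ha1⟩

variable (c : Comp S E)
include c

theorem pow_r_of_commute {e a : G} (he : e ∈ E) (ha : a ∈ (S : Subgroup G)) (ha1 : a ≠ 1)
    (hc : Commute e a) : e ^ r = 1 :=
  b.cb.pow_r_of_odd_commute (b.orderOf_eq ha ha1) (c.odd_orderOf he) hc.symm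

theorem pow_r_of_mem {w : G} (hw : w ∈ oddCent S E) : w ^ r = 1 := by
  obtain ⟨a, ha, ha1⟩ := b.exists_ne_one
  exact b.pow_r_of_commute c hw.1 ha ha1 (commute_of_mem_centralizer hw.2 ha)

theorem isPGroup_oddCent : IsPGroup r ↥(oddCent S E) := fun w =>
  ⟨1, Subtype.ext (by rw [SubgroupClass.coe_pow, pow_one]; exact b.pow_r_of_mem c w.2)⟩

omit [Finite G] in
theorem orderOf_eq_r {w : G} (hw : w ^ r = 1) (hw1 : w ≠ 1) : orderOf w = r := by
  haveI := Fact.mk b.cb.prime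
  exact orderOf_eq_prime hw hw1

theorem mem_oddCent {g : G} (hg : g ∈ centralizer ((S : Subgroup G) : Set G))
    (ho : Odd (orderOf g)) : g ∈ oddCent S E := by
  obtain ⟨a, ha, ha1⟩ := b.exists_ne_one
  obtain ⟨s, hs, he⟩ := c.cover g (b.centralizer_le ha ha1 (commute_of_mem_centralizer hg ha))
  have hsg : Commute s⁻¹ g := (commute_of_mem_centralizer hg (inv_mem hs)).symm
  have h1 : (s⁻¹ * g) ^ orderOf g = s⁻¹ ^ orderOf g := by
    rw [hsg.mul_pow, pow_orderOf_eq_one, mul_one]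
  have h2 : s⁻¹ ^ orderOf g = 1 :=
    c.eq_one_of_mem (h1 ▸ pow_mem he _) (pow_mem (inv_mem hs) _)
  obtain ⟨k, hk⟩ := ho
  rw [hk, pow_succ, pow_mul, sq, b.cb.sq_eq_one (isTwo_of_mem S.isPGroup' (inv_mem hs)), one_pow,
    one_mul] at h2
  rw [h2, one_mul] at he
  exact ⟨he, hg⟩

theorem le_normalizer_oddCent : E ≤ normalizer (oddCent S E : Set G) := fun e he =>
  mem_normalizer_of_forall fun w hw => by
    refine mem_inf.2 ⟨mul_mem (mul_mem he hw.1) (inv_mem he), mem_centralizer_iff.2 fun a ha => ?_⟩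
    have ha' : e⁻¹ * a * e ∈ (S : Subgroup G) := by
      have := (mem_normalizer_iff.1 (inv_mem (c.le he)) a).1 ha
      rwa [inv_inv] at this
    have h1 := (commute_of_mem_centralizer hw.2 ha').eq
    calc a * (e * w * e⁻¹) = e * ((e⁻¹ * a * e) * w) * e⁻¹ := by group
      _ = e * (w * (e⁻¹ * a * e)) * e⁻¹ := by rw [h1]
      _ = e * w * e⁻¹ * a := by group

theorem centralizer_le_of_oddCent {w g : G} (hw : w ∈ oddCent S E) (hw1 : w ≠ 1)
    (hg : Commute g w) : g ∈ SN S := by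
  obtain ⟨x, hx, y, hy, hx1, hy1, hxy⟩ := b.exists_pair
  refine b.solvable_le (b.cb.isSolvable_centralizer_r (b.orderOf_eq_r c (b.pow_r_of_mem c hw) hw1))
    hx hy hx1 hy1 hxy ?_ ?_ (mem_centralizer_singleton_iff.2 hg.eq)
  · exact mem_centralizer_singleton_iff.2 (commute_of_mem_centralizer hw.2 hx).eq.symm
  · exact mem_centralizer_singleton_iff.2 (commute_of_mem_centralizer hw.2 hy).eq.symm

/-- The trivial intersection property. -/
theorem ti {x g : G} (hx : x ∈ oddCent S E) (hx1 : x ≠ 1) (hgx : g⁻¹ * x * g ∈ oddCent S E) :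
    g ∈ SN S := by
  obtain ⟨a, ha, ha1⟩ := b.exists_ne_one
  have h1 : Commute (g⁻¹ * a * g) (g⁻¹ * x * g) := by
    have := (commute_of_mem_centralizer hx.2 ha).symm.eq
    show g⁻¹ * a * g * (g⁻¹ * x * g) = g⁻¹ * x * g * (g⁻¹ * a * g)
    calc g⁻¹ * a * g * (g⁻¹ * x * g) = g⁻¹ * (a * x) * g := by group
      _ = g⁻¹ * (x * a) * g := by rw [this]
      _ = _ := by group
  have h2 := b.centralizer_le_of_oddCent c hgx
    (fun e => hx1 (by
      calc x = g * (g⁻¹ * x * g) * g⁻¹ := by group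
        _ = 1 := by rw [e]; group)) h1
  exact inv_mem_iff.1 (b.mem_of_conj ha ha1 (g := g⁻¹) (by rwa [inv_inv]))

omit c in
/-- An element of prime order `s ≠ r` normalizing an `r`-subgroup makes it centralize `S`. -/
theorem centralizes_of_prime {x : G} {s : ℕ} (hs : s.Prime) (hsr : s ≠ r) (hs2 : s ≠ 2)
    (hx : x ∈ SN S) (hxs : orderOf x = s) {Y : Subgroup G} (hY : Y ≤ SN S) (hYr : IsPGroup r ↥Y)
    (hxY : x ∈ normalizer (Y : Set G)) : Y ≤ centralizer ((S : Subgroup G) : Set G) := by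
  haveI := b.isMulCommutative
  haveI := Fact.mk b.cb.prime
  have hxp : x ^ s = 1 := hxs ▸ pow_orderOf_eq_one x
  have hfix : ∀ y ∈ Y, Commute y x → y = 1 := by
    intro y hy hc
    by_contra hy1
    exact hs2 (b.cb.eq_of_commute_r (orderOf_eq_prime (b.cb.pow_r_eq_one_of_mem hYr hy) hy1)
      hc hs hxs hsr)
  have hcop : Nat.Coprime (Nat.card ↥(S : Subgroup G)) (Nat.card ↥Y) := by
    obtain ⟨i, hi⟩ := S.isPGroup'.exists_card_eq
    obtain ⟨j, hj⟩ := hYr.exists_card_eq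
    rw [hi, hj]
    exact Nat.Coprime.pow i j b.cb.coprime_two_r
  have hfpf : ∀ a ∈ (S : Subgroup G), Commute x a → a = 1 := fun a ha hc => by
    by_contra ha1
    exact hsr (b.cb.eq_of_commute_involution (b.orderOf_eq ha ha1) hc.symm hs hxs hs2)
  have h1 := centralizes_of_norm hs hxp hY hx hxY hfix hcop
    fun a ha => pow_eq_one_of_fpf hxp hx hfpf ha
  exact fun y hy => mem_centralizer_iff.2 fun a ha => (h1 a ha y hy).eq.symm

/-- An element of order `r` does not normalize a nontrivial `r'`-subgroup of the complement. -/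
theorem not_normalizes (hW : oddCent S E ≠ ⊥) {y : G} (hy : y ∈ E) (hyr : orderOf y = r)
    {C : Subgroup G} (hC : C ≤ E) (hC1 : C ≠ ⊥) (hCr : (Nat.card ↥C).Coprime r)
    (hyC : y ∈ normalizer (C : Set G)) : False := by
  haveI := Fact.mk b.cb.prime
  set W := oddCent S E with hWdef
  set A := W ⊓ centralizer (W : Set G)
  haveI : IsMulCommutative ↥A :=
    ⟨⟨fun u v => Subtype.ext (mem_centralizer_iff.1 v.2.2 u u.2.1)⟩⟩
  have hA1 : A ≠ ⊥ := by
    haveI : Nontrivial ↥W := (nontrivial_iff_ne_bot W).2 hW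
    haveI := (b.isPGroup_oddCent c).center_nontrivial
    obtain ⟨z, hz⟩ := exists_ne (1 : ↥(Subgroup.center ↥W))
    intro e
    have hzA : ((z : ↥W) : G) ∈ A := ⟨(z : ↥W).2, mem_centralizer_iff.2 fun u hu =>
      congrArg Subtype.val (Subgroup.mem_center_iff.1 z.2 ⟨u, hu⟩)⟩
    rw [e, mem_bot] at hzA
    exact hz (Subtype.ext (Subtype.ext hzA))
  have hnorm : E ≤ normalizer (A : Set G) := fun e he => mem_normalizer_of_forall fun a ha => by
    have hn := b.le_normalizer_oddCent c he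
    refine ⟨(mem_normalizer_iff.1 hn a).1 ha.1, mem_centralizer_iff.2 fun u hu => ?_⟩
    have hu' : e⁻¹ * u * e ∈ W := by
      have := (mem_normalizer_iff.1 (inv_mem hn) u).1 hu
      rwa [inv_inv] at this
    have h1 := mem_centralizer_iff.1 ha.2 _ hu'
    calc u * (e * a * e⁻¹) = e * ((e⁻¹ * u * e) * a) * e⁻¹ := by group
      _ = e * (a * (e⁻¹ * u * e)) * e⁻¹ := by rw [h1]
      _ = e * a * e⁻¹ * u := by group
  have hxp : y ^ r = 1 := hyr ▸ pow_orderOf_eq_one y
  have hfix : ∀ z ∈ C, Commute z y → z = 1 := by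
    intro z hz hc
    by_contra hz1
    obtain ⟨q, hq, hqd⟩ := Nat.exists_prime_and_dvd (mt orderOf_eq_one_iff.1 hz1)
    obtain ⟨v, hv, hvo⟩ := exists_orderOf_eq hqd
    obtain ⟨k, rfl⟩ := mem_zpowers_iff.1 hv
    have hqr : q ≠ r := fun e => b.cb.prime.ne_one (Nat.eq_one_of_dvd_coprimes hCr
      (e ▸ hqd.trans (orderOf_dvd_natCard C hz)) dvd_rfl)
    have hq2 : q ≠ 2 := fun e => (Nat.not_even_iff_odd.2 (c.odd_orderOf (hC hz)))
      (even_iff_two_dvd.2 (e ▸ hqd))
    exact hq2 (b.cb.eq_of_commute_r hyr (hc.symm.zpow_right k) hq hvo hqr)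
  have hcop : Nat.Coprime (Nat.card ↥A) (Nat.card ↥C) := by
    obtain ⟨i, hi⟩ := ((b.isPGroup_oddCent c).to_le (inf_le_left : A ≤ W)).exists_card_eq
    rw [hi]
    exact hCr.symm.pow_left i
  have hN : ∀ a ∈ A, (a * y) ^ r = 1 := by
    intro a ha
    have h1 : (a * y) ^ r ∈ A := by
      have e := coe_prod_conj_pow A (hnorm hy) ⟨a, ha⟩ r
      rw [hxp, mul_one] at e
      rw [e]
      exact SetLike.coe_mem _
    have h2 : (a * y) ^ (r ^ 2) = 1 := by
      rw [sq, pow_mul]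
      exact b.pow_r_of_mem c h1.1
    obtain ⟨k, -, hk⟩ := (Nat.dvd_prime_pow b.cb.prime).1 (orderOf_dvd_of_pow_eq_one h2)
    exact b.cb.pow_r_eq_one hk
  have h1 := centralizes_of_norm b.cb.prime hxp (hC.trans hnorm) (hnorm hy) hyC hfix hcop hN
  obtain ⟨a, ha, ha1⟩ := (bot_or_exists_ne_one A).resolve_left hA1
  obtain ⟨z, hz, hz1⟩ := (bot_or_exists_ne_one C).resolve_left hC1
  obtain ⟨q, hq, hqd⟩ := Nat.exists_prime_and_dvd (mt orderOf_eq_one_iff.1 hz1)
  obtain ⟨v, hv, hvo⟩ := exists_orderOf_eq hqd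
  obtain ⟨k, rfl⟩ := mem_zpowers_iff.1 hv
  have hqr : q ≠ r := fun e => b.cb.prime.ne_one (Nat.eq_one_of_dvd_coprimes hCr
    (e ▸ hqd.trans (orderOf_dvd_natCard C hz)) dvd_rfl)
  have hq2 : q ≠ 2 := fun e => (Nat.not_even_iff_odd.2 (c.odd_orderOf (hC hz)))
    (even_iff_two_dvd.2 (e ▸ hqd))
  exact hq2 (b.cb.eq_of_commute_r (b.orderOf_eq_r c (b.pow_r_of_mem c ha.1) ha1)
    ((h1 a ha z hz).symm.zpow_right k) hq hvo hqr)

/-- The two possibilities for the complement. -/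
theorem alternative (hW : oddCent S E ≠ ⊥) :
    (∀ e ∈ E, e ^ r = 1) ∨ (∀ e ∈ E, e ^ r = 1 → e ∈ oddCent S E) := by
  haveI := Fact.mk b.cb.prime
  haveI : Group.IsSolvable ↥E := isSolvable_of_odd c.odd
  by_cases hall : ∀ x ∈ E, ∀ s : ℕ, s.Prime → orderOf x = s → s = r
  · left
    intro e he
    have hp : IsPGroup r ↥E := by
      refine IsPGroup.of_card (n := (Nat.card E).primeFactorsList.length)
        (Nat.eq_prime_pow_of_unique_prime_dvd Nat.card_pos.ne' fun {q} hq hd => ?_)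
      haveI := Fact.mk hq
      obtain ⟨x, hx⟩ := exists_prime_orderOf_dvd_card' q hd
      exact hall x x.2 q hq ((orderOf_coe x).trans hx)
    exact b.cb.pow_r_eq_one_of_mem hp he
  right
  push Not at hall
  obtain ⟨x, hx, s, hs, hxs, hsr⟩ := hall
  have hs2 : s ≠ 2 := fun e => (Nat.not_even_iff_odd.2 (c.odd_orderOf hx))
    (even_iff_two_dvd.2 (hxs ▸ e ▸ dvd_rfl))
  set R := Cfsg.pCore r ↥E with hR
  haveI : R.Normal := Cfsg.pCore_normal _ _
  have hRW : ∀ e : ↥E, e ∈ R → (e : G) ∈ oddCent S E := by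
    intro e he
    have h1 := b.centralizes_of_prime hs hsr hs2 (c.le hx) hxs (Y := R.map E.subtype)
      ((map_subtype_le R).trans c.le) (CfsgLib.PCore.pCore_isPGroup.map _)
      (mem_normalizer_of_forall (by
        rintro _ ⟨y, hy, rfl⟩
        exact ⟨_, ‹R.Normal›.conj_mem y hy ⟨x, hx⟩, rfl⟩))
    exact ⟨e.2, h1 ⟨e, he, rfl⟩⟩
  haveI : ((oddCent S E).subgroupOf E).Normal :=
    (normal_subgroupOf_iff_le_normalizer inf_le_left).2 (b.le_normalizer_oddCent c)
  have hWR : ∀ e : ↥E, (e : G) ∈ oddCent S E → e ∈ R := fun e he =>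
    CfsgLib.PCore.le_pCore (N := (oddCent S E).subgroupOf E) inferInstance
      (b.isPGroup_oddCent c).comap_subtype he
  intro e he her
  by_contra heW
  set π := QuotientGroup.mk' R
  have hπ : Function.Surjective π := QuotientGroup.mk'_surjective R
  have heR : π ⟨e, he⟩ ≠ 1 := fun h1 => heW (hRW _ ((QuotientGroup.eq_one_iff _).1 h1))
  set K := Cfsg.pPrimeCore r (↥E ⧸ R) with hK
  have hK1 : K ≠ ⊥ := by
    intro hKb
    have := CfsgLib.InvChar.centralizer_pCore_le (p := r) hKb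
    rw [CfsgLib.PCore.pCore_quotient_pCore] at this
    exact heR (mem_bot.1 (this (mem_centralizer_iff.2 fun z hz => by
      rw [coe_bot, Set.mem_singleton_iff] at hz; simp [hz])))
  haveI : K.Normal := Cfsg.pPrimeCore_normal _ _
  set L := K.comap π with hL
  obtain ⟨q, hq, hqK⟩ := Nat.exists_prime_and_dvd (mt card_eq_one.1 hK1)
  haveI := Fact.mk hq
  have hqr : q ≠ r := by
    intro e'
    subst e'
    exact CfsgLib.PCore.not_dvd_card_pPrimeCore hqK
  have hqL : q ∣ Nat.card ↥L := by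
    refine hqK.trans ?_
    have := CfsgLib.PCore.card_comap_mk' R K
    rw [show Nat.card ↥L = Nat.card ↥(K.comap (QuotientGroup.mk' R)) from rfl, this]
    first
      | exact dvd_mul_right _ _
      | exact dvd_mul_left _ _
  obtain ⟨Q⟩ := (inferInstance : Nonempty (Sylow q ↥L))
  set Q' := (Q : Subgroup ↥L).map L.subtype with hQ'
  have htop : normalizer (Q' : Set ↥E) ⊔ L = ⊤ := Sylow.normalizer_sup_eq_top Q
  have heL : (⟨e, he⟩ : ↥E) ∉ L := by
    intro h1
    refine heR (orderOf_eq_one_iff.1 (Nat.eq_one_of_dvd_coprimes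
      (CfsgLib.PCore.pPrimeCore_coprime (p := r) (G := ↥E ⧸ R))
      (orderOf_dvd_natCard K h1) ?_))
    refine orderOf_dvd_of_pow_eq_one ?_
    rw [← map_pow, show (⟨e, he⟩ : ↥E) ^ r = 1 from Subtype.ext her, map_one]
  obtain ⟨y, hyo⟩ : ∃ y : ↥(normalizer (Q' : Set ↥E)), orderOf y = r := by
    refine exists_prime_orderOf_dvd_card' r ?_
    set f := (QuotientGroup.mk' L).comp (normalizer (Q' : Set ↥E)).subtype
    have hf : Function.Surjective f := by
      intro z
      obtain ⟨z, rfl⟩ := QuotientGroup.mk'_surjective L z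
      have hz : z ∈ normalizer (Q' : Set ↥E) ⊔ L := htop ▸ mem_top z
      rw [← SetLike.mem_coe, mul_normal, Set.mem_mul] at hz
      obtain ⟨m, hm, l, hl, rfl⟩ := hz
      exact ⟨⟨m, hm⟩, QuotientGroup.eq.2 (by simpa using hl)⟩
    refine dvd_trans ?_ (Subgroup.card_dvd_of_surjective f hf)
    have h1 : orderOf (QuotientGroup.mk' L ⟨e, he⟩) = r :=
      orderOf_eq_prime (by
        rw [← map_pow, show (⟨e, he⟩ : ↥E) ^ r = 1 from Subtype.ext her, map_one])
        (fun h2 => heL ((QuotientGroup.eq_one_iff _).1 h2))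
    exact h1 ▸ orderOf_dvd_natCard _
  refine b.not_normalizes c hW (y : ↥E).2 ((orderOf_coe _).trans ((orderOf_coe y).trans hyo))
    (C := Q'.map E.subtype) (map_subtype_le _) ?_ ?_ (mem_normalizer_of_forall ?_)
  · rw [Ne, map_eq_bot_iff_of_injective _ E.subtype_injective,
      map_eq_bot_iff_of_injective _ L.subtype_injective, ← card_eq_one]
    intro h1
    have := Q.dvd_card_of_dvd_card hqL
    rw [h1] at this
    exact hq.ne_one (Nat.dvd_one.1 this)
  · rw [card_map_of_injective E.subtype_injective, card_map_of_injective L.subtype_injective]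
    obtain ⟨i, hi⟩ := Q.isPGroup'.exists_card_eq
    rw [hi]
    exact Nat.Coprime.pow_left i ((Nat.coprime_primes hq b.cb.prime).2 hqr)
  · rintro _ ⟨z, hz, rfl⟩
    exact ⟨_, (mem_normalizer_iff.1 y.2 z).1 hz, rfl⟩

/-- The complement modulo `W` is not an `r'`-group. -/
theorem not_frobenius_type (hW : oddCent S E ≠ ⊥)
    (hr : ∀ e ∈ E, e ^ r = 1 → e ∈ oddCent S E) : False := by
  set H := centralizer ((S : Subgroup G) : Set G) with hH
  have hHN : H ≤ SN S := centralizer_le_normalizer _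
  have hsplit : ∀ x ∈ H, ∃ s ∈ (S : Subgroup G), s⁻¹ * x ∈ oddCent S E := by
    intro x hx
    obtain ⟨s, hs, he⟩ := c.cover x (hHN hx)
    refine ⟨s, hs, mem_inf.2 ⟨he, mul_mem (inv_mem ?_) hx⟩⟩
    exact mem_centralizer_iff.2 fun u hu => (b.commute hu hs).eq
  have hSH : (S : Subgroup G) ≤ H := fun s hs =>
    mem_centralizer_iff.2 fun u hu => (b.commute hu hs).eq
  haveI : Group.IsNilpotent ↥H := by
    haveI : ((S : Subgroup G).subgroupOf H).Normal :=
      (normal_subgroupOf_iff_le_normalizer hSH).2 hHN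
    haveI := Fact.mk b.cb.prime
    have hq : IsPGroup r (↥H ⧸ (S : Subgroup G).subgroupOf H) := by
      intro z
      obtain ⟨x, rfl⟩ := QuotientGroup.mk'_surjective _ z
      obtain ⟨s, hs, hw⟩ := hsplit x x.2
      refine ⟨1, ?_⟩
      have hx : QuotientGroup.mk' ((S : Subgroup G).subgroupOf H) x =
          QuotientGroup.mk' _ (⟨s⁻¹ * x, hw.2⟩ : ↥H) := by
        refine QuotientGroup.eq.2 ?_
        show ((x⁻¹ * ⟨s⁻¹ * (x : G), hw.2⟩ : ↥H) : G) ∈ (S : Subgroup G)
        have h1 : (x : G)⁻¹ * (s⁻¹ * (x : G)) = s⁻¹ := by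
          rw [(commute_of_mem_centralizer x.2 (inv_mem hs)).symm.eq, inv_mul_cancel_left]
        rw [Subgroup.coe_mul, Subgroup.coe_inv]
        show (x : G)⁻¹ * (s⁻¹ * (x : G)) ∈ (S : Subgroup G)
        rw [h1]
        exact inv_mem hs
      rw [hx, ← map_pow, pow_one,
        show (⟨s⁻¹ * (x : G), hw.2⟩ : ↥H) ^ r = 1 from Subtype.ext (b.pow_r_of_mem c hw), map_one]
    haveI := hq.isNilpotent
    refine Subgroup.isNilpotent_of_ker_le_center (QuotientGroup.mk' ((S : Subgroup G).subgroupOf H)) ?_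
    rw [QuotientGroup.ker_mk']
    intro x hx
    rw [Subgroup.mem_center_iff]
    exact fun y => Subtype.ext (commute_of_mem_centralizer y.2 hx).eq
  have h2 : ∀ x ∈ SN S, orderOf x = 2 → x ∈ H := fun x hx ho => hSH (mem_sylow hx ho)
  have hgen : ∀ x ∈ H, x ≠ 1 → (∃ a ∈ (S : Subgroup G), a ≠ 1 ∧ ∃ k : ℕ, x ^ k = a) ∨
      x ∈ oddCent S E := by
    intro x hx hx1
    obtain ⟨s, hs, hw⟩ := hsplit x hx
    by_cases hs1 : s = 1
    · rw [hs1, inv_one, one_mul] at hw
      exact Or.inr hw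
    · refine Or.inl ⟨s, hs, hs1, r, ?_⟩
      have hc : Commute s (s⁻¹ * x) := (commute_of_mem_centralizer hw.2 hs).symm
      have e : x = s * (s⁻¹ * x) := (mul_inv_cancel_left s x).symm
      obtain ⟨j, hj⟩ := b.cb.prime.odd_of_ne_two b.cb.ne_two
      conv_lhs => rw [e, hc.mul_pow, b.pow_r_of_mem c hw, mul_one, hj, pow_succ, pow_mul, sq,
        b.cb.sq_eq_one (isTwo_of_mem S.isPGroup' hs), one_pow, one_mul]
  have hti : TI.Hyp (SN S) H := by
    refine ⟨b.se, hHN, ?_, inferInstance, h2, ?_, ?_, ?_⟩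
    · intro m hm
      refine mem_normalizer_of_forall fun x hx => mem_centralizer_iff.2 fun a ha => ?_
      have ha' : m⁻¹ * a * m ∈ (S : Subgroup G) := by
        have := (mem_normalizer_iff.1 (inv_mem hm) a).1 ha
        rwa [inv_inv] at this
      have h1 := (commute_of_mem_centralizer hx ha').eq
      calc a * (m * x * m⁻¹) = m * ((m⁻¹ * a * m) * x) * m⁻¹ := by group
        _ = m * (x * (m⁻¹ * a * m)) * m⁻¹ := by rw [h1]
        _ = m * x * m⁻¹ * a := by group
    · intro g x hx hx1 hgx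
      rcases hgen x hx hx1 with ⟨a, ha, ha1, k, hk⟩ | hxW
      · refine inv_mem_iff.1 (b.mem_of_conj ha ha1 (g := g⁻¹) ?_)
        have e : g⁻¹ * a * g⁻¹⁻¹ = (g⁻¹ * x * g⁻¹⁻¹) ^ k := by rw [conj_pow, hk]
        rw [e, inv_inv]
        exact pow_mem (hHN hgx) _
      · have h1 : g⁻¹ * x * g ∈ oddCent S E := by
          refine b.mem_oddCent c hgx ?_
          have e : orderOf (g⁻¹ * x * g⁻¹⁻¹) = orderOf x := orderOf_conj_eq _ _
          rw [inv_inv] at e
          rw [e]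
          exact c.odd_orderOf hxW.1
        exact b.ti c hxW hx1 h1
    · intro x hx hx1 g hg
      have hmem : ∀ a ∈ (S : Subgroup G), a ≠ 1 → Commute g a → g ∈ H := by
        intro a ha ha1 hc
        obtain ⟨s, hs, he⟩ := c.cover g (b.centralizer_le ha ha1 hc)
        have h1 : Commute (s⁻¹ * g) a := (b.commute (inv_mem hs) ha).mul_left hc
        have := mul_mem (hSH hs) (hr _ he (b.pow_r_of_commute c he ha ha1 h1)).2
        rwa [mul_inv_cancel_left] at this
      rcases hgen x hx hx1 with ⟨a, ha, ha1, k, hk⟩ | hxW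
      · exact hmem a ha ha1 (hk ▸ (hg.pow_right k))
      · obtain ⟨s, hs, he⟩ := c.cover g (b.centralizer_le_of_oddCent c hxW hx1 hg)
        have hc : Commute (s⁻¹ * g) x :=
          (commute_of_mem_centralizer hxW.2 (inv_mem hs)).symm.mul_left hg
        have hxr := b.orderOf_eq_r c (b.pow_r_of_mem c hxW) hx1
        have her : (s⁻¹ * g) ^ r = 1 := by
          by_cases he1 : s⁻¹ * g = 1
          · rw [he1, one_pow]
          have hodd := c.odd_orderOf he
          have hall : ∀ q : ℕ, q.Prime → q ∣ orderOf (s⁻¹ * g) → q = r := by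
            intro q hq hqd
            by_contra hqr
            obtain ⟨v, hv, hvo⟩ := exists_orderOf_eq hqd
            obtain ⟨i, rfl⟩ := mem_zpowers_iff.1 hv
            have hq2 := b.cb.eq_of_commute_r hxr (hc.symm.zpow_right i) hq hvo hqr
            exact (Nat.not_even_iff_odd.2 hodd) (even_iff_two_dvd.2 (hq2 ▸ hqd))
          exact b.cb.pow_r_eq_one (Nat.eq_prime_pow_of_unique_prime_dvd
            (orderOf_pos _).ne' fun {q} hq hqd => hall q hq hqd)
        have := mul_mem (hSH hs) (hr _ he her).2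
        rwa [mul_inv_cancel_left] at this
    · obtain ⟨x, hx, y, hy, hx1, hy1, hxy⟩ := b.exists_pair
      exact ⟨x, y, sylow_le_SN S hx, sylow_le_SN S hy, b.orderOf_eq hx hx1, b.orderOf_eq hy hy1,
        hxy⟩
  obtain ⟨w, hw, hw1⟩ := (bot_or_exists_ne_one _).resolve_left hW
  obtain ⟨k, hk⟩ := (TI.main hti).2.1 ⟨w, hw.2⟩
  exact hw1 (eq_one_of_isTwo_of_odd ⟨k, congrArg Subtype.val hk⟩ (c.odd_orderOf hw.1))

/-- A nontrivial odd part of `C(S)` forces exponent `r` in every complement. -/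
theorem exponent (hW : oddCent S E ≠ ⊥) : ∀ e ∈ E, e ^ r = 1 :=
  (b.alternative c hW).resolve_right (b.not_frobenius_type c hW)

theorem oddCent_le {E' : Subgroup G} (c' : Comp S E') : oddCent S E ≤ oddCent S E' :=
  fun w hw => b.mem_oddCent c' hw.2 (c.odd_orderOf hw.1)

theorem pow_r_of_odd (hW : oddCent S E ≠ ⊥) {g : G} (hg : g ∈ SN S) (ho : Odd (orderOf g)) :
    g ^ r = 1 := by
  haveI := b.isMulCommutative
  obtain ⟨s, hs, he⟩ := c.cover g hg
  have h1 : g ^ r ∈ (S : Subgroup G) := by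
    have h2 := coe_prod_conj_pow (S : Subgroup G) (c.le he) ⟨s, hs⟩ r
    rw [b.exponent c hW _ he, mul_one] at h2
    have h3 : g = ((⟨s, hs⟩ : ↥(S : Subgroup G)) : G) * (s⁻¹ * g) := (mul_inv_cancel_left s g).symm
    rw [h3, h2]
    exact SetLike.coe_mem _
  exact eq_one_of_isTwo_of_odd (isTwo_of_mem S.isPGroup' h1) (ho.of_dvd_nat (orderOf_pow_dvd r))

theorem transitive_comp {a a' : G} (ha : a ∈ (S : Subgroup G)) (ha1 : a ≠ 1)
    (ha' : a' ∈ (S : Subgroup G)) (ha1' : a' ≠ 1) : ∃ e ∈ E, e * a * e⁻¹ = a' := by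
  obtain ⟨m, hm, hma⟩ := b.exists_conj ha ha1 ha' ha1'
  obtain ⟨s, hs, he⟩ := c.cover m hm
  refine ⟨_, he, ?_⟩
  calc s⁻¹ * m * a * (s⁻¹ * m)⁻¹ = s⁻¹ * (m * a * m⁻¹) * s := by group
    _ = a' := by rw [hma, (b.commute (inv_mem hs) ha').eq, inv_mul_cancel_right]

/-- The centralizer of an involution of `S` in the complement has index `|S| - 1`. -/
theorem index_centralizer {a : G} (ha : a ∈ (S : Subgroup G)) (ha1 : a ≠ 1) :
    ((centralizer ({a} : Set G)).subgroupOf E).index = Nat.card ↥(S : Subgroup G) - 1 := by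
  set K := (centralizer ({a} : Set G)).subgroupOf E with hK
  let f : ↥E ⧸ K → {x : G // x ∈ (S : Subgroup G) ∧ x ≠ 1} := Quotient.lift
    (fun e : ↥E => ⟨(e : G) * a * (e : G)⁻¹, (mem_normalizer_iff.1 (c.le e.2) a).1 ha,
      fun h1 => ha1 (by simpa using h1)⟩)
    (fun e e' hee => by
      rw [← Quotient.eq_iff_equiv] at hee
      have h1 := mem_centralizer_singleton_iff.1 (mem_subgroupOf.1 (QuotientGroup.eq.1 hee))
      rw [Subgroup.coe_mul, Subgroup.coe_inv] at h1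
      refine Subtype.ext ?_
      show (e : G) * a * (e : G)⁻¹ = (e' : G) * a * (e' : G)⁻¹
      calc (e : G) * a * (e : G)⁻¹ = e * (a * ((e : G)⁻¹ * e')) * (e' : G)⁻¹ := by group
        _ = e * ((e : G)⁻¹ * e' * a) * (e' : G)⁻¹ := by rw [← h1]
        _ = _ := by group)
  have hf : Function.Bijective f := by
    refine ⟨?_, fun ⟨x, hx, hx1⟩ => ?_⟩
    · rintro ⟨e⟩ ⟨e'⟩ hee
      refine QuotientGroup.eq.2 ?_
      have h1 : (e : G) * a * (e : G)⁻¹ = (e' : G) * a * (e' : G)⁻¹ := congrArg Subtype.val hee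
      refine mem_subgroupOf.2 (mem_centralizer_singleton_iff.2 ?_)
      rw [Subgroup.coe_mul, Subgroup.coe_inv]
      calc (e : G)⁻¹ * e' * a = (e : G)⁻¹ * (e' * a * (e' : G)⁻¹) * e' := by group
        _ = _ := by rw [← h1]; group
    · obtain ⟨e, he, hee⟩ := b.transitive_comp c ha ha1 hx hx1
      exact ⟨QuotientGroup.mk ⟨e, he⟩, Subtype.ext hee⟩
  show Nat.card (↥E ⧸ K) = _
  rw [Nat.card_eq_of_bijective f hf]
  show Nat.card ↥{x : G | x ∈ (S : Subgroup G) ∧ x ≠ 1} = _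
  rw [Nat.card_coe_set_eq, show {x : G | x ∈ (S : Subgroup G) ∧ x ≠ 1} =
      ((S : Subgroup G) : Set G) \ {1} from rfl,
    Set.ncard_sdiff_singleton_of_mem (one_mem (S : Subgroup G)), ← Nat.card_coe_set_eq]
  rfl

/-- In the case of exponent `r`: `2 ^ n - 1 = r` and the centralizers of involutions in the
complement are `W`. -/
theorem comp_data_of_exp (hexp : ∀ e ∈ E, e ^ r = 1) : Nat.card ↥(S : Subgroup G) = r + 1 ∧
    ∀ e ∈ E, ∀ a ∈ (S : Subgroup G), a ≠ 1 → Commute e a → e ∈ oddCent S E := by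
  haveI := Fact.mk b.cb.prime
  have hEr : IsPGroup r ↥E := fun e =>
    ⟨1, Subtype.ext (by rw [SubgroupClass.coe_pow, pow_one]; exact hexp e e.2)⟩
  have main : ∀ a ∈ (S : Subgroup G), a ≠ 1 → Nat.card ↥(S : Subgroup G) = r + 1 ∧
      ((centralizer ({a} : Set G)).subgroupOf E).Normal := by
    intro a ha ha1
    set K := (centralizer ({a} : Set G)).subgroupOf E with hK
    have hidx : K.index = Nat.card ↥(S : Subgroup G) - 1 := b.index_centralizer c ha ha1
    obtain ⟨k, hk⟩ := hEr.exists_card_eq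
    obtain ⟨j, -, hj⟩ := (Nat.dvd_prime_pow b.cb.prime).1 (hk ▸ K.index_dvd_card)
    obtain ⟨n, hn⟩ := S.isPGroup'.exists_card_eq
    have h8 := b.h8
    rw [hn] at h8
    have hn2 : 2 ≤ n := by
      by_contra hlt
      push Not at hlt
      interval_cases n <;> simp at h8
    have hr := exponent_eq_one b.cb.prime hn2 (hn ▸ hidx ▸ hj)
    refine ⟨by rw [hn]; omega, normal_of_index_eq_minFac_card ?_⟩
    rw [hidx, hn, hr, hk]
    rcases k with _ | k
    · exfalso
      rw [hidx, hn, hr] at hj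
      have := hk ▸ K.index_dvd_card
      rw [hidx, hn, hr, pow_zero] at this
      exact b.cb.prime.ne_one (Nat.dvd_one.1 this)
    · rw [Nat.Prime.pow_minFac b.cb.prime k.succ_ne_zero]
  obtain ⟨a0, ha0, ha01⟩ := b.exists_ne_one
  refine ⟨(main a0 ha0 ha01).1, fun e he a ha ha1 hc => mem_inf.2 ⟨he, mem_centralizer_iff.2 ?_⟩⟩
  intro x hx
  by_cases hx1 : x = 1
  · simp [hx1]
  obtain ⟨g, hg, hgx⟩ := b.transitive_comp c ha ha1 hx hx1
  have h1 := (main a ha ha1).2.conj_mem ⟨e, he⟩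
    (mem_subgroupOf.2 (mem_centralizer_singleton_iff.2 hc.eq)) ⟨g⁻¹, inv_mem hg⟩
  have h2 := mem_centralizer_singleton_iff.1 (mem_subgroupOf.1 h1)
  simp only [Subgroup.coe_mul, Subgroup.coe_inv, inv_inv] at h2
  rw [← hgx]
  calc g * a * g⁻¹ * e = g * (a * (g⁻¹ * e * g)) * g⁻¹ := by group
    _ = g * (g⁻¹ * e * g * a) * g⁻¹ := by rw [← h2]
    _ = e * (g * a * g⁻¹) := by group

/-- The data when the odd part of `C(S)` is nontrivial. -/
theorem comp_data (hW : oddCent S E ≠ ⊥) : Nat.card ↥(S : Subgroup G) = r + 1 ∧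
    ∀ e ∈ E, ∀ a ∈ (S : Subgroup G), a ≠ 1 → Commute e a → e ∈ oddCent S E :=
  b.comp_data_of_exp c (b.exponent c hW)

/-- An element of odd order of `N(S)` centralizing an involution of `S` centralizes `S`. -/
theorem odd_commute_mem (hW : oddCent S E ≠ ⊥) {g a : G} (hg : g ∈ SN S) (ho : Odd (orderOf g))
    (ha : a ∈ (S : Subgroup G)) (ha1 : a ≠ 1) (hc : Commute g a) : g ∈ oddCent S E := by
  haveI := Fact.mk b.cb.prime
  obtain ⟨E', c', hg'⟩ := c.exists_conj_mem b.cb.ne_two hg (b.pow_r_of_odd c hW hg ho)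
  have hW' : oddCent S E' ≠ ⊥ := fun e => hW (le_bot_iff.1 (e ▸ b.oddCent_le c c'))
  exact b.oddCent_le c' c ((b.comp_data c' hW').2 g hg' a ha ha1 hc)

/-- Two-point stabilisers meet `C(S)` trivially. -/
theorem two_inf_eq_one (hW : oddCent S E ≠ ⊥) {y : G ⧸ SN S} (hy : y ≠ base (SN S)) {w : G}
    (hw : w ∈ CfsgLib.BenderTrans.two G (base (SN S)) y)
    (hwC : w ∈ centralizer ((S : Subgroup G) : Set G)) : w = 1 := by
  haveI := Fact.mk b.cb.prime
  by_contra hw1
  have hone := b.oneFix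
  have hodd : ∀ v ∈ CfsgLib.BenderTrans.two G (base (SN S)) y, Odd (orderOf v) := fun v hv =>
    (hone.odd_two (Ne.symm hy)).of_dvd_nat (orderOf_dvd_natCard _ hv)
  have htN : ∀ v ∈ CfsgLib.BenderTrans.two G (base (SN S)) y, v ∈ SN S := fun v hv =>
    smul_base_eq_iff.1 (CfsgLib.BenderTrans.mem_two_iff.1 hv).1
  have hwW := b.mem_oddCent c hwC (hodd w hw)
  obtain ⟨t, ht⟩ := hone.exists_invAt (base (SN S))
  obtain ⟨u, hu⟩ : (CfsgLib.BenderTrans.swaps G (base (SN S)) y).Nonempty := by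
    rw [← Set.ncard_pos (Set.toFinite _), hone.ncard_swaps (Ne.symm hy)]
    exact (Set.ncard_pos (Set.toFinite _)).2 ⟨t, ht⟩
  have huN : u ∉ SN S := fun h1 => hy (hu.2.symm.trans (smul_base_eq_iff.2 h1))
  have hw' : u * w * u⁻¹ ∈ CfsgLib.BenderTrans.two G (base (SN S)) y :=
    (mem_normalizer_iff.1 (CfsgLib.BenderTrans.OneFix.swap_normalizes hu) w).1 hw
  obtain ⟨E', c', hwE⟩ := c.exists_conj_mem b.cb.ne_two (htN _ hw')
    (b.pow_r_of_odd c hW (htN _ hw') (hodd _ hw'))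
  have hW' : oddCent S E' ≠ ⊥ := fun e => hW (le_bot_iff.1 (e ▸ b.oddCent_le c c'))
  have hEr : IsPGroup r ↥E' := fun e =>
    ⟨1, Subtype.ext (by rw [SubgroupClass.coe_pow, pow_one]; exact b.exponent c' hW' e e.2)⟩
  haveI := hEr.isNilpotent
  haveI : ((oddCent S E').subgroupOf E').Normal :=
    (normal_subgroupOf_iff_le_normalizer inf_le_left).2 (b.le_normalizer_oddCent c')
  obtain ⟨z, hz, hzc, hz1⟩ := CfsgLib.Coprime39.exists_central_mem ((oddCent S E').subgroupOf E')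
    (by
      rw [Ne, subgroupOf_eq_bot]
      intro hd
      exact hW' (le_bot_iff.1 (le_trans (le_inf le_rfl inf_le_left) hd.le_bot)))
  have hzW : (z : G) ∈ oddCent S E' := hz
  have hzw : Commute (z : G) (u * w * u⁻¹) :=
    (congrArg Subtype.val (Subgroup.mem_center_iff.1 hzc ⟨_, hwE⟩)).symm
  have h1 : Commute (u⁻¹ * z * u) w := by
    show u⁻¹ * z * u * w = w * (u⁻¹ * z * u)
    calc u⁻¹ * z * u * w = u⁻¹ * ((z : G) * (u * w * u⁻¹)) * u := by group
      _ = u⁻¹ * ((u * w * u⁻¹) * z) * u := by rw [hzw.eq]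
      _ = _ := by group
  have hzy : (z : G) • y = y := by
    have h2 := smul_base_eq_iff.2 (b.centralizer_le_of_oddCent c hwW hw1 h1)
    rw [mul_smul, mul_smul, hu.2, inv_smul_eq_iff] at h2
    rw [h2]; exact hu.2
  refine hz1 (Subtype.ext (b.faithful _ fun x => ?_))
  by_cases hx : x = base (SN S)
  · rw [hx]; exact smul_base_eq_iff.2 (c'.le z.2)
  · obtain ⟨g, hg, hgy⟩ := b.concl.trans2 (base (SN S)) y x hy hx
    obtain ⟨s, hs, he⟩ := c'.cover g (smul_base_eq_iff.1 hg)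
    have hc1 : Commute (z : G) (s * (s⁻¹ * g)) :=
      (commute_of_mem_centralizer hzW.2 hs).mul_right
        (congrArg Subtype.val (Subgroup.mem_center_iff.1 hzc ⟨_, he⟩)).symm
    rw [mul_inv_cancel_left] at hc1
    rw [← hgy, smul_smul, hc1.eq, mul_smul, hzy]

/-- The odd part of `C(S)` is trivial. -/
theorem oddCent_eq_bot : oddCent S E = ⊥ := by
  by_contra hW
  haveI := Fact.mk b.cb.prime
  haveI := b.isMulCommutative
  have hone := b.oneFix
  obtain ⟨t, ht⟩ := hone.exists_invAt (base (SN S))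
  have htS : t ∈ (S : Subgroup G) := mem_sylow (smul_base_eq_iff.1 ht.2) ht.1
  obtain ⟨y, hy⟩ := hone.nontriv (base (SN S))
  obtain ⟨u, hu⟩ : (CfsgLib.BenderTrans.swaps G (base (SN S)) y).Nonempty := by
    rw [← Set.ncard_pos (Set.toFinite _), hone.ncard_swaps (Ne.symm hy)]
    exact (Set.ncard_pos (Set.toFinite _)).2 ⟨t, ht⟩
  set D := CfsgLib.BenderTrans.two G (base (SN S)) y with hD
  have hDN : ∀ v ∈ D, v ∈ SN S := fun v hv =>
    smul_base_eq_iff.1 (CfsgLib.BenderTrans.mem_two_iff.1 hv).1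
  have hDodd : ∀ v ∈ D, Odd (orderOf v) := fun v hv =>
    (hone.odd_two (Ne.symm hy)).of_dvd_nat (orderOf_dvd_natCard _ hv)
  have hinjD : ∀ v ∈ D, Commute v t → v = 1 := fun v hv hc =>
    b.two_inf_eq_one c hW hy hv
      (b.odd_commute_mem c hW (hDN v hv) (hDodd v hv) htS (ne_one_of_involution ht.1) hc).2
  have hinv : CfsgLib.BenderTrans.invAt G (base (SN S)) = ((S : Subgroup G) : Set G) \ {1} := by
    ext x
    constructor
    · exact fun hx => ⟨mem_sylow (smul_base_eq_iff.1 hx.2) hx.1, ne_one_of_involution hx.1⟩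
    · exact fun hx => b.mem_invAt hx.1 hx.2
  have hncard : (CfsgLib.BenderTrans.invAt G (base (SN S))).ncard = r := by
    rw [hinv, Set.ncard_sdiff_singleton_of_mem (one_mem (S : Subgroup G)), ← Nat.card_coe_set_eq]
    show Nat.card ↥(S : Subgroup G) - 1 = r
    rw [(b.comp_data c hW).1]
    omega
  have hcardD : Nat.card ↥D = r := by
    rw [← hncard, ← Nat.card_coe_set_eq]
    refine Nat.card_eq_of_bijective (fun d : ↥D => ⟨(d : G) * t * (d : G)⁻¹, ?_⟩) ⟨?_, ?_⟩
    · have h1 := CfsgLib.BenderTrans.conj_mem_invAt (g := (d : G)) ht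
      rwa [(CfsgLib.BenderTrans.mem_two_iff.1 d.2).1] at h1
    · intro d d' hdd
      have h1 : (d : G) * t * (d : G)⁻¹ = (d' : G) * t * (d' : G)⁻¹ := congrArg Subtype.val hdd
      refine Subtype.ext (inv_mul_eq_one.1 (hinjD _ (mul_mem (inv_mem d'.2) d.2) ?_)).symm
      show (d' : G)⁻¹ * d * t = t * ((d' : G)⁻¹ * d)
      calc (d' : G)⁻¹ * d * t = (d' : G)⁻¹ * (d * t * (d : G)⁻¹) * d := by group
        _ = _ := by rw [h1]; group
    · rintro ⟨s', hs'⟩
      obtain ⟨d, hd, hds⟩ := hone.exists_conj_invAt (Ne.symm hy) ht hs'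
      exact ⟨⟨d, hd⟩, Subtype.ext hds⟩
  obtain ⟨d, hd, hd1⟩ : ∃ d ∈ D, d ≠ 1 := by
    refine (bot_or_exists_ne_one D).resolve_left fun e => b.cb.prime.ne_one ?_
    rw [← hcardD, e, card_bot]
  have hgenD : ∀ v ∈ D, ∃ k : ℤ, v = d ^ k := fun v hv => by
    have := mem_zpowers_of_prime_card (g := (⟨d, hd⟩ : ↥D)) (g' := ⟨v, hv⟩) hcardD
      (fun e => hd1 (congrArg Subtype.val e))
    obtain ⟨k, hk⟩ := mem_zpowers_iff.1 this
    exact ⟨k, (congrArg Subtype.val hk).symm.trans (by simp)⟩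
  -- no involution centralizes `d`
  have hno : ∀ s : G, orderOf s = 2 → ¬ Commute s d := by
    intro s hs hsd
    obtain ⟨cc, hcc⟩ := hone.exists_fix s hs
    have hdc : d • cc = cc := hone.fix_of_commute ⟨hs, hcc⟩ hsd.symm
    obtain ⟨g, hg⟩ := hone.trans (base (SN S)) cc
    have hfix' : ∀ v : G, ∀ z : G ⧸ SN S, v • z = z → (g⁻¹ * v * g) • (g⁻¹ • z) = g⁻¹ • z := by
      intro v z hv
      rw [smul_smul, mul_inv_cancel_right, mul_smul, hv]
    have hbase : g⁻¹ • cc = base (SN S) := by rw [← hg, inv_smul_smul]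
    have hs' : g⁻¹ * s * g ∈ (S : Subgroup G) := by
      refine mem_sylow (smul_base_eq_iff.1 (hbase ▸ hfix' s cc hcc)) ?_
      have := orderOf_conj_eq g⁻¹ s
      rw [inv_inv] at this
      rw [this, hs]
    have hs'1 : g⁻¹ * s * g ≠ 1 := by
      intro e
      refine ne_one_of_involution hs ?_
      calc s = g * (g⁻¹ * s * g) * g⁻¹ := by group
        _ = 1 := by rw [e]; group
    have hd' : g⁻¹ * d * g ∈ SN S := smul_base_eq_iff.1 (hbase ▸ hfix' d cc hdc)
    have hod : Odd (orderOf (g⁻¹ * d * g)) := by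
      have := orderOf_conj_eq g⁻¹ d
      rw [inv_inv] at this
      rw [this]
      exact hDodd d hd
    have hcomm : Commute (g⁻¹ * d * g) (g⁻¹ * s * g) := by
      have := (hsd.symm.map (MulAut.conj g⁻¹).toMonoidHom)
      simpa [mul_assoc] using this
    have hW1 := b.odd_commute_mem c hW hd' hod hs' hs'1 hcomm
    have hpts : ∃ z : G ⧸ SN S, z ≠ cc ∧ d • z = z := by
      by_cases hb : base (SN S) = cc
      · exact ⟨y, hb ▸ hy, (CfsgLib.BenderTrans.mem_two_iff.1 hd).2⟩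
      · exact ⟨_, hb, (CfsgLib.BenderTrans.mem_two_iff.1 hd).1⟩
    obtain ⟨z, hz, hdz⟩ := hpts
    refine hd1 ?_
    have h1 := b.two_inf_eq_one c hW (y := g⁻¹ • z)
      (fun e => hz (smul_left_cancel g⁻¹ (e.trans hbase.symm)))
      (CfsgLib.BenderTrans.mem_two_iff.2 ⟨smul_base_eq_iff.2 hd', hfix' d z hdz⟩) hW1.2
    calc d = g * (g⁻¹ * d * g) * g⁻¹ := by group
      _ = 1 := by rw [h1]; group
  set F := {x : G ⧸ SN S | d • x = x} with hF
  set C := centralizer (D : Set G) with hC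
  have hCd : ∀ v : G, Commute v d → v ∈ C := fun v hv => by
    rw [hC, mem_centralizer_iff]
    intro x hx
    obtain ⟨k, rfl⟩ := hgenD x hx
    exact (hv.zpow_right k).eq.symm
  have hCF : ∀ v ∈ C, ∀ x ∈ F, v • x ∈ F := fun v hv x hx => by
    show d • v • x = v • x
    rw [smul_smul, mem_centralizer_iff.1 hv d hd, mul_smul, hx]
  -- the fixed points other than the base
  have hfixed : ∀ x ∈ F, x ≠ base (SN S) → ∃ h ∈ C, h • y = x := by
    intro x hx hxb
    obtain ⟨m, hm, hmy⟩ := b.concl.trans2 (base (SN S)) y x hy hxb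
    have hmN := smul_base_eq_iff.1 hm
    have h1 := CfsgLib.BenderTrans.conj_mem_invAt (g := m) ht
    rw [hm] at h1
    obtain ⟨e, he, het⟩ := hone.exists_conj_invAt (Ne.symm hy) h1 ht
    -- `e * m` centralizes `t`
    obtain ⟨e', he', het'⟩ : ∃ e' ∈ D, e' * t * e'⁻¹ = m * t * m⁻¹ :=
      ⟨e⁻¹, inv_mem he, by
        calc e⁻¹ * t * e⁻¹⁻¹ = e⁻¹ * (e * (m * t * m⁻¹) * e⁻¹) * e := by rw [het]; group
          _ = _ := by group⟩
    set h := m * e'⁻¹ with hh
    obtain ⟨f, hf, hfy⟩ : ∃ f ∈ D, f = m⁻¹ * d * m := by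
      refine ⟨_, CfsgLib.BenderTrans.mem_two_iff.2 ⟨smul_base_eq_iff.2
        (mul_mem (mul_mem (inv_mem hmN) (hDN d hd)) hmN), ?_⟩, rfl⟩
      rw [mul_smul, mul_smul, hmy, show d • x = x from hx, inv_smul_eq_iff, hmy]
    have hhN : h ∈ SN S := mul_mem hmN (inv_mem (hDN _ he'))
    have hey : e'⁻¹ • y = y := by
      rw [inv_smul_eq_iff, (CfsgLib.BenderTrans.mem_two_iff.1 he').2]
    refine ⟨h, hCd h ?_, by rw [hh, mul_smul, hey, hmy]⟩
    -- `h` centralizes `S`
    have hk : h⁻¹ * d * h * d⁻¹ ∈ D := by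
      refine mul_mem ?_ (inv_mem hd)
      have : h⁻¹ * d * h = e' * f * e'⁻¹ := by rw [hfy, hh]; group
      rw [this]
      exact mul_mem (mul_mem he' hf) (inv_mem he')
    suffices hh1 : h⁻¹ * d * h * d⁻¹ = 1 by
      show h * d = d * h
      calc h * d = h * (h⁻¹ * d * h * d⁻¹) * d := by rw [hh1]; group
        _ = d * h := by group
    refine hinjD _ hk ?_
    have hcentS : ∀ v ∈ SN S, ∀ a ∈ (S : Subgroup G), v * a * v⁻¹ ∈ (S : Subgroup G) :=
      fun v hv a ha => (mem_normalizer_iff.1 hv a).1 ha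
    have hmem : h ∈ centralizer ((S : Subgroup G) : Set G) := by
      have hcen : Commute (e'⁻¹ * m) t := by
        show e'⁻¹ * m * t = t * (e'⁻¹ * m)
        calc e'⁻¹ * m * t = e'⁻¹ * (m * t * m⁻¹) * m := by group
          _ = _ := by rw [← het']; group
      obtain ⟨s, hs, hse⟩ := c.cover _ (mul_mem (inv_mem (hDN _ he')) hmN)
      have h2 := (b.comp_data c hW).2 _ hse t htS (ne_one_of_involution ht.1)
        ((b.commute (inv_mem hs) htS).mul_left hcen)
      have h3 : e'⁻¹ * m ∈ centralizer ((S : Subgroup G) : Set G) := by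
        have := mul_mem (mem_centralizer_iff.2 fun v hv => (b.commute hv hs).eq :
          s ∈ centralizer ((S : Subgroup G) : Set G)) h2.2
        rwa [mul_inv_cancel_left] at this
      refine mem_centralizer_iff.2 fun a ha => ?_
      have h4 := (commute_of_mem_centralizer h3 (hcentS _ (inv_mem (hDN _ he')) a ha)).eq
      rw [hh]
      calc a * (m * e'⁻¹) = e' * ((e'⁻¹ * a * e'⁻¹⁻¹) * (e'⁻¹ * m)) * e'⁻¹ := by group
        _ = e' * (e'⁻¹ * m * (e'⁻¹ * a * e'⁻¹⁻¹)) * e'⁻¹ := by rw [h4]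
        _ = m * e'⁻¹ * a := by group
    have hct : ∀ a ∈ (S : Subgroup G), Commute h a := fun a ha => commute_of_mem_centralizer hmem ha
    show h⁻¹ * d * h * d⁻¹ * t = t * (h⁻¹ * d * h * d⁻¹)
    have e1 := (hct _ (hcentS _ (inv_mem (hDN d hd)) t htS)).eq
    have e2 := (hct t htS).inv_left.eq
    rw [inv_inv] at e1
    calc h⁻¹ * d * h * d⁻¹ * t = h⁻¹ * d * (h * (d⁻¹ * t * d)) * d⁻¹ := by group
      _ = h⁻¹ * d * ((d⁻¹ * t * d) * h) * d⁻¹ := by rw [e1]
      _ = h⁻¹ * t * (d * h * d⁻¹) := by group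
      _ = t * h⁻¹ * (d * h * d⁻¹) := by rw [e2]
      _ = _ := by group
  -- a second fixed point
  obtain ⟨E', c', hdE⟩ := c.exists_conj_mem b.cb.ne_two (hDN d hd)
    (b.pow_r_of_odd c hW (hDN d hd) (hDodd d hd))
  have hW' : oddCent S E' ≠ ⊥ := fun e => hW (le_bot_iff.1 (e ▸ b.oddCent_le c c'))
  have hEr : IsPGroup r ↥E' := fun e =>
    ⟨1, Subtype.ext (by rw [SubgroupClass.coe_pow, pow_one]; exact b.exponent c' hW' e e.2)⟩
  haveI := hEr.isNilpotent
  haveI : ((oddCent S E').subgroupOf E').Normal :=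
    (normal_subgroupOf_iff_le_normalizer inf_le_left).2 (b.le_normalizer_oddCent c')
  obtain ⟨z, hz, hzc, hz1⟩ := CfsgLib.Coprime39.exists_central_mem ((oddCent S E').subgroupOf E')
    (by
      rw [Ne, subgroupOf_eq_bot]
      intro hd'
      exact hW' (le_bot_iff.1 (le_trans (le_inf le_rfl inf_le_left) hd'.le_bot)))
  have hzd : Commute (z : G) d :=
    (congrArg Subtype.val (Subgroup.mem_center_iff.1 hzc ⟨d, hdE⟩)).symm
  have hzb : (z : G) • base (SN S) = base (SN S) := smul_base_eq_iff.2 (c'.le z.2)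
  have hyF : y ∈ F := (CfsgLib.BenderTrans.mem_two_iff.1 hd).2
  have hbF : base (SN S) ∈ F := (CfsgLib.BenderTrans.mem_two_iff.1 hd).1
  have hy'F : (z : G) • y ∈ F := hCF _ (hCd _ hzd) y hyF
  have hy'b : (z : G) • y ≠ base (SN S) := fun e => hy (smul_left_cancel (z : G) (e.trans hzb.symm))
  have hy'y : (z : G) • y ≠ y := fun e => hz1 (Subtype.ext
    (b.two_inf_eq_one c hW hy (CfsgLib.BenderTrans.mem_two_iff.2 ⟨hzb, e⟩) (hz : (z : G) ∈ oddCent S E').2))
  have huy : u • y = base (SN S) := CfsgLib.BenderTrans.swaps_symm hu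
  have huD : ∀ v ∈ D, u⁻¹ * v * u ∈ D := fun v hv => by
    have := (mem_normalizer_iff.1 (inv_mem (CfsgLib.BenderTrans.OneFix.swap_normalizes hu)) v).1 hv
    rwa [inv_inv] at this
  have huC : ∀ v ∈ C, u * v * u⁻¹ ∈ C := fun v hv => mem_centralizer_iff.2 fun x hx => by
    have h1 := mem_centralizer_iff.1 hv _ (huD x hx)
    calc x * (u * v * u⁻¹) = u * ((u⁻¹ * x * u) * v) * u⁻¹ := by group
      _ = u * (v * (u⁻¹ * x * u)) * u⁻¹ := by rw [h1]
      _ = u * v * u⁻¹ * x := by group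
  have huF : ∀ x ∈ F, u • x ∈ F := fun x hx => by
    obtain ⟨k, hk⟩ := hgenD _ (huD d hd)
    have hkx : (d ^ k) • x = x :=
      (zpow_mem (show d ∈ stabilizer G x from hx) k : d ^ k ∈ stabilizer G x)
    show d • u • x = u • x
    calc d • u • x = u • (u⁻¹ * d * u) • x := by rw [smul_smul, smul_smul]; group
      _ = u • x := by rw [hk, hkx]
  -- the centralizer is transitive on the fixed points
  have horbit : MulAction.orbit (↥C) y = F := by
    refine Set.Subset.antisymm ?_ fun x hx => ?_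
    · rintro _ ⟨v, rfl⟩
      exact hCF v v.2 y hyF
    · by_cases hxb : x = base (SN S)
      · obtain ⟨h, hh, hhy⟩ := hfixed _ (huF _ hy'F)
          (fun e => hy'y (smul_left_cancel u (e.trans huy.symm)))
        refine ⟨⟨(u * (z : G) * u⁻¹)⁻¹ * h, mul_mem (inv_mem (huC _ (hCd _ hzd))) hh⟩, ?_⟩
        show ((u * (z : G) * u⁻¹)⁻¹ * h) • y = x
        rw [mul_smul, hhy, hxb, ← huy, inv_smul_eq_iff, smul_smul, smul_smul,
          show u * (z : G) * u⁻¹ * u = u * z by group]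
      · obtain ⟨h, hh, hhy⟩ := hfixed x hx hxb
        exact ⟨⟨h, hh⟩, hhy⟩
  have hCodd : Odd (Nat.card ↥C) := by
    rw [← Nat.not_even_iff_odd, even_iff_two_dvd]
    intro h2
    obtain ⟨s, hs⟩ := exists_prime_orderOf_dvd_card' 2 h2
    exact hno s ((orderOf_coe s).trans hs) (mem_centralizer_iff.1 s.2 d hd).symm
  have hFodd : Odd F.ncard := by
    refine hCodd.of_dvd_nat ?_
    rw [← horbit, ← MulAction.index_stabilizer]
    exact index_dvd_card _
  -- but `u` has no centre among them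
  obtain ⟨cc, hcc⟩ := hone.exists_fix u hu.1
  have hFset : CfsgLib.BenderTrans.fixSet (G ⧸ SN S) D = F := by
    ext x
    refine ⟨fun hx => hx d hd, fun hx g hg => ?_⟩
    obtain ⟨k, rfl⟩ := hgenD g hg
    exact (zpow_mem (show d ∈ stabilizer G x from hx) k : d ^ k ∈ stabilizer G x)
  have hccF : cc ∈ F := hFset ▸ (hone.odd_fixSet_iff ⟨hu.1, hcc⟩
    (CfsgLib.BenderTrans.OneFix.swap_normalizes hu)).1 (hFset.symm ▸ hFodd)
  obtain ⟨g, hg⟩ := hone.trans (base (SN S)) cc
  have hfix' : ∀ v : G, v • cc = cc → g⁻¹ * v * g ∈ SN S := by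
    intro v hv
    refine smul_base_eq_iff.1 ?_
    rw [mul_smul, mul_smul, hg, hv, ← hg, inv_smul_smul]
  have hu' : g⁻¹ * u * g ∈ (S : Subgroup G) := by
    refine mem_sylow (hfix' u hcc) ?_
    have := orderOf_conj_eq g⁻¹ u
    rw [inv_inv] at this
    rw [this, hu.1]
  have hcomm : u * d * u⁻¹ * d⁻¹ ∈ D :=
    mul_mem ((mem_normalizer_iff.1 (CfsgLib.BenderTrans.OneFix.swap_normalizes hu) d).1 hd) (inv_mem hd)
  have hconjS : g⁻¹ * (u * d * u⁻¹ * d⁻¹) * g ∈ (S : Subgroup G) := by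
    rw [show g⁻¹ * (u * d * u⁻¹ * d⁻¹) * g =
      (g⁻¹ * u * g) * ((g⁻¹ * d * g) * (g⁻¹ * u * g)⁻¹ * (g⁻¹ * d * g)⁻¹) by group]
    exact mul_mem hu' ((mem_normalizer_iff.1 (hfix' d hccF) _).1 (inv_mem hu'))
  have hone' : g⁻¹ * (u * d * u⁻¹ * d⁻¹) * g = 1 := by
    refine eq_one_of_isTwo_of_odd (isTwo_of_mem S.isPGroup' hconjS) ?_
    have := orderOf_conj_eq g⁻¹ (u * d * u⁻¹ * d⁻¹)
    rw [inv_inv] at this
    rw [this]
    exact hDodd _ hcomm
  refine hno u hu.1 ?_
  have h2 : u * d * u⁻¹ * d⁻¹ = 1 := by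
    calc u * d * u⁻¹ * d⁻¹ = g * (g⁻¹ * (u * d * u⁻¹ * d⁻¹) * g) * g⁻¹ := by group
      _ = 1 := by rw [hone']; group
  show u * d = d * u
  calc u * d = (u * d * u⁻¹ * d⁻¹) * (d * u) := by group
    _ = d * u := by rw [h2, one_mul]

end Big

end CfsgLib.ThreeOrders
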