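import Mathlib
import Cfsg.Agent.Lib.ThreeOrders.BigW
import Cfsg.Agent.Lib.OddOrder41.FixedFormula

/-!
# Rank at least three with `C(S) = S`

Some two-point stabiliser contains an element of order `r` (transfer); this leads to `r = 3`,
`|S| = 8` and nine points.
-/

set_option autoImplicit false
set_option linter.style.haveILetI false

namespace CfsgLib.ThreeOrders

open Subgroup MulAction CfsgLib.CIT CfsgLib.Involutions

universe u

variable {G : Type u} [Group G] [Finite G] {r : ℕ} {S : Sylow 2 G} {E : Subgroup G}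

omit [Finite G] in
theorem orderOf_inv_conj (g x : G) : orderOf (g⁻¹ * x * g) = orderOf x := by
  have := orderOf_conj_eq g⁻¹ x
  rwa [inv_inv] at this

omit [Finite G] in
theorem orderOf_pos_prime_ne_one {x : G} {n : ℕ} (hn : 1 < n) (h : orderOf x = n) : x ≠ 1 :=
  fun e => by rw [e, orderOf_one] at h; omega

omit [Finite G] in
theorem Comp.eq_of_mem (c : Comp S E) {m s s' : G} (hs : s ∈ (S : Subgroup G))
    (hs' : s' ∈ (S : Subgroup G)) (he : s⁻¹ * m ∈ E) (he' : s'⁻¹ * m ∈ E) : s = s' := by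
  have h := c.eq_one_of_mem (e := s⁻¹ * s') ?_ (mul_mem (inv_mem hs) hs')
  · exact inv_mul_eq_one.1 h
  · have := mul_mem he (inv_mem he')
    rwa [show s⁻¹ * m * (s'⁻¹ * m)⁻¹ = s⁻¹ * s' by group] at this

omit [Finite G] in
/-- The projection onto the complement. -/
theorem Comp.exists_proj (c : Comp S E) :
    ∃ π : ↥(SN S) →* ↥E, (∀ m : ↥(SN S), (m : G) ∈ (S : Subgroup G) → π m = 1) ∧
      ∀ (m : ↥(SN S)) (he : (m : G) ∈ E), π m = ⟨m, he⟩ := by
  classical
  choose s hs hse using fun m : ↥(SN S) => c.cover m m.2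
  have hs1 : ∀ (m : ↥(SN S)) (s' : G), s' ∈ (S : Subgroup G) → s'⁻¹ * (m : G) ∈ E → s m = s' :=
    fun m s' h1 h2 => c.eq_of_mem (hs m) h1 (hse m) h2
  refine ⟨MonoidHom.mk' (fun m => ⟨(s m)⁻¹ * m, hse m⟩) fun a a' => Subtype.ext ?_, ?_, ?_⟩
  · have h2 : ((s a)⁻¹ * a : G) * s a' * ((s a)⁻¹ * a : G)⁻¹ ∈ (S : Subgroup G) :=
      (mem_normalizer_iff.1 (c.le (hse a)) _).1 (hs a')
    have h3 : s (a * a') = s a * (((s a)⁻¹ * a : G) * s a' * ((s a)⁻¹ * a : G)⁻¹) := by
      refine hs1 _ _ (mul_mem (hs a) h2) ?_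
      have := mul_mem (hse a) (hse a')
      rw [Subgroup.coe_mul]
      convert this using 1
      group
    show (s (a * a'))⁻¹ * ((a : G) * a') = (s a)⁻¹ * a * ((s a')⁻¹ * a')
    rw [h3]
    group
  · intro m hm
    refine Subtype.ext ?_
    show (s m)⁻¹ * (m : G) = 1
    rw [hs1 m m hm (by simp)]
    simp
  · intro m he
    refine Subtype.ext ?_
    show (s m)⁻¹ * (m : G) = m
    rw [hs1 m 1 (one_mem _) (by simpa using he)]
    simp

namespace Big

variable (b : Big G r S) (c : Comp S E)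
include b

/-- An involution of `S` commutes with an element of order `r` of `N(S)`. -/
theorem exists_commuting : ∃ a ∈ (S : Subgroup G), a ≠ 1 ∧
    ∃ g ∈ SN S, orderOf g = r ∧ Commute g a := by
  obtain ⟨x, hx⟩ := b.cb.witness
  have hr0 := b.cb.prime.pos
  have ht : orderOf (x ^ r) = 2 := by
    rw [orderOf_pow_of_dvd hr0.ne' (hx ▸ dvd_mul_left r 2), hx, Nat.mul_div_cancel _ hr0]
  have hg : orderOf (x ^ 2) = r := by
    rw [orderOf_pow_of_dvd two_ne_zero (hx ▸ dvd_mul_right 2 r), hx,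
      Nat.mul_div_cancel_left _ two_pos]
  obtain ⟨a, ha, ha1⟩ := b.exists_ne_one
  obtain ⟨g, hga⟩ := isConj_iff.1 (CfsgLib.StrongEmbedding.isConj_involutions b.se ht
    (b.orderOf_eq ha ha1))
  have hc : Commute (g * x ^ 2 * g⁻¹) a := by
    rw [← hga]
    exact ((Commute.refl x).pow_pow 2 r).map (MulAut.conj g).toMonoidHom
  exact ⟨a, ha, ha1, _, b.centralizer_le ha ha1 hc, (orderOf_conj_eq g _).trans hg, hc⟩

include c

/-- No element of odd order but the identity centralizes `S`. -/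
theorem eq_one_of_centralizes {g : G} (hg : g ∈ centralizer ((S : Subgroup G) : Set G))
    (ho : Odd (orderOf g)) : g = 1 := by
  have h := b.mem_oddCent c hg ho
  rw [b.oddCent_eq_bot c, mem_bot] at h
  exact h

/-- The complement does not have exponent `r`. -/
theorem not_exp : ¬ ∀ e ∈ E, e ^ r = 1 := by
  intro hexp
  haveI := b.isMulCommutative
  haveI := Fact.mk b.cb.prime
  obtain ⟨a, ha, ha1, g, hg, hgr, hga⟩ := b.exists_commuting
  obtain ⟨E', c', hg'⟩ := c.exists_conj_mem b.cb.ne_two hg (hgr ▸ pow_orderOf_eq_one g)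
  have hexp' : ∀ e ∈ E', e ^ r = 1 := by
    intro e he
    obtain ⟨s, hs, hse⟩ := c.cover e (c'.le he)
    have h1 := coe_prod_conj_pow (S : Subgroup G) (c.le hse) ⟨s, hs⟩ r
    rw [show ((⟨s, hs⟩ : ↥(S : Subgroup G)) : G) * (s⁻¹ * e) = e from mul_inv_cancel_left s e,
      hexp _ hse, mul_one] at h1
    exact c'.eq_one_of_mem (pow_mem he r) (h1 ▸ SetLike.coe_mem _)
  have h := (b.comp_data_of_exp c' hexp').2 g hg' a ha ha1 hga
  rw [b.oddCent_eq_bot c', mem_bot] at h
  exact orderOf_pos_prime_ne_one b.cb.prime.one_lt hgr h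

theorem eq_bot_of_prime {x : G} {s : ℕ} (hs : s.Prime) (hsr : s ≠ r) (hs2 : s ≠ 2)
    (hx : x ∈ SN S) (hxs : orderOf x = s) {Y : Subgroup G} (hY : Y ≤ SN S) (hYr : IsPGroup r ↥Y)
    (hxY : x ∈ normalizer (Y : Set G)) : Y = ⊥ := by
  rw [eq_bot_iff]
  intro y hy
  refine mem_bot.2 (b.eq_one_of_centralizes c (b.centralizes_of_prime hs hsr hs2 hx hxs hY hYr hxY hy)
    (Odd.of_dvd_nat (b.cb.prime.odd_of_ne_two b.cb.ne_two)
      (orderOf_dvd_of_pow_eq_one (b.cb.pow_r_eq_one_of_mem hYr hy))))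

theorem exists_prime_element : ∃ x ∈ E, ∃ s : ℕ, s.Prime ∧ s ≠ r ∧ s ≠ 2 ∧ orderOf x = s := by
  by_contra hcon
  push Not at hcon
  haveI := Fact.mk b.cb.prime
  refine b.not_exp c fun e he => ?_
  have hp : IsPGroup r ↥E := by
    refine IsPGroup.of_card (n := (Nat.card E).primeFactorsList.length)
      (Nat.eq_prime_pow_of_unique_prime_dvd Nat.card_pos.ne' fun {q} hq hd => ?_)
    haveI := Fact.mk hq
    obtain ⟨x, hx⟩ := exists_prime_orderOf_dvd_card' q hd
    by_contra hqr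
    refine hcon x x.2 q hq hqr ?_ ((orderOf_coe x).trans hx)
    rintro rfl
    exact (Nat.not_even_iff_odd.2 c.odd) (even_iff_two_dvd.2 hd)
  exact b.cb.pow_r_eq_one_of_mem hp he

theorem core_ne_bot : Cfsg.pPrimeCore r ↥E ≠ ⊥ := by
  intro h1
  haveI := Fact.mk b.cb.prime
  haveI : Group.IsSolvable ↥E := isSolvable_of_odd c.odd
  obtain ⟨x, hx, s, hs, hsr, hs2, hxs⟩ := b.exists_prime_element c
  have hR : (Cfsg.pCore r ↥E).map E.subtype = ⊥ := by
    haveI : (Cfsg.pCore r ↥E).Normal := Cfsg.pCore_normal _ _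
    refine b.eq_bot_of_prime c hs hsr hs2 (c.le hx) hxs ((map_subtype_le _).trans c.le)
      (CfsgLib.PCore.pCore_isPGroup.map _) (mem_normalizer_of_forall ?_)
    rintro _ ⟨y, hy, rfl⟩
    exact ⟨_, ‹(Cfsg.pCore r ↥E).Normal›.conj_mem y hy ⟨x, hx⟩, rfl⟩
  rw [map_eq_bot_iff_of_injective _ E.subtype_injective] at hR
  have := CfsgLib.InvChar.centralizer_pCore_le (G := ↥E) (p := r) h1
  rw [hR] at this
  have h2 : (⟨x, hx⟩ : ↥E) = 1 := mem_bot.1 (this (mem_centralizer_iff.2 fun z hz => by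
    rw [coe_bot, Set.mem_singleton_iff] at hz; simp [hz]))
  exact orderOf_pos_prime_ne_one hs.one_lt hxs (congrArg Subtype.val h2)

/-- The largest normal `r'`-subgroup, in `G`. -/
theorem core_facts : let K := (Cfsg.pPrimeCore r ↥E).map E.subtype
    K ≠ ⊥ ∧ K ≤ E ∧ (Nat.card ↥K).Coprime r ∧ E ≤ normalizer (K : Set G) ∧
      ∀ a ∈ (S : Subgroup G), (∀ k ∈ K, Commute k a) → a = 1 := by
  intro K
  haveI : (Cfsg.pPrimeCore r ↥E).Normal := Cfsg.pPrimeCore_normal _ _
  have hK1 : K ≠ ⊥ := by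
    rw [Ne, map_eq_bot_iff_of_injective _ E.subtype_injective]; exact b.core_ne_bot c
  have hKn : E ≤ normalizer (K : Set G) := fun e he => mem_normalizer_of_forall (by
    rintro _ ⟨y, hy, rfl⟩
    exact ⟨_, ‹(Cfsg.pPrimeCore r ↥E).Normal›.conj_mem y hy ⟨e, he⟩, rfl⟩)
  refine ⟨hK1, map_subtype_le _, ?_, hKn, fun a ha hc => ?_⟩
  · rw [card_map_of_injective E.subtype_injective]
    exact CfsgLib.PCore.pPrimeCore_coprime
  by_contra ha1
  refine hK1 ((eq_bot_iff).2 fun k hk => mem_bot.2 (b.eq_one_of_centralizes c ?_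
    (c.odd_orderOf (map_subtype_le _ hk))))
  refine mem_centralizer_iff.2 fun a' ha' => ?_
  by_cases ha1' : a' = 1
  · simp [ha1']
  obtain ⟨e, he, hea⟩ := b.transitive_comp c ha ha1 ha' ha1'
  have hk' : e⁻¹ * k * e ∈ K := by
    have := (mem_normalizer_iff.1 (inv_mem (hKn he)) k).1 hk
    rwa [inv_inv] at this
  rw [← hea]
  calc e * a * e⁻¹ * k = e * (a * (e⁻¹ * k * e)) * e⁻¹ := by group
    _ = e * (e⁻¹ * k * e * a) * e⁻¹ := by rw [(hc _ hk').eq]
    _ = k * (e * a * e⁻¹) := by group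

omit b in
theorem _root_.CfsgLib.ThreeOrders.Comp.order_cases {g : G} (he : g ∈ E) (b : Big G r S)
    (hd : r ∣ orderOf g) : orderOf g = r := by
  rcases b.cb.r_order hd with h | h
  · exact h
  · exfalso
    have := c.odd_orderOf he
    rw [h] at this
    exact (Nat.not_even_iff_odd.2 this) (even_two_mul r)

/-- An element of order `r` does not centralize a nontrivial element of order prime to `r`. -/
theorem fpf_core {g : G} (hgr : orderOf g = r) :
    ∀ k ∈ (Cfsg.pPrimeCore r ↥E).map E.subtype, Commute k g → k = 1 := by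
  intro k hk hc
  by_contra hk1
  obtain ⟨-, hKE, hKr, -, -⟩ := b.core_facts c
  obtain ⟨q, hq, hqd⟩ := Nat.exists_prime_and_dvd (mt orderOf_eq_one_iff.1 hk1)
  obtain ⟨v, hv, hvo⟩ := exists_orderOf_eq hqd
  obtain ⟨i, rfl⟩ := mem_zpowers_iff.1 hv
  have hqr : q ≠ r := fun e => b.cb.prime.ne_one (Nat.eq_one_of_dvd_coprimes hKr
    (e.symm.dvd.trans (hqd.trans (orderOf_dvd_natCard _ hk))) dvd_rfl)
  have hq2 : q ≠ 2 := fun e => (Nat.not_even_iff_odd.2 (c.odd_orderOf (hKE hk)))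
    (even_iff_two_dvd.2 (e ▸ hqd))
  exact hq2 (b.cb.eq_of_commute_r hgr (hc.symm.zpow_right i) hq hvo hqr)

/-- An element of order `r` fixes an involution of `S`. -/
theorem exists_fixed {g : G} (hg : g ∈ SN S) (hgr : orderOf g = r) :
    ∃ a ∈ (S : Subgroup G), a ≠ 1 ∧ Commute g a := by
  haveI := b.isMulCommutative
  haveI := Fact.mk b.cb.prime
  by_contra hno
  push Not at hno
  have hxp : g ^ r = 1 := hgr ▸ pow_orderOf_eq_one g
  obtain ⟨E', c', hg'⟩ := c.exists_conj_mem b.cb.ne_two hg hxp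
  obtain ⟨hK1, hKE, hKr, hKn, hKfix⟩ := b.core_facts c'
  obtain ⟨a, ha, ha1⟩ := b.exists_ne_one
  have hcop : Nat.Coprime (Nat.card ↥(S : Subgroup G))
      (Nat.card ↥((Cfsg.pPrimeCore r ↥E').map E'.subtype)) := by
    obtain ⟨i, hi⟩ := S.isPGroup'.exists_card_eq
    rw [hi]
    refine Nat.Coprime.pow_left i (Nat.coprime_two_left.2 ?_)
    exact c'.odd.of_dvd_nat (card_dvd_of_le hKE)
  have hfpf : ∀ x ∈ (S : Subgroup G), Commute g x → x = 1 := fun x hx hc => by
    by_contra hx1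
    exact hno x hx hx1 hc
  have h1 := centralizes_of_norm b.cb.prime hxp (hKE.trans c'.le) hg (hKn hg')
    (b.fpf_core c' hgr) hcop fun x hx => pow_eq_one_of_fpf hxp hg hfpf hx
  exact ha1 (hKfix a ha fun k hk => h1 a ha k hk)

theorem isPGroup_quotient : IsPGroup r (↥E ⧸ Cfsg.pPrimeCore r ↥E) := by
  classical
  haveI := Fact.mk b.cb.prime
  haveI : Group.IsSolvable ↥E := isSolvable_of_odd c.odd
  set K := Cfsg.pPrimeCore r ↥E with hK
  haveI : K.Normal := Cfsg.pPrimeCore_normal _ _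
  set π := QuotientGroup.mk' K
  set P := Cfsg.pCore r (↥E ⧸ K) with hP
  haveI : P.Normal := Cfsg.pCore_normal _ _
  set L := P.comap π with hL
  obtain ⟨R⟩ := (inferInstance : Nonempty (Sylow r ↥L))
  by_cases hRb : (R : Subgroup ↥L) = ⊥
  · -- then the core quotient is trivial
    have hLr : ¬ r ∣ Nat.card ↥L := fun hd => by
      have := R.dvd_card_of_dvd_card hd
      rw [hRb, card_bot] at this
      exact b.cb.prime.ne_one (Nat.dvd_one.1 this)
    have hLK : L ≤ K := CfsgLib.PCore.le_pPrimeCore_of_not_dvd inferInstance hLr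
    have hPb : P = ⊥ := by
      rw [eq_bot_iff]
      intro z hz
      obtain ⟨z, rfl⟩ := QuotientGroup.mk'_surjective K z
      exact mem_bot.2 ((QuotientGroup.eq_one_iff z).2 (hLK hz))
    have h0 := CfsgLib.InvChar.centralizer_pCore_le (G := ↥E ⧸ K) (p := r)
      CfsgLib.PCore.pPrimeCore_quotient_pPrimeCore
    rw [← hP, hPb] at h0
    intro z
    refine ⟨0, ?_⟩
    rw [pow_zero, pow_one]
    exact mem_bot.1 (h0 (mem_centralizer_iff.2 fun v hv => by
      rw [coe_bot, Set.mem_singleton_iff] at hv; simp [hv]))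
  set R' := (R : Subgroup ↥L).map L.subtype with hR'
  have hN : IsPGroup r ↥(normalizer (R' : Set ↥E)) := by
    refine IsPGroup.of_card (n := (Nat.card (normalizer (R' : Set ↥E))).primeFactorsList.length)
      (Nat.eq_prime_pow_of_unique_prime_dvd Nat.card_pos.ne' fun {q} hq hd => ?_)
    by_contra hqr
    haveI := Fact.mk hq
    obtain ⟨x, hx⟩ := exists_prime_orderOf_dvd_card' q hd
    have hq2 : q ≠ 2 := by
      rintro rfl
      exact (Nat.not_even_iff_odd.2 c.odd) (even_iff_two_dvd.2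
        (hd.trans (card_subgroup_dvd_card _)))
    have h1 := b.eq_bot_of_prime c hq hqr hq2 (c.le (x : ↥E).2)
      ((orderOf_coe _).trans ((orderOf_coe x).trans hx)) (Y := R'.map E.subtype)
      ((map_subtype_le _).trans c.le) ((R.isPGroup'.map _).map _) (mem_normalizer_of_forall (by
        rintro _ ⟨z, hz, rfl⟩
        exact ⟨_, (mem_normalizer_iff.1 x.2 z).1 hz, rfl⟩))
    rw [map_eq_bot_iff_of_injective _ E.subtype_injective,
      map_eq_bot_iff_of_injective _ L.subtype_injective] at h1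
    exact hRb h1
  intro z
  obtain ⟨z, rfl⟩ := QuotientGroup.mk'_surjective K z
  have hz : z ∈ normalizer (R' : Set ↥E) ⊔ L := by
    rw [Sylow.normalizer_sup_eq_top R]; exact mem_top z
  rw [← SetLike.mem_coe, mul_normal, Set.mem_mul] at hz
  obtain ⟨m, hm, l, hl, rfl⟩ := hz
  obtain ⟨i, hi⟩ := hN ⟨m, hm⟩
  have hmem : π (m * l) ^ r ^ i ∈ P := by
    have h1 : (QuotientGroup.mk' P (π (m * l))) ^ r ^ i = 1 := by
      have h2 : QuotientGroup.mk' P (π (m * l)) = QuotientGroup.mk' P (π m) := by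
        refine QuotientGroup.eq.2 ?_
        rw [map_mul, mul_inv_rev, mul_assoc, inv_mul_cancel, mul_one]
        exact inv_mem hl
      rw [h2, ← map_pow, ← map_pow, show m ^ r ^ i = 1 from congrArg Subtype.val hi, map_one,
        map_one]
    rw [← map_pow] at h1
    exact (QuotientGroup.eq_one_iff _).1 h1
  obtain ⟨j, hj⟩ := (CfsgLib.PCore.pCore_isPGroup (p := r) (G := ↥E ⧸ K)) ⟨_, hmem⟩
  refine ⟨i + j, ?_⟩
  rw [pow_add, pow_mul]
  exact congrArg Subtype.val hj

/-- A two-point stabiliser of the base contains an element of order `r`. -/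
theorem exists_in_two : ∃ y : G ⧸ SN S, y ≠ base (SN S) ∧
    ∃ d ∈ CfsgLib.BenderTrans.two G (base (SN S)) y, orderOf d = r := by
  classical
  by_contra hno
  push Not at hno
  haveI := Fact.mk b.cb.prime
  haveI : (Cfsg.pPrimeCore r ↥E).Normal := Cfsg.pPrimeCore_normal _ _
  obtain ⟨π, hπS, hπE⟩ := c.exists_proj
  set Q := ↥E ⧸ Cfsg.pPrimeCore r ↥E with hQ
  have hQr := b.isPGroup_quotient c
  haveI : Group.IsNilpotent Q := hQr.isNilpotent
  haveI : Nontrivial Q := by
    obtain ⟨a, ha, ha1, g, hg, hgr, hga⟩ := b.exists_commuting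
    obtain ⟨E', c', hg'⟩ := c.exists_conj_mem b.cb.ne_two hg (hgr ▸ pow_orderOf_eq_one g)
    by_contra h1
    rw [not_nontrivial_iff_subsingleton] at h1
    have htop : Cfsg.pPrimeCore r ↥E = ⊤ := QuotientGroup.subsingleton_iff.1 h1
    have h2 := CfsgLib.PCore.not_dvd_card_pPrimeCore (p := r) (G := ↥E)
    rw [htop, card_top] at h2
    -- `g` maps to an element of order `r` of `E`
    have h3 : orderOf (π ⟨g, hg⟩) = r := by
      refine orderOf_eq_prime (by
        rw [← map_pow, show (⟨g, hg⟩ : ↥(SN S)) ^ r = 1 from Subtype.ext (hgr ▸ pow_orderOf_eq_one g),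
          map_one]) fun e => ?_
      obtain ⟨s, hs, hse⟩ := c.cover g hg
      have e2 : π (⟨s, sylow_le_SN S hs⟩ * ⟨s⁻¹ * g, c.le hse⟩) = ⟨s⁻¹ * g, hse⟩ := by
        rw [map_mul, hπS _ hs, hπE _ hse, one_mul]
      have hprod : (⟨s, sylow_le_SN S hs⟩ * ⟨s⁻¹ * g, c.le hse⟩ : ↥(SN S)) = ⟨g, hg⟩ :=
        Subtype.ext (mul_inv_cancel_left s g)
      rw [hprod, e] at e2
      have hgs : s⁻¹ * g = 1 := congrArg Subtype.val e2.symm
      have hgS : g ∈ (S : Subgroup G) := (inv_mul_eq_one.1 hgs) ▸ hs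
      exact orderOf_pos_prime_ne_one b.cb.prime.one_lt hgr (c'.eq_one_of_mem hg' hgS)
    exact h2 (h3 ▸ orderOf_dvd_natCard _)
  have hab : (commutator Q) ≠ ⊤ := by
    intro e
    exact Group.IsSolvable.commutator_lt_top_of_nontrivial Q |>.ne e
  set ψ : ↥(SN S) →* Abelianization Q :=
    Abelianization.of.comp ((QuotientGroup.mk' (Cfsg.pPrimeCore r ↥E)).comp π)
  -- `ψ` kills the elements of order prime to `r`
  have hAr : ∀ z : Abelianization Q, ∃ i : ℕ, z ^ r ^ i = 1 := fun z =>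
    (hQr.of_surjective Abelianization.of QuotientGroup.mk_surjective) z
  have hψ1 : ∀ m : ↥(SN S), ¬ r ∣ orderOf (m : G) → ψ m = 1 := by
    intro m hm
    obtain ⟨i, hi⟩ := hAr (ψ m)
    refine orderOf_eq_one_iff.1 (Nat.eq_one_of_dvd_coprimes ?_
      (orderOf_dvd_of_pow_eq_one hi) ((orderOf_map_dvd ψ m).trans (orderOf_coe m).symm.dvd))
    exact ((b.cb.prime.coprime_iff_not_dvd).2 hm).pow_left i
  obtain ⟨e0, he0, hψe⟩ : ∃ e0 : ↥(SN S), (e0 : G) ∈ E ∧ ψ e0 ≠ 1 := by
    obtain ⟨q, hq⟩ : ∃ q : Q, Abelianization.of q ≠ 1 := by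
      by_contra hall
      push Not at hall
      exact hab (eq_top_iff.2 fun q _ => (QuotientGroup.eq_one_iff q).1 (hall q))
    obtain ⟨e, rfl⟩ := QuotientGroup.mk'_surjective _ q
    refine ⟨⟨e, c.le e.2⟩, e.2, ?_⟩
    show Abelianization.of (QuotientGroup.mk' (Cfsg.pPrimeCore r ↥E) (π _)) ≠ 1
    rw [hπE _ e.2]
    exact hq
  have he0r : orderOf (e0 : G) = r := c.order_cases he0 b (by
    by_contra hd
    exact hψe (hψ1 e0 hd))
  haveI : (SN S).FiniteIndex := inferInstance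
  set V := MonoidHom.transfer ψ
  have he0fix : ∀ x : G ⧸ SN S, (e0 : G) • x = x → x = base (SN S) := by
    intro x hx
    by_contra hxb
    exact hno x hxb _ (CfsgLib.BenderTrans.mem_two_iff.2 ⟨smul_base_eq_iff.2 e0.2, hx⟩) he0r
  have hVe : V e0 = ψ e0 := by
    let _ : Fintype (Quotient (MulAction.orbitRel (zpowers (e0 : G)) (G ⧸ SN S))) := Fintype.ofFinite _
    rw [show V e0 = _ from MonoidHom.transfer_eq_prod_quotient_orbitRel_zpowers_quot ψ (e0 : G)]
    rw [Finset.prod_eq_single (Quotient.mk'' (base (SN S)))]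
    · set q : Quotient (MulAction.orbitRel (zpowers (e0 : G)) (G ⧸ SN S)) :=
        Quotient.mk'' (base (SN S))
      have hqo : q.out = base (SN S) := by
        have h1 : MulAction.orbitRel (zpowers (e0 : G)) (G ⧸ SN S) q.out (base (SN S)) :=
          Quotient.mk_out (base (SN S))
        rw [MulAction.orbitRel_apply, MulAction.mem_orbit_iff] at h1
        obtain ⟨⟨v, hv⟩, hv'⟩ := h1
        rw [← hv']
        exact smul_base_eq_iff.2 (zpowers_le.2 e0.2 hv)
      have hfix0 : (e0 : G) • base (SN S) = base (SN S) := smul_base_eq_iff.2 e0.2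
      have hper : Function.minimalPeriod ((e0 : G) • ·) q.out = 1 := by
        rw [Function.minimalPeriod_eq_one_iff_isFixedPt, hqo]
        exact hfix0
      have hmem : q.out.out ∈ SN S := by
        rw [← smul_base_eq_iff, MulAction.Quotient.smul_coe, smul_eq_mul, mul_one,
          QuotientGroup.out_eq' q.out, hqo]
      have hconj : ψ ⟨q.out.out⁻¹ * (e0 : G) * q.out.out, mul_mem (mul_mem (inv_mem hmem) e0.2) hmem⟩
          = ψ e0 := by
        have h1 : (⟨q.out.out⁻¹ * (e0 : G) * q.out.out,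
            mul_mem (mul_mem (inv_mem hmem) e0.2) hmem⟩ : ↥(SN S)) =
            ⟨_, hmem⟩⁻¹ * e0 * ⟨_, hmem⟩ := Subtype.ext rfl
        rw [h1, map_mul, map_mul, map_inv, mul_comm _ (ψ e0), mul_assoc, inv_mul_cancel, mul_one]
      rw [← hconj]
      exact congrArg ψ (Subtype.ext (by simp only [hper, pow_one]))
    · intro q _ hq
      have hmove : (e0 : G) • q.out ≠ q.out := fun h1 => hq (by
        rw [← he0fix _ h1, Quotient.out_eq'])
      have hper : Function.minimalPeriod ((e0 : G) • ·) q.out = r := by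
        have hd : Function.minimalPeriod ((e0 : G) • ·) q.out ∣ r := by
          refine Function.IsPeriodicPt.minimalPeriod_dvd ?_
          show ((e0 : G) • ·)^[r] q.out = q.out
          rw [smul_iterate, ← he0r, pow_orderOf_eq_one]
          exact one_smul G _
        rcases (Nat.dvd_prime b.cb.prime).1 hd with h1 | h1
        · exact absurd (Function.minimalPeriod_eq_one_iff_isFixedPt.1 h1) hmove
        · exact h1
      rw [← map_one ψ]
      refine congrArg ψ (Subtype.ext ?_)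
      simp only [hper, OneMemClass.coe_one]
      rw [← he0r, pow_orderOf_eq_one, mul_one, inv_mul_cancel]
    · intro h1
      exact absurd (Finset.mem_univ _) h1
  have hVker : ∀ g : G, ¬ r ∣ orderOf g → g ∈ V.ker := by
    intro g hg
    obtain ⟨i, hi⟩ := hAr (V g)
    exact orderOf_eq_one_iff.1 (Nat.eq_one_of_dvd_coprimes
      (((b.cb.prime.coprime_iff_not_dvd).2 hg).pow_left i)
      (orderOf_dvd_of_pow_eq_one hi) (orderOf_map_dvd V g))
  have hinvK : ∀ t : G, orderOf t = 2 → t ∈ V.ker := fun t ht => hVker t (by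
    rw [ht, Nat.prime_dvd_prime_iff_eq b.cb.prime Nat.prime_two]
    exact b.cb.ne_two)
  have hone := b.oneFix
  have hswap : ∀ x y : G ⧸ SN S, x ≠ y → ∃ u : G, orderOf u = 2 ∧ u • x = y := by
    intro x y hxy
    obtain ⟨t, ht⟩ := hone.exists_invAt x
    obtain ⟨u, hu⟩ : (CfsgLib.BenderTrans.swaps G x y).Nonempty := by
      rw [← Set.ncard_pos (Set.toFinite _), hone.ncard_swaps hxy]
      exact (Set.ncard_pos (Set.toFinite _)).2 ⟨t, ht⟩
    exact ⟨u, hu.1, hu.2⟩
  have hK1 : CfsgLib.BenderTrans.OneFix ↥V.ker (G ⧸ SN S) :=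
    { trans := fun x y => by
        by_cases hxy : x = y
        · exact ⟨1, hxy ▸ one_smul _ x⟩
        · obtain ⟨u, hu, hux⟩ := hswap x y hxy
          exact ⟨⟨u, hinvK u hu⟩, hux⟩
      nontriv := hone.nontriv
      exists_inv := by
        obtain ⟨t, ht⟩ := hone.exists_inv
        exact ⟨⟨t, hinvK t ht⟩, by rw [← orderOf_coe]; exact ht⟩
      exists_fix := fun t ht => hone.exists_fix (t : G) ((orderOf_coe t).trans ht)
      unique := fun t ht => hone.unique (t : G) ((orderOf_coe t).trans ht) }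
  obtain ⟨x, hx, z, hz, hx1, hz1, hxz⟩ := b.exists_pair
  have hfour : CfsgLib.BenderTrans.HasFour ↥V.ker :=
    ⟨⟨x, hinvK x (b.orderOf_eq hx hx1)⟩, ⟨z, hinvK z (b.orderOf_eq hz hz1)⟩,
      by rw [← orderOf_coe]; exact b.orderOf_eq hx hx1,
      by rw [← orderOf_coe]; exact b.orderOf_eq hz hz1,
      fun e => hxz (congrArg Subtype.val e), Subtype.ext (b.commute hx hz).eq⟩
  have hconcl := CfsgLib.BenderTrans.concl_of_card_le (Nat.card ↥V.ker) ↥V.ker (G ⧸ SN S) le_rfl
    odd_solvable_all hK1 (fun k hk => Subtype.ext (b.faithful (k : G) hk)) hfour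
  obtain ⟨y, hy⟩ := hone.nontriv (base (SN S))
  obtain ⟨k, hk, hky⟩ := hconcl.trans2 (base (SN S)) y ((e0 : G) • y) hy (fun e => hy
    (smul_left_cancel (e0 : G) (e.trans (smul_base_eq_iff.2 e0.2).symm)))
  have hmem : (k : G)⁻¹ * (e0 : G) ∈ CfsgLib.BenderTrans.two G (base (SN S)) y := by
    refine CfsgLib.BenderTrans.mem_two_iff.2 ⟨?_, ?_⟩
    · rw [mul_smul, smul_base_eq_iff.2 e0.2, inv_smul_eq_iff]; exact hk.symm
    · rw [mul_smul, inv_smul_eq_iff]; exact hky.symm
  have hnd : ¬ r ∣ orderOf ((k : G)⁻¹ * (e0 : G)) := fun hd => by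
    obtain ⟨v, hv, hvo⟩ := exists_orderOf_eq hd
    exact hno y hy v (zpowers_le.2 hmem hv) hvo
  have := mul_mem k.2 (hVker _ hnd)
  rw [mul_inv_cancel_left, MonoidHom.mem_ker, hVe] at this
  exact hψe this

/-- Every element of order `r` of `N(S)` satisfies Wielandt's formula on `S`. -/
theorem card_fixed {g : G} (hg : g ∈ SN S) (hgr : orderOf g = r) :
    Nat.card ↥(S : Subgroup G) =
      Nat.card ↥((S : Subgroup G) ⊓ centralizer ((zpowers g : Subgroup G) : Set G)) ^ r := by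
  haveI := Fact.mk b.cb.prime
  obtain ⟨E', c', hg'⟩ := c.exists_conj_mem b.cb.ne_two hg (hgr ▸ pow_orderOf_eq_one g)
  obtain ⟨hK1, hKE, hKr, hKn, hKfix⟩ := b.core_facts c'
  set K := (Cfsg.pPrimeCore r ↥E').map E'.subtype
  have hcardE : Nat.card ↥(zpowers g) = r := by rw [Nat.card_zpowers, hgr]
  have hne : zpowers g ≠ ⊥ := by
    intro e
    rw [e, card_bot] at hcardE
    exact b.cb.prime.one_lt.ne hcardE
  have hfpf : ∀ e ∈ zpowers g, e ≠ 1 → ∀ k ∈ K, e * k = k * e → k = 1 := by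
    intro e he he1 k hk hc
    refine b.fpf_core c' (g := e) ?_ k hk (show Commute k e from hc.symm)
    obtain ⟨i, rfl⟩ := mem_zpowers_iff.1 he
    exact orderOf_eq_prime (by
      rw [← zpow_natCast, ← zpow_mul, mul_comm, zpow_mul, zpow_natCast, ← hgr, pow_orderOf_eq_one,
        one_zpow]) he1
  have hUE : K ⊔ zpowers g ≤ E' := sup_le hKE (zpowers_le.2 hg')
  have hsolv : Group.IsSolvable ↥(S : Subgroup G) := by
    haveI := b.isMulCommutative
    exact Group.isSolvable_of_comm fun a a' => mul_comm' a a'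
  have hcop : (Nat.card ↥(S : Subgroup G)).Coprime (Nat.card ↥(K ⊔ zpowers g)) := by
    obtain ⟨i, hi⟩ := S.isPGroup'.exists_card_eq
    rw [hi]
    exact Nat.Coprime.pow_left i (Nat.coprime_two_left.2 (c'.odd.of_dvd_nat (card_dvd_of_le hUE)))
  have h := CfsgLib.OddOrder41.FixedFormula.fixed_formula K (zpowers g) hne
    (zpowers_le.2 (hKn hg')) (by rw [hcardE]; exact hKr) hfpf (S : Subgroup G)
    (hUE.trans c'.le) hsolv hcop
  have h1 : (S : Subgroup G) ⊓ centralizer (K : Set G) = ⊥ :=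
    eq_bot_iff.2 fun x hx => mem_bot.2 (hKfix x hx.1 fun k hk => mem_centralizer_iff.1 hx.2 k hk)
  have h2 : (S : Subgroup G) ⊓ centralizer ((K ⊔ zpowers g : Subgroup G) : Set G) = ⊥ :=
    le_bot_iff.1 (h1 ▸ inf_le_inf_left _ (Subgroup.centralizer_le (fun v hv =>
      (le_sup_left : K ≤ K ⊔ zpowers g) hv)))
  rw [h1, h2, card_bot, one_pow, one_mul, mul_one, hcardE] at h
  exact h

end Big

end CfsgLib.ThreeOrders
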