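import Mathlib
import Cfsg.Agent.Lib.ThreeOrders.BigOne

/-!
# Rank at least three is impossible

Two-point stabilisers are complements of `S` in `N(S)`; the fixed points of an element of order `r`
force `r = 3`, and then a group of order `1512` on nine points contains an element of order `4`.
-/

set_option autoImplicit false
set_option linter.style.haveILetI false

namespace CfsgLib.ThreeOrders

open Subgroup MulAction CfsgLib.CIT CfsgLib.Involutions CfsgLib.BenderTrans

universe u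

variable {G : Type u} [Group G] [Finite G] {r : ℕ} {S : Sylow 2 G} {E : Subgroup G}

omit [Finite G] in
theorem fix_conj {Ω : Type*} [MulAction G Ω] {v g : G} {z : Ω} (h : v • z = z) :
    (g * v * g⁻¹) • (g • z) = g • z :=
  conj_smul_fixed h

omit [Finite G] in
theorem fix_conj' {Ω : Type*} [MulAction G Ω] {v g : G} {z : Ω} (h : v • (g • z) = g • z) :
    (g⁻¹ * v * g) • z = z := by
  rw [mul_smul, mul_smul, h, inv_smul_smul]

namespace Big

variable (b : Big G r S)
include b

/-- An element of order `r` fixing two points commutes with an involution fixing the second. -/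
theorem exists_involution_at {y : G ⧸ SN S} {d : G} (hd : d • y = y) (hdr : orderOf d = r) :
    ∃ t : G, orderOf t = 2 ∧ t • y = y ∧ Commute t d := by
  obtain ⟨E, c⟩ := b.exists_comp
  obtain ⟨g, hg⟩ := b.oneFix.trans (base (SN S)) y
  have hd' : g⁻¹ * d * g ∈ SN S := smul_base_eq_iff.1 (fix_conj' (by rw [hg]; exact hd))
  obtain ⟨a, ha, ha1, hc⟩ := b.exists_fixed c hd' ((orderOf_inv_conj g d).trans hdr)
  refine ⟨g * a * g⁻¹, (orderOf_conj_eq g a).trans (b.orderOf_eq ha ha1), ?_, ?_⟩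
  · rw [← hg]; exact fix_conj (b.mem_invAt ha ha1).2
  · show g * a * g⁻¹ * d = d * (g * a * g⁻¹)
    calc g * a * g⁻¹ * d = g * (a * (g⁻¹ * d * g)) * g⁻¹ := by group
      _ = g * ((g⁻¹ * d * g) * a) * g⁻¹ := by rw [hc.eq]
      _ = _ := by group

/-- An element of order `r` of a two-point stabiliser centralizes at most one involution of `S`. -/
theorem two_unique {y : G ⧸ SN S} (hy : y ≠ base (SN S)) {d : G}
    (hd : d ∈ two G (base (SN S)) y) (hdr : orderOf d = r) {a a' : G} (ha : a ∈ (S : Subgroup G))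
    (ha' : a' ∈ (S : Subgroup G)) (ha1 : a ≠ 1) (ha1' : a' ≠ 1) (hc : Commute d a)
    (hc' : Commute d a') : a = a' := by
  by_contra hne
  have hle : centralizer ({d} : Set G) ≤ SN S :=
    b.solvable_le (b.cb.isSolvable_centralizer_r hdr) ha ha' ha1 ha1' hne
      (mem_centralizer_singleton_iff.2 hc.symm.eq) (mem_centralizer_singleton_iff.2 hc'.symm.eq)
  obtain ⟨t, ht, hty, htd⟩ := b.exists_involution_at (mem_two_iff.1 hd).2 hdr
  exact hy (b.oneFix.unique t ht _ _ hty
    (smul_base_eq_iff.2 (hle (mem_centralizer_singleton_iff.2 htd.eq))))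

theorem inf_centralizer_zpowers {g x : G} :
    x ∈ (S : Subgroup G) ⊓ centralizer ((zpowers g : Subgroup G) : Set G) ↔
      x ∈ (S : Subgroup G) ∧ Commute g x := by
  refine ⟨fun h => ⟨h.1, (mem_centralizer_iff.1 h.2 g (mem_zpowers g))⟩, fun h => ⟨h.1, ?_⟩⟩
  refine mem_centralizer_iff.2 fun v hv => ?_
  obtain ⟨i, rfl⟩ := mem_zpowers_iff.1 hv
  exact (h.2.zpow_left i).eq

theorem card_sylow : Nat.card ↥(S : Subgroup G) = 2 ^ r := by
  obtain ⟨E, c⟩ := b.exists_comp
  obtain ⟨y, hy, d, hd, hdr⟩ := b.exists_in_two c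
  have hdN : d ∈ SN S := smul_base_eq_iff.1 (mem_two_iff.1 hd).1
  obtain ⟨a, ha, ha1, hc⟩ := b.exists_fixed c hdN hdr
  have hset : (((S : Subgroup G) ⊓ centralizer ((zpowers d : Subgroup G) : Set G) : Subgroup G) :
      Set G) = {1, a} := by
    ext x
    rw [SetLike.mem_coe, b.inf_centralizer_zpowers]
    constructor
    · rintro ⟨hx, hcx⟩
      by_cases hx1 : x = 1
      · exact Or.inl hx1
      · exact Or.inr (b.two_unique hy hd hdr hx ha hx1 ha1 hcx hc)
    · rintro (rfl | rfl)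
      · exact ⟨one_mem _, Commute.one_right _⟩
      · exact ⟨ha, hc⟩
  have h2 : Nat.card ↥((S : Subgroup G) ⊓ centralizer ((zpowers d : Subgroup G) : Set G)) = 2 := by
    refine (Nat.card_coe_set_eq _).trans ?_
    rw [hset, Set.ncard_pair (Ne.symm ha1)]
  rw [b.card_fixed c hdN hdr, h2]

/-- An element of order `r` of `N(S)` centralizes exactly one involution of `S`. -/
theorem fixed_unique {g : G} (hg : g ∈ SN S) (hgr : orderOf g = r) {a a' : G}
    (ha : a ∈ (S : Subgroup G)) (ha' : a' ∈ (S : Subgroup G)) (ha1 : a ≠ 1) (ha1' : a' ≠ 1)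
    (hc : Commute g a) (hc' : Commute g a') : a = a' := by
  obtain ⟨E, c⟩ := b.exists_comp
  by_contra hne
  set T := (S : Subgroup G) ⊓ centralizer ((zpowers g : Subgroup G) : Set G)
  have h3 : 3 ≤ Nat.card ↥T := by
    have hsub : ({1, a, a'} : Set G) ⊆ (T : Set G) := by
      rintro x (rfl | rfl | rfl) <;> rw [SetLike.mem_coe, b.inf_centralizer_zpowers]
      · exact ⟨one_mem _, Commute.one_right _⟩
      · exact ⟨ha, hc⟩
      · exact ⟨ha', hc'⟩
    have h1 := Set.ncard_le_ncard hsub (Set.toFinite _)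
    rw [Set.ncard_insert_of_notMem (by simp [Ne.symm ha1, Ne.symm ha1']), Set.ncard_pair hne] at h1
    exact h1
  have h4 := b.card_fixed c hg hgr
  rw [b.card_sylow] at h4
  have h5 : 2 = Nat.card ↥T := Nat.pow_left_injective b.cb.prime.ne_zero h4
  omega

theorem card_comp (c : Comp S E) : Nat.card ↥E = r * (2 ^ r - 1) := by
  haveI := Fact.mk b.cb.prime
  have hr2 : ¬ r ^ 2 ∣ Nat.card ↥E := by
    intro hd
    obtain ⟨A, hA⟩ := Sylow.exists_subgroup_card_pow_prime r hd
    obtain ⟨hK1, hKE, hKr, hKn, -⟩ := b.core_facts c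
    set A' := A.map E.subtype
    have hcard : Nat.card ↥A' = r ^ 2 := by rw [card_map_of_injective E.subtype_injective, hA]
    haveI := IsPGroup.isMulCommutative_of_card_eq_prime_sq hcard
    have hA' : IsPGroup r ↥A' := IsPGroup.of_card hcard
    have hEA : Cfsg.IsElementaryAbelian r A' :=
      ⟨inferInstance, fun x hx => b.cb.pow_r_eq_one_of_mem hA' hx⟩
    obtain ⟨x, hx, hx1, k, hk, hk1, hc⟩ := exists_commute_of_card_sq hEA hcard hKr
      ((map_subtype_le A).trans hKn) hK1
    exact hk1 (b.fpf_core c (orderOf_eq_prime (hEA.2 x hx) hx1) k hk hc)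
  obtain ⟨a, ha, ha1, g, hg, hgr, hga⟩ := b.exists_commuting
  obtain ⟨E', c', hg'⟩ := c.exists_conj_mem b.cb.ne_two hg (hgr ▸ pow_orderOf_eq_one g)
  -- transport into `E`
  obtain ⟨s, hs, hse⟩ := c.cover g hg
  have hcomm : Commute (s⁻¹ * g) a := (b.commute (inv_mem hs) ha).mul_left hga
  set K := (centralizer ({a} : Set G)).subgroupOf E with hK
  have hKr : IsPGroup r ↥K := fun k => ⟨1, Subtype.ext (Subtype.ext (by
    rw [SubgroupClass.coe_pow, SubgroupClass.coe_pow, pow_one]
    exact b.pow_r_of_commute c k.1.2 ha ha1 (mem_centralizer_singleton_iff.1 (mem_subgroupOf.1 k.2))))⟩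
  obtain ⟨j, hj⟩ := hKr.exists_card_eq
  have hKd : Nat.card ↥K ∣ Nat.card ↥E := card_subgroup_dvd_card K
  have hj1 : j = 1 := by
    rcases j with _ | _ | j
    · exfalso
      have h1 : (⟨s⁻¹ * g, hse⟩ : ↥E) ∈ K :=
        mem_subgroupOf.2 (mem_centralizer_singleton_iff.2 hcomm.eq)
      rw [pow_zero, card_eq_one] at hj
      rw [hj, mem_bot] at h1
      have hgS : g ∈ (S : Subgroup G) := (inv_mul_eq_one.1 (congrArg Subtype.val h1)) ▸ hs
      exact orderOf_pos_prime_ne_one b.cb.prime.one_lt hgr (c'.eq_one_of_mem hg' hgS)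
    · rfl
    · exact absurd ((hj ▸ pow_dvd_pow r (by omega : 2 ≤ j + 1 + 1) :
        r ^ 2 ∣ Nat.card ↥K).trans hKd) hr2
  have hidx := b.index_centralizer c ha ha1
  rw [b.card_sylow] at hidx
  rw [← card_mul_index K, ← hK] at *
  rw [hj, hj1, pow_one, hidx]

/-- Two-point stabilisers are complements. -/
theorem two_comp {y : G ⧸ SN S} (hy : y ≠ base (SN S)) : Comp S (two G (base (SN S)) y) := by
  haveI := Fact.mk b.cb.prime
  obtain ⟨E, c⟩ := b.exists_comp
  obtain ⟨y₀, hy₀, d, hd, hdr⟩ := b.exists_in_two c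
  suffices hc₀ : Comp S (two G (base (SN S)) y₀) by
    obtain ⟨m, hm, hmy⟩ := b.concl.trans2 (base (SN S)) y₀ y hy₀ hy
    have hmN := smul_base_eq_iff.1 hm
    have heq : (two G (base (SN S)) y₀).map (MulAut.conj m).toMonoidHom =
        two G (base (SN S)) y := by
      ext v
      constructor
      · rintro ⟨w, hw, rfl⟩
        rw [mem_two_iff] at *
        have h1 := fix_conj (g := m) (mem_two_iff.1 hw).1
        have h2 := fix_conj (g := m) (mem_two_iff.1 hw).2
        rw [hm] at h1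
        rw [hmy] at h2
        exact ⟨h1, h2⟩
      · intro hv
        refine ⟨m⁻¹ * v * m, mem_two_iff.2 ⟨?_, ?_⟩, by simp [mul_assoc]⟩
        · exact fix_conj' (by rw [hm]; exact (mem_two_iff.1 hv).1)
        · exact fix_conj' (by rw [hmy]; exact (mem_two_iff.1 hv).2)
    exact heq ▸ hc₀.conj hmN
  set D := two G (base (SN S)) y₀ with hD
  have hDN : D ≤ SN S := fun v hv => smul_base_eq_iff.1 (mem_two_iff.1 hv).1
  have hodd : Odd (Nat.card ↥D) := b.oneFix.odd_two (Ne.symm hy₀)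
  obtain ⟨π, hπS, hπE⟩ := c.exists_proj
  have hker : ∀ v : ↥(SN S), π v = 1 → (v : G) ∈ (S : Subgroup G) := by
    intro v hv
    obtain ⟨s, hs, hse⟩ := c.cover v v.2
    have h1 : π (⟨s, sylow_le_SN S hs⟩ * ⟨s⁻¹ * (v : G), c.le hse⟩) = ⟨s⁻¹ * (v : G), hse⟩ := by
      rw [map_mul, hπS _ hs, hπE _ hse, one_mul]
    rw [show (⟨s, sylow_le_SN S hs⟩ * ⟨s⁻¹ * (v : G), c.le hse⟩ : ↥(SN S)) = v from
      Subtype.ext (mul_inv_cancel_left s (v : G)), hv] at h1
    exact (inv_mul_eq_one.1 (congrArg Subtype.val h1.symm)) ▸ hs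
  let f : ↥D →* ↥E := π.comp (inclusion hDN)
  have hf : Function.Injective f := (injective_iff_map_eq_one f).2 fun v hv => Subtype.ext
    (eq_one_of_isTwo_of_odd (isTwo_of_mem S.isPGroup' (hker _ hv))
      (hodd.of_dvd_nat (orderOf_dvd_natCard D v.2)))
  have hdvd : Nat.card ↥D ∣ r * (2 ^ r - 1) := b.card_comp c ▸ card_dvd_of_injective f hf
  have hrd : r ∣ Nat.card ↥D := hdr ▸ orderOf_dvd_natCard D hd
  obtain ⟨m₂, hm₂⟩ := hrd
  have hge : 2 ^ r - 1 ≤ Nat.card ↥D := by
    obtain ⟨t, ht⟩ := b.oneFix.exists_invAt (base (SN S))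
    have hinv : invAt G (base (SN S)) = ((S : Subgroup G) : Set G) \ {1} := by
      ext x
      constructor
      · exact fun hx => ⟨mem_sylow (smul_base_eq_iff.1 hx.2) hx.1, ne_one_of_involution hx.1⟩
      · exact fun hx => b.mem_invAt hx.1 hx.2
    have hn : Nat.card ↥(invAt G (base (SN S))) = 2 ^ r - 1 := by
      rw [Nat.card_coe_set_eq, hinv, Set.ncard_sdiff_singleton_of_mem (one_mem (S : Subgroup G)),
        ← Nat.card_coe_set_eq, ← b.card_sylow]
      rfl
    rw [← hn]
    refine Nat.card_le_card_of_surjective (fun v : ↥D => (⟨(v : G) * t * (v : G)⁻¹, ?_⟩ :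
      ↥(invAt G (base (SN S))))) ?_
    · have h1 := conj_mem_invAt (g := (v : G)) ht
      rwa [(mem_two_iff.1 v.2).1] at h1
    · rintro ⟨s', hs'⟩
      obtain ⟨v, hv, hvs⟩ := b.oneFix.exists_conj_invAt (Ne.symm hy₀) ht hs'
      exact ⟨⟨v, hv⟩, Subtype.ext hvs⟩
  have hm : m₂ ∣ 2 ^ r - 1 := by
    rw [hm₂] at hdvd
    exact (Nat.mul_dvd_mul_iff_left b.cb.prime.pos).1 hdvd
  have hfull : m₂ = 2 ^ r - 1 := by
    obtain ⟨k, hk⟩ := hm
    have hpos : 0 < 2 ^ r - 1 := by
      have := Nat.le_self_pow b.cb.prime.ne_zero 2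
      omega
    have hk1 : k = 1 := by
      by_contra hk1
      obtain ⟨q, hq, hqk⟩ := Nat.exists_prime_and_dvd hk1
      have h1 := lt_of_dvd_two_pow_sub_one b.cb.prime hq (hk ▸ hqk.mul_left m₂)
      have hk0 : 0 < k := Nat.pos_of_ne_zero fun e => by rw [e, mul_zero] at hk; omega
      have h2 := Nat.le_of_dvd hk0 hqk
      rw [hk, hm₂, mul_comm m₂ k] at hge
      have hm0 : 0 < m₂ := Nat.pos_of_ne_zero fun e => by rw [e, zero_mul] at hk; omega
      have := Nat.le_of_mul_le_mul_right hge hm0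
      omega
    rw [hk, hk1, mul_one]
  have hbij : Function.Bijective f := (Nat.bijective_iff_injective_and_card f).2
    ⟨hf, by rw [hm₂, hfull, b.card_comp c]⟩
  refine ⟨hDN, hodd, fun m hm => ?_⟩
  obtain ⟨v, hv⟩ := hbij.2 (π ⟨m, hm⟩)
  refine ⟨m * (v : G)⁻¹, hker (⟨m, hm⟩ * (inclusion hDN v)⁻¹) ?_, ?_⟩
  · rw [map_mul, map_inv, ← hv]
    exact mul_inv_cancel _
  · rw [mul_inv_rev, inv_inv, inv_mul_cancel_right]
    exact v.2

theorem exists_sylow_smul {y x : G ⧸ SN S} (hy : y ≠ base (SN S)) (hx : x ≠ base (SN S)) :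
    ∃ s ∈ (S : Subgroup G), s • y = x := by
  obtain ⟨m, hm, hmy⟩ := b.concl.trans2 (base (SN S)) y x hy hx
  obtain ⟨s, hs, hv⟩ := (b.two_comp hy).cover m (smul_base_eq_iff.1 hm)
  refine ⟨s, hs, ?_⟩
  have h1 := (mem_two_iff.1 hv).2
  rwa [mul_smul, hmy, inv_smul_eq_iff, eq_comm] at h1

theorem sylow_smul_inj {y : G ⧸ SN S} (hy : y ≠ base (SN S)) {s s' : G}
    (hs : s ∈ (S : Subgroup G)) (hs' : s' ∈ (S : Subgroup G)) (h : s • y = s' • y) : s = s' := by
  refine inv_mul_eq_one.1 ((b.two_comp hy).eq_one_of_mem (e := s⁻¹ * s') ?_ (mul_mem (inv_mem hs) hs'))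
  refine mem_two_iff.2 ⟨smul_base_eq_iff.2 (sylow_le_SN S (mul_mem (inv_mem hs) hs')), ?_⟩
  rw [mul_smul, ← h, inv_smul_smul]

theorem card_points : Nat.card (G ⧸ SN S) = 2 ^ r + 1 := by
  classical
  obtain ⟨y, hy⟩ := b.oneFix.nontriv (base (SN S))
  have hsy : ∀ s : ↥(S : Subgroup G), (s : G) • y ≠ base (SN S) := fun s e => hy
    (smul_left_cancel (s : G) (e.trans (smul_base_eq_iff.2 (sylow_le_SN S s.2)).symm))
  rw [← b.card_sylow, ← Finite.card_option]
  refine (Nat.card_eq_of_bijective (fun o : Option ↥(S : Subgroup G) =>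
    o.elim (base (SN S)) fun s => (s : G) • y) ⟨?_, ?_⟩).symm
  · rintro (_ | s) (_ | s') h
    · rfl
    · exact absurd h.symm (hsy s')
    · exact absurd h (hsy s)
    · exact congrArg some (Subtype.ext (b.sylow_smul_inj hy s.2 s'.2 h))
  · intro x
    by_cases hx : x = base (SN S)
    · exact ⟨none, hx.symm⟩
    · obtain ⟨s, hs, hsx⟩ := b.exists_sylow_smul hy hx
      exact ⟨some ⟨s, hs⟩, hsx⟩

/-- An element of order `r` fixing two points fixes exactly three, permuted by its centralizer. -/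
theorem r_eq_three : r = 3 := by
  classical
  haveI := Fact.mk b.cb.prime
  obtain ⟨E, c⟩ := b.exists_comp
  obtain ⟨y, hy, d, hd, hdr⟩ := b.exists_in_two c
  have hdN : d ∈ SN S := smul_base_eq_iff.1 (mem_two_iff.1 hd).1
  obtain ⟨a, ha, ha1, hc⟩ := b.exists_fixed c hdN hdr
  have hay : a • y ≠ y := fun e => ha1 ((b.sylow_smul_inj hy ha (one_mem _)
    (e.trans (one_smul G y).symm)))
  have hab : a • y ≠ base (SN S) := fun e =>
    hy (smul_left_cancel a (e.trans (smul_base_eq_iff.2 (sylow_le_SN S ha)).symm))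
  have hfix : ∀ x : G ⧸ SN S, d • x = x → x = base (SN S) ∨ x = y ∨ x = a • y := by
    intro x hx
    by_cases hxb : x = base (SN S)
    · exact Or.inl hxb
    obtain ⟨s, hs, rfl⟩ := b.exists_sylow_smul hy hxb
    have h1 : (d * s * d⁻¹) • y = s • y := by
      rw [mul_smul, mul_smul, show d⁻¹ • y = y by rw [inv_smul_eq_iff, (mem_two_iff.1 hd).2], hx]
    have h2 := b.sylow_smul_inj hy ((mem_normalizer_iff.1 hdN s).1 hs) hs h1
    by_cases hs1 : s = 1
    · exact Or.inr (Or.inl (by rw [hs1, one_smul]))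
    · exact Or.inr (Or.inr (by
        rw [b.fixed_unique hdN hdr hs ha hs1 ha1 (mul_inv_eq_iff_eq_mul.1 h2) hc]))
  set C := centralizer ({d} : Set G)
  have hCfix : ∀ v ∈ C, ∀ x : G ⧸ SN S, d • x = x → d • v • x = v • x := fun v hv x hx => by
    rw [smul_smul, ← mem_centralizer_singleton_iff.1 hv, mul_smul, hx]
  have haC : a ∈ C := mem_centralizer_singleton_iff.2 hc.symm.eq
  obtain ⟨t, ht, hty, htd⟩ := b.exists_involution_at (mem_two_iff.1 hd).2 hdr
  have htC : t ∈ C := mem_centralizer_singleton_iff.2 htd.eq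
  have htb : t • base (SN S) = a • y := by
    rcases hfix _ (hCfix t htC _ (mem_two_iff.1 hd).1) with h | h | h
    · exact absurd (b.oneFix.unique t ht _ _ h hty) (Ne.symm hy)
    · exact absurd (smul_left_cancel t (h.trans hty.symm)) (Ne.symm hy)
    · exact h
  have horbit : MulAction.orbit ↥C y = {base (SN S), y, a • y} := by
    refine Set.Subset.antisymm ?_ ?_
    · rintro _ ⟨v, rfl⟩
      exact hfix _ (hCfix v v.2 y (mem_two_iff.1 hd).2)
    · intro x hx
      rcases hx with h | h | h <;> rw [h]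
      · refine ⟨⟨t⁻¹ * a, mul_mem (inv_mem htC) haC⟩, ?_⟩
        show (t⁻¹ * a) • y = base (SN S)
        rw [mul_smul, ← htb, inv_smul_smul]
      · exact MulAction.mem_orbit_self y
      · exact ⟨⟨a, haC⟩, rfl⟩
  have h3 : 3 ∣ Nat.card ↥C := by
    have h1 : (MulAction.stabilizer ↥C y).index = 3 := by
      rw [MulAction.index_stabilizer, horbit,
        Set.ncard_insert_of_notMem (by simp [Ne.symm hy, Ne.symm hab]),
        Set.ncard_pair (Ne.symm hay)]
    exact h1 ▸ index_dvd_card _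
  rcases b.cb.prime_dvd_centralizer_r hdr Nat.prime_three h3 with h | h
  · omega
  · exact h.symm

end Big

/-- In a nonabelian group of order `27` the commutators are central and the center has order `3`. -/
theorem center_twentyseven {G : Type*} [Group G] [Finite G] (hcard : Nat.card G = 3 ^ 3) {x y : G}
    (hxy : x * y ≠ y * x) :
    Nat.card ↥(Subgroup.center G) = 3 ∧ ∀ a c : G, a * c * a⁻¹ * c⁻¹ ∈ Subgroup.center G := by
  haveI : Fact (Nat.Prime 3) := ⟨Nat.prime_three⟩
  haveI : Nontrivial G := ⟨⟨x * y, y * x, hxy⟩⟩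
  haveI := (IsPGroup.of_card hcard).center_nontrivial
  have hne1 : Nat.card ↥(Subgroup.center G) ≠ 1 := (Finite.one_lt_card).ne'
  obtain ⟨j, hj3, hj⟩ := (Nat.dvd_prime_pow Nat.prime_three).1
    (hcard ▸ (Subgroup.center G).card_subgroup_dvd_card)
  have hidx := (Subgroup.center G).card_mul_index
  rw [hcard, hj] at hidx
  have hj1 : j = 1 := by
    by_contra hj1
    have hj0 : j ≠ 0 := fun e => hne1 (by rw [hj, e, pow_zero])
    haveI : IsCyclic (G ⧸ Subgroup.center G) := by
      interval_cases j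
      · exact absurd rfl hj0
      · exact absurd rfl hj1
      · refine isCyclic_of_prime_card (p := 3) ?_
        show (Subgroup.center G).index = 3
        omega
      · haveI : Subsingleton (G ⧸ Subgroup.center G) := by
          refine (Nat.card_eq_one_iff_unique.1 ?_).1
          show (Subgroup.center G).index = 1
          omega
        infer_instance
    exact hxy ((MonoidHom.isMulCommutative_of_isCyclic_of_ker_le_center
      (QuotientGroup.mk' (Subgroup.center G)) (QuotientGroup.ker_mk' _).le).is_comm.comm x y)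
  subst hj1
  refine ⟨by rw [hj, pow_one], fun a c => ?_⟩
  haveI := IsPGroup.isMulCommutative_of_card_eq_prime_sq (p := 3) (G := G ⧸ Subgroup.center G)
    (show (Subgroup.center G).index = 3 ^ 2 by omega)
  rw [← QuotientGroup.eq_one_iff, QuotientGroup.mk_mul, QuotientGroup.mk_mul, QuotientGroup.mk_mul,
    QuotientGroup.mk_inv, QuotientGroup.mk_inv, mul_comm' (a : G ⧸ Subgroup.center G) c,
    mul_inv_cancel_right, mul_inv_cancel]

theorem Comp.card_eq {G : Type u} [Group G] [Finite G] {S : Sylow 2 G} {E : Subgroup G}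
    (c : Comp S E) : Nat.card ↥(SN S) = Nat.card ↥(S : Subgroup G) * Nat.card ↥E := by
  rw [← Nat.card_prod]
  refine (Nat.card_eq_of_bijective (fun p : ↥(S : Subgroup G) × ↥E =>
    (⟨(p.1 : G) * p.2, mul_mem (sylow_le_SN S p.1.2) (c.le p.2.2)⟩ : ↥(SN S))) ⟨?_, ?_⟩).symm
  · rintro ⟨s, e⟩ ⟨s', e'⟩ h
    have h1 : (s : G) * e = s' * e' := congrArg Subtype.val h
    have h2 : (s : G) = s' := c.eq_of_mem (m := (s : G) * e) s.2 s'.2
      (by rw [inv_mul_cancel_left]; exact e.2) (by rw [h1, inv_mul_cancel_left]; exact e'.2)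
    rw [h2] at h1
    exact Prod.ext (Subtype.ext h2) (Subtype.ext (mul_left_cancel h1))
  · intro m
    obtain ⟨s, hs, he⟩ := c.cover m m.2
    exact ⟨⟨⟨s, hs⟩, ⟨_, he⟩⟩, Subtype.ext (mul_inv_cancel_left s (m : G))⟩

namespace Big

variable (b : Big G 3 S)
include b

theorem card_two {y : G ⧸ SN S} (hy : y ≠ base (SN S)) :
    Nat.card ↥(two G (base (SN S)) y) = 21 := by
  rw [b.card_comp (b.two_comp hy)]
  norm_num

theorem card_group : Nat.card G = 9 * 168 := by
  obtain ⟨y, hy⟩ := b.oneFix.nontriv (base (SN S))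
  rw [Subgroup.card_eq_card_quotient_mul_card_subgroup (SN S), b.card_points,
    (b.two_comp hy).card_eq, b.card_sylow, b.card_two hy]
  norm_num

/-- The stabiliser of three points has order three. -/
theorem exists_three {x y z : G ⧸ SN S} (hxy : x ≠ y) (hxz : x ≠ z) (hyz : y ≠ z) :
    ∃ d : G, orderOf d = 3 ∧ d • x = x ∧ d • y = y ∧ d • z = z ∧
      ∀ v : G, v • x = x → v • y = y → v • z = z → v ∈ zpowers d := by
  haveI : Fact (Nat.Prime 3) := ⟨Nat.prime_three⟩
  obtain ⟨g, hg⟩ := b.oneFix.trans (base (SN S)) x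
  have hb : g⁻¹ • x = base (SN S) := by rw [← hg, inv_smul_smul]
  have hy0 : g⁻¹ • y ≠ base (SN S) := fun e => hxy (smul_left_cancel g⁻¹ (hb.trans e.symm))
  have hz0 : g⁻¹ • z ≠ base (SN S) := fun e => hxz (smul_left_cancel g⁻¹ (hb.trans e.symm))
  obtain ⟨s, hs, hsy⟩ := b.exists_sylow_smul hy0 hz0
  have hs1 : s ≠ 1 := fun e => hyz (by
    rw [e, one_smul] at hsy
    exact smul_left_cancel g⁻¹ hsy)
  set D := two G (base (SN S)) (g⁻¹ • y) with hD
  set K := (centralizer ({s} : Set G)).subgroupOf D with hK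
  have hcard : Nat.card ↥K = 3 := by
    have h1 := K.card_mul_index
    rw [b.index_centralizer (b.two_comp hy0) hs hs1, b.card_sylow, b.card_two hy0] at h1
    omega
  obtain ⟨d, hd⟩ := exists_prime_orderOf_dvd_card' (G := ↥K) 3 (by rw [hcard])
  have hd' : orderOf ((d : ↥D) : G) = 3 := (orderOf_coe _).trans ((orderOf_coe d).trans hd)
  have hds : Commute ((d : ↥D) : G) s := mem_centralizer_singleton_iff.1 (mem_subgroupOf.1 d.2)
  have hfix := mem_two_iff.1 (d : ↥D).2
  refine ⟨g * ((d : ↥D) : G) * g⁻¹, (orderOf_conj_eq g _).trans hd', ?_, ?_, ?_, fun v hvx hvy hvz => ?_⟩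
  · have := fix_conj (g := g) hfix.1
    rwa [hg] at this
  · have := fix_conj (g := g) hfix.2
    rwa [smul_inv_smul] at this
  · have h1 : ((d : ↥D) : G) • (g⁻¹ • z) = g⁻¹ • z := by
      rw [← hsy, smul_smul, hds.eq, mul_smul, hfix.2]
    have := fix_conj (g := g) h1
    rwa [smul_inv_smul] at this
  · have hv0 : g⁻¹ * v * g ∈ D := mem_two_iff.2
      ⟨fix_conj' (by rw [hg]; exact hvx), fix_conj' (by rw [smul_inv_smul]; exact hvy)⟩
    have hvN : g⁻¹ * v * g ∈ SN S := smul_base_eq_iff.1 (mem_two_iff.1 hv0).1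
    have h2 : (g⁻¹ * v * g * s * (g⁻¹ * v * g)⁻¹) • (g⁻¹ • y) = s • (g⁻¹ • y) := by
      rw [mul_smul, mul_smul (g⁻¹ * v * g) s,
        show (g⁻¹ * v * g)⁻¹ • (g⁻¹ • y) = g⁻¹ • y from
          inv_smul_eq_iff.2 (mem_two_iff.1 hv0).2.symm, hsy]
      exact fix_conj' (by rw [smul_inv_smul]; exact hvz)
    have h3 := b.sylow_smul_inj hy0 ((mem_normalizer_iff.1 hvN s).1 hs) hs h2
    have hK' : (⟨g⁻¹ * v * g, hv0⟩ : ↥D) ∈ K :=
      mem_subgroupOf.2 (mem_centralizer_singleton_iff.2 (mul_inv_eq_iff_eq_mul.1 h3))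
    have h4 := mem_zpowers_of_prime_card (g := d) (g' := (⟨_, hK'⟩ : ↥K)) hcard
      (orderOf_pos_prime_ne_one (by norm_num) hd)
    obtain ⟨k, hk⟩ := mem_zpowers_iff.1 h4
    refine mem_zpowers_iff.2 ⟨k, ?_⟩
    have h5 : ((d : ↥D) : G) ^ k = g⁻¹ * v * g := by
      have := congrArg (fun u : ↥K => ((u : ↥D) : G)) hk
      simpa using this
    rw [conj_zpow, h5]
    group

/-- A nonidentity element fixes at most three points. -/
theorem eq_one_of_four {x y z w : G ⧸ SN S} (hxy : x ≠ y) (hxz : x ≠ z) (hxw : x ≠ w) (hyz : y ≠ z)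
    (hyw : y ≠ w) (hzw : z ≠ w) {v : G} (hvx : v • x = x) (hvy : v • y = y) (hvz : v • z = z)
    (hvw : v • w = w) : v = 1 := by
  haveI : Fact (Nat.Prime 3) := ⟨Nat.prime_three⟩
  by_contra hv1
  obtain ⟨d, hd, -, -, -, hmem⟩ := b.exists_three hxy hxz hyz
  have hvo : orderOf v = 3 := by
    obtain ⟨k, rfl⟩ := mem_zpowers_iff.1 (hmem v hvx hvy hvz)
    exact orderOf_eq_prime (by
      rw [← zpow_natCast, ← zpow_mul, mul_comm, zpow_mul, zpow_natCast, ← hd, pow_orderOf_eq_one,
        one_zpow]) hv1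
  obtain ⟨g, hg⟩ := b.oneFix.trans (base (SN S)) x
  have hb : g⁻¹ • x = base (SN S) := by rw [← hg, inv_smul_smul]
  have hne : ∀ p : G ⧸ SN S, x ≠ p → g⁻¹ • p ≠ base (SN S) := fun p hp e =>
    hp (smul_left_cancel g⁻¹ (hb.trans e.symm))
  have hfx : ∀ p : G ⧸ SN S, v • p = p → (g⁻¹ * v * g) • (g⁻¹ • p) = g⁻¹ • p := fun p hp =>
    fix_conj' (by rw [smul_inv_smul]; exact hp)
  have hvN : g⁻¹ * v * g ∈ SN S := smul_base_eq_iff.1 (by rw [← hb]; exact hfx x hvx)
  obtain ⟨s, hs, hsy⟩ := b.exists_sylow_smul (hne y hxy) (hne z hxz)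
  obtain ⟨s', hs', hsy'⟩ := b.exists_sylow_smul (hne y hxy) (hne w hxw)
  have hcomm : ∀ (p : G ⧸ SN S) (a : G), a ∈ (S : Subgroup G) → a • (g⁻¹ • y) = g⁻¹ • p →
      v • p = p → Commute (g⁻¹ * v * g) a := by
    intro p a ha hap hp
    refine mul_inv_eq_iff_eq_mul.1 (b.sylow_smul_inj (hne y hxy)
      ((mem_normalizer_iff.1 hvN a).1 ha) ha ?_)
    rw [mul_smul, mul_smul (g⁻¹ * v * g) a,
      show (g⁻¹ * v * g)⁻¹ • (g⁻¹ • y) = g⁻¹ • y from inv_smul_eq_iff.2 (hfx y hvy).symm, hap]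
    exact hfx p hp
  have hs1 : s ≠ 1 := fun e => hyz (by rw [e, one_smul] at hsy; exact smul_left_cancel g⁻¹ hsy)
  have hs1' : s' ≠ 1 := fun e => hyw (by rw [e, one_smul] at hsy'; exact smul_left_cancel g⁻¹ hsy')
  have := b.fixed_unique hvN ((orderOf_inv_conj g v).trans hvo) hs hs' hs1 hs1'
    (hcomm z s hs hsy hvz) (hcomm w s' hs' hsy' hvw)
  rw [this, hsy'] at hsy
  exact hzw (smul_left_cancel g⁻¹ hsy).symm

theorem ncard_fixed_le {v : G} (hv : v ≠ 1) : {p : G ⧸ SN S | v • p = p}.ncard ≤ 3 := by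
  by_contra h
  push Not at h
  obtain ⟨x, hx, y, hy, z, hz, hxy, hxz, hyz⟩ :=
    (Set.two_lt_ncard (Set.toFinite _)).1 (by omega : 2 < {p : G ⧸ SN S | v • p = p}.ncard)
  have hsub : {p : G ⧸ SN S | v • p = p} ⊆ {x, y, z} := fun w hw => by
    by_contra hn
    simp only [Set.mem_insert_iff, Set.mem_singleton_iff, not_or] at hn
    exact hv (b.eq_one_of_four hxy hxz (Ne.symm hn.1) hyz (Ne.symm hn.2.1) (Ne.symm hn.2.2)
      hx hy hz hw)
  have h1 := Set.ncard_le_ncard hsub (Set.toFinite _)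
  rw [Set.ncard_insert_of_notMem (by simp [hxy, hxz]), Set.ncard_pair hyz] at h1
  omega

/-- The centralizer of a fixed-point-free element of order three. -/
theorem isPGroup_centralizer {w : G} (hw : orderOf w = 3) (hfree : ∀ p : G ⧸ SN S, w • p ≠ p) :
    IsPGroup 3 ↥(centralizer ({w} : Set G)) := by
  haveI : Fact (Nat.Prime 3) := ⟨Nat.prime_three⟩
  refine IsPGroup.of_card (n := (Nat.card (centralizer ({w} : Set G))).primeFactorsList.length)
    (Nat.eq_prime_pow_of_unique_prime_dvd Nat.card_pos.ne' fun {q} hq hd => ?_)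
  rcases b.cb.prime_dvd_centralizer_r hw hq hd with rfl | rfl
  · exfalso
    haveI : Fact (Nat.Prime 2) := ⟨Nat.prime_two⟩
    obtain ⟨t, ht⟩ := exists_prime_orderOf_dvd_card' 2 hd
    obtain ⟨p, hp⟩ := b.oneFix.exists_fix (t : G) ((orderOf_coe t).trans ht)
    exact hfree p (b.oneFix.fix_of_commute ⟨(orderOf_coe t).trans ht, hp⟩
      (mem_centralizer_singleton_iff.1 t.2).symm)
  · rfl

theorem card_le_twentyseven {H : Subgroup G} (hH : IsPGroup 3 ↥H) :
    ∃ k ≤ 3, Nat.card ↥H = 3 ^ k := by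
  haveI : Fact (Nat.Prime 3) := ⟨Nat.prime_three⟩
  obtain ⟨k, hk⟩ := hH.exists_card_eq
  refine ⟨k, ?_, hk⟩
  by_contra h4
  push Not at h4
  have h1 : 3 ^ 4 ∣ Nat.card G := (pow_dvd_pow 3 h4).trans (hk ▸ H.card_subgroup_dvd_card)
  rw [b.card_group] at h1
  norm_num at h1

theorem not_nine_points : False := by
  classical
  haveI : Fact (Nat.Prime 3) := ⟨Nat.prime_three⟩
  obtain ⟨P⟩ := (inferInstance : Nonempty (Sylow 3 G))
  set P' := (P : Subgroup G) with hP'
  have hPr : IsPGroup 3 ↥P' := P.isPGroup'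
  have hord : ∀ v ∈ P', v ≠ 1 → orderOf v = 3 := fun v hv hv1 =>
    orderOf_eq_prime (b.cb.pow_r_eq_one_of_mem hPr hv) hv1
  have hP : Nat.card ↥P' = 3 ^ 3 := by
    obtain ⟨k, hk3, hk⟩ := b.card_le_twentyseven hPr
    have h1 := P'.card_mul_index
    have h2 := P.not_dvd_index
    rw [hk, b.card_group] at h1
    change ¬ 3 ∣ P'.index at h2
    interval_cases k <;> omega
  -- point stabilisers in `P`
  have hstab : ∀ p : G ⧸ SN S, Nat.card ↥(stabilizer ↥P' p) ≤ 3 := by
    intro p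
    have hinj : Nat.card ↥(stabilizer ↥P' p) ∣ Nat.card ↥(stabilizer G p) :=
      card_dvd_of_injective
        (MonoidHom.mk' (fun v : ↥(stabilizer ↥P' p) => (⟨((v : ↥P') : G), v.2⟩ : ↥(stabilizer G p)))
          fun _ _ => rfl)
        fun v v' h => Subtype.ext (Subtype.ext (congrArg (fun u : ↥(stabilizer G p) => (u : G)) h))
    have h168 : Nat.card ↥(stabilizer G p) = 168 := by
      have h1 := (stabilizer G p).card_mul_index
      have horb : orbit G p = Set.univ := by
        refine Set.eq_univ_of_forall fun q => ?_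
        obtain ⟨g, hg⟩ := b.oneFix.trans p q
        exact ⟨g, hg⟩
      rw [MulAction.index_stabilizer, horb, Set.ncard_univ, b.card_points, b.card_group,
        show (2 : ℕ) ^ 3 + 1 = 9 from rfl, mul_comm 9 168] at h1
      exact Nat.eq_of_mul_eq_mul_right (by norm_num) h1
    rw [h168] at hinj
    obtain ⟨k, hk⟩ := (hPr.to_subgroup (stabilizer ↥P' p)).exists_card_eq
    rw [hk] at hinj ⊢
    rcases k with _ | _ | k
    · norm_num
    · norm_num
    · exfalso
      have h2 : 9 ∣ 168 := Dvd.dvd.trans ⟨3 ^ k, by ring⟩ hinj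
      norm_num at h2
  have horb : ∀ p q : G ⧸ SN S, ∃ v ∈ P', v • p = q := by
    intro p q
    have h1 := (stabilizer ↥P' p).card_mul_index
    rw [MulAction.index_stabilizer, hP] at h1
    have h2 : (orbit ↥P' p).ncard ≤ 9 := by
      have := Set.ncard_le_card (orbit ↥P' p)
      rw [b.card_points] at this
      norm_num at this
      exact this
    have h3 := hstab p
    have huniv : orbit ↥P' p = Set.univ := by
      refine Set.eq_of_subset_of_ncard_le (Set.subset_univ _) ?_ (Set.toFinite _)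
      rw [Set.ncard_univ, b.card_points]
      norm_num
      nlinarith
    obtain ⟨⟨v, hv⟩, hvq⟩ : q ∈ orbit ↥P' p := huniv ▸ Set.mem_univ q
    exact ⟨v, hv, hvq⟩
  -- central elements are fixed-point-free
  have hfree : ∀ z ∈ P', (∀ v ∈ P', z * v = v * z) → z ≠ 1 → ∀ p : G ⧸ SN S, z • p ≠ p := by
    intro z hz hzc hz1 p hp
    refine hz1 (b.faithful z fun q => ?_)
    obtain ⟨v, hv, hvp⟩ := horb p q
    rw [← hvp, smul_smul, hzc v hv, mul_smul, hp]
  -- some element of `P` fixes a point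
  obtain ⟨p₀⟩ : Nonempty (G ⧸ SN S) := ⟨base (SN S)⟩
  have hnab : ∃ x ∈ P', ∃ y ∈ P', x * y ≠ y * x := by
    by_contra hab
    push Not at hab
    have h1 := (stabilizer ↥P' p₀).card_mul_index
    rw [MulAction.index_stabilizer, hP] at h1
    have h2 : (orbit ↥P' p₀).ncard ≤ 9 := by
      have := Set.ncard_le_card (orbit ↥P' p₀)
      rw [b.card_points] at this
      norm_num at this
      exact this
    have hne : stabilizer ↥P' p₀ ≠ ⊥ := by
      intro e
      rw [e, card_bot] at h1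
      omega
    obtain ⟨v, hv, hv1⟩ := (bot_or_exists_ne_one _).resolve_left hne
    exact hfree v v.2 (fun u hu => hab v v.2 u hu) (fun e => hv1 (Subtype.ext e)) p₀ hv
  obtain ⟨x₀, hx₀, y₀, hy₀, hxy₀⟩ := hnab
  obtain ⟨hZ, hcomm⟩ := center_twentyseven hP (x := (⟨x₀, hx₀⟩ : ↥P')) (y := ⟨y₀, hy₀⟩)
    (fun e => hxy₀ (congrArg Subtype.val e))
  -- a noncentral fixed-point-free element
  obtain ⟨w, hwc, hwfree⟩ : ∃ w : ↥P', w ∉ Subgroup.center ↥P' ∧
      ∀ p : G ⧸ SN S, (w : G) • p ≠ p := by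
    by_contra hall
    push Not at hall
    haveI := Fintype.ofFinite ↥P'
    haveI := Fintype.ofFinite (G ⧸ SN S)
    set F : Finset ↥P' := (Finset.univ.filter fun v => v ∈ Subgroup.center ↥P') ∪
      Finset.univ.biUnion fun p : G ⧸ SN S =>
        Finset.univ.filter fun v : ↥P' => (v : G) • p = p ∧ v ≠ 1
    have hF : (Finset.univ : Finset ↥P') ⊆ F := fun v _ => by
      simp only [F, Finset.mem_union, Finset.mem_filter, Finset.mem_biUnion, Finset.mem_univ,
        true_and]
      by_cases hv : v ∈ Subgroup.center ↥P'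
      · exact Or.inl hv
      · obtain ⟨p, hp⟩ := hall v hv
        exact Or.inr ⟨p, hp, fun e => hv (e ▸ one_mem _)⟩
    have h1 := Finset.card_le_card hF
    have h2 : F.card ≤ 3 + 9 * 2 := by
      refine (Finset.card_union_le _ _).trans (add_le_add ?_ ?_)
      · rw [← hZ, Nat.card_eq_fintype_card, Fintype.card_subtype]
      · refine le_trans (Finset.card_biUnion_le_card_mul _ _ 2 fun p _ => ?_) ?_
        · have h3 : (Finset.univ.filter fun v : ↥P' => (v : G) • p = p ∧ v ≠ 1) =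
              (Finset.univ.filter fun v : ↥P' => v ∈ stabilizer ↥P' p).erase 1 := by
            ext v
            simp only [Finset.mem_filter, Finset.mem_erase, Finset.mem_univ, true_and,
              mem_stabilizer_iff]
            exact and_comm
          rw [h3, Finset.card_erase_of_mem (by simp), ← Fintype.card_subtype]
          have := hstab p
          rw [Nat.card_eq_fintype_card] at this
          omega
        · rw [Finset.card_univ, ← Nat.card_eq_fintype_card, b.card_points]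
          norm_num
    rw [Finset.card_univ, ← Nat.card_eq_fintype_card, hP] at h1
    omega
  obtain ⟨y, hy⟩ : ∃ y : ↥P', y * w ≠ w * y := by
    by_contra hall
    push Not at hall
    exact hwc (Subgroup.mem_center_iff.2 hall)
  set z := y * w * y⁻¹ * w⁻¹ with hz
  have hzc : z ∈ Subgroup.center ↥P' := hcomm y w
  have hz1 : z ≠ 1 := fun e => hy (mul_inv_eq_iff_eq_mul.1 (mul_inv_eq_one.1 e))
  have hw1 : (w : G) ≠ 1 := fun e => hwc (by rw [show w = 1 from Subtype.ext e]; exact one_mem _)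
  have hwo := hord w w.2 hw1
  have hzG1 : (z : G) ≠ 1 := fun e => hz1 (Subtype.ext e)
  have hzcomm : ∀ v : ↥P', (z : G) * v = v * z := fun v =>
    (congrArg Subtype.val (Subgroup.mem_center_iff.1 hzc v)).symm
  have hzfree := hfree z z.2 (fun v hv => hzcomm ⟨v, hv⟩) hzG1
  have hzo := hord z z.2 hzG1
  -- the centralizer of `w` has order `27`
  set C := centralizer ({(w : G)} : Set G) with hC
  have hCr := b.isPGroup_centralizer hwo hwfree
  have hzC : (z : G) ∈ C := mem_centralizer_singleton_iff.2 (hzcomm w)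
  have hC27 : Nat.card ↥C = 3 ^ 3 := by
    obtain ⟨k, hk3, hk⟩ := b.card_le_twentyseven hCr
    rcases (by omega : k = 3 ∨ k ≤ 2) with rfl | hk2
    · exact hk
    exfalso
    have hab : ∀ u v : ↥C, u * v = v * u := by
      interval_cases k
      · intro u v
        rw [pow_zero, Nat.card_eq_one_iff_unique] at hk
        haveI := hk.1
        exact Subsingleton.elim _ _
      · haveI : IsCyclic ↥C := isCyclic_of_prime_card (p := 3) (by rwa [pow_one] at hk)
        haveI := IsCyclic.isMulCommutative (α := ↥C)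
        exact fun u v => mul_comm' u v
      · haveI := IsPGroup.isMulCommutative_of_card_eq_prime_sq hk
        exact fun u v => mul_comm' u v
    have hzw : ∀ i : ℕ, ((w : G) ^ i)⁻¹ * z ≠ 1 := by
      intro i e
      have hzi : z = w ^ i := Subtype.ext (by
        rw [SubgroupClass.coe_pow]; exact (inv_mul_eq_one.1 e).symm)
      by_cases hi : 3 ∣ i
      · obtain ⟨j, rfl⟩ := hi
        refine hzG1 ?_
        rw [hzi, SubgroupClass.coe_pow, pow_mul, ← hwo, pow_orderOf_eq_one, one_pow]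
      · refine hwc ?_
        have hco : Nat.Coprime (orderOf w) i := by
          rw [← orderOf_coe, hwo]
          exact (Nat.prime_three.coprime_iff_not_dvd).2 hi
        obtain ⟨m, hm⟩ := exists_pow_eq_self_of_coprime hco.symm
        rw [← hm, ← hzi]
        exact pow_mem hzc m
    have hcover : ∀ p : G ⧸ SN S, (((w : G) ^ 1)⁻¹ * z) • p = p ∨ (((w : G) ^ 2)⁻¹ * z) • p = p := by
      intro p
      have h3 : (w : G) ^ 3 = 1 := hwo ▸ pow_orderOf_eq_one _
      have n1 : p ≠ (w : G) • p := (hwfree p).symm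
      have n3 : (w : G) • p ≠ (w : G) ^ 2 • p := fun e =>
        n1 (smul_left_cancel (w : G) (by rwa [smul_smul, ← sq]))
      have n2 : p ≠ (w : G) ^ 2 • p := fun e => n3 (by
        have e2 := congrArg (fun q => (w : G) ^ 2 • q) e
        simp only [smul_smul, ← pow_add] at e2
        rw [show 2 + 2 = 3 + 1 from rfl, pow_add, h3, one_mul, pow_one] at e2
        exact e2.symm)
      obtain ⟨d, hdo, hdp, hdw, hdw2, hmem⟩ := b.exists_three n1 n2 n3
      have hcd : (w : G) * d = d * w := by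
        have h4 : (w : G) * d * (w : G)⁻¹ ∈ zpowers d := by
          refine hmem _ ?_ ?_ ?_
          · have := fix_conj (g := (w : G)) hdw2
            rwa [show (w : G) • (w : G) ^ 2 • p = p by
              rw [smul_smul, ← pow_succ', h3, one_smul]] at this
          · exact fix_conj hdp
          · have := fix_conj (g := (w : G)) hdw
            rwa [show (w : G) • (w : G) • p = (w : G) ^ 2 • p by rw [smul_smul, ← sq]] at this
        obtain ⟨k, hk⟩ := mem_zpowers_iff.1 h4
        have hpow : ∀ n : ℕ, (w : G) ^ n * d * ((w : G) ^ n)⁻¹ = d ^ (k ^ n) := by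
          intro n
          induction n with
          | zero => simp
          | succ n ih =>
            calc (w : G) ^ (n + 1) * d * ((w : G) ^ (n + 1))⁻¹
                = (w : G) ^ n * ((w : G) * d * (w : G)⁻¹) * ((w : G) ^ n)⁻¹ := by
                  rw [pow_succ]; group
              _ = ((w : G) ^ n * d * ((w : G) ^ n)⁻¹) ^ k := by rw [← hk, conj_zpow]
              _ = d ^ (k ^ (n + 1)) := by rw [ih, ← zpow_mul, ← pow_succ]
        have h5 := hpow 3
        rw [h3, one_mul, inv_one, mul_one] at h5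
        have h6 : ((orderOf d : ℕ) : ℤ) ∣ k ^ 3 - 1 := by
          rw [orderOf_dvd_iff_zpow_eq_one, zpow_sub, ← h5, zpow_one, mul_inv_cancel]
        have h7 : (3 : ℤ) ∣ k - 1 := by
          rw [hdo] at h6
          have h8 : ((k ^ 3 - 1 : ℤ) : ZMod 3) = 0 := (ZMod.intCast_zmod_eq_zero_iff_dvd _ 3).2 h6
          refine (ZMod.intCast_zmod_eq_zero_iff_dvd _ 3).1 ?_
          push_cast at h8 ⊢
          rw [ZMod.pow_card] at h8
          exact h8
        have h9 : d ^ (k - 1) = 1 := by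
          rw [← orderOf_dvd_iff_zpow_eq_one, hdo]; exact_mod_cast h7
        rw [zpow_sub, zpow_one, mul_inv_eq_one] at h9
        rw [h9] at hk
        exact mul_inv_eq_iff_eq_mul.1 hk.symm
      have hdz : d * z = z * d :=
        congrArg Subtype.val (hab ⟨d, mem_centralizer_singleton_iff.2 hcd.symm⟩ ⟨z, hzC⟩)
      have hd1 : d ≠ 1 := orderOf_pos_prime_ne_one (by norm_num) hdo
      have hzp : d • (z : G) • p = (z : G) • p := by rw [smul_smul, hdz, mul_smul, hdp]
      by_cases e1 : (z : G) • p = (w : G) • p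
      · exact Or.inl (by rw [pow_one, mul_smul, e1, inv_smul_smul])
      by_cases e2 : (z : G) • p = (w : G) ^ 2 • p
      · exact Or.inr (by rw [mul_smul, e2, inv_smul_smul])
      exact absurd (b.eq_one_of_four n1 n2 (Ne.symm (hzfree p)) n3 (Ne.symm e1) (Ne.symm e2)
        hdp hdw hdw2 hzp) hd1
    have h1 := b.ncard_fixed_le (hzw 1)
    have h2 := b.ncard_fixed_le (hzw 2)
    have h4 : (Set.univ : Set (G ⧸ SN S)).ncard ≤ 3 + 3 :=
      (Set.ncard_le_ncard (fun p _ => hcover p) (Set.toFinite _)).trans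
        ((Set.ncard_union_le _ _).trans (add_le_add h1 h2))
    rw [Set.ncard_univ, b.card_points] at h4
    norm_num at h4
  -- `z` is not central there
  obtain ⟨x, hx⟩ : ∃ x : ↥C, x * ⟨z, hzC⟩ ≠ ⟨z, hzC⟩ * x := by
    by_contra hall
    push Not at hall
    have hCle : C ≤ centralizer ({(z : G)} : Set G) := fun v hv =>
      mem_centralizer_singleton_iff.2 (congrArg Subtype.val (hall ⟨v, hv⟩))
    have hPle : P' ≤ centralizer ({(z : G)} : Set G) := fun v hv =>
      mem_centralizer_singleton_iff.2 (hzcomm ⟨v, hv⟩).symm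
    obtain ⟨k, hk3, hk⟩ := b.card_le_twentyseven (b.isPGroup_centralizer hzo hzfree)
    have hkle : Nat.card ↥(centralizer ({(z : G)} : Set G)) ≤ 3 ^ 3 :=
      hk ▸ Nat.pow_le_pow_right (by norm_num) hk3
    have e1 := eq_of_le_of_card_ge hPle (hP ▸ hkle)
    have e2 := eq_of_le_of_card_ge hCle (hC27 ▸ hkle)
    have hyC : (y : G) ∈ C := by rw [e2, ← e1]; exact y.2
    exact hy (Subtype.ext (mem_centralizer_singleton_iff.1 hyC))
  obtain ⟨hZC, hcommC⟩ := center_twentyseven hC27 hx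
  have hwC : (⟨(w : G), mem_centralizer_singleton_iff.2 rfl⟩ : ↥C) ∈ Subgroup.center ↥C :=
    Subgroup.mem_center_iff.2 fun v => Subtype.ext (mem_centralizer_singleton_iff.1 v.2)
  obtain ⟨k, hk⟩ : ∃ k : ℕ, (x : G) * z * (x : G)⁻¹ * (z : G)⁻¹ = (w : G) ^ k ∧ k < 3 := by
    have h1 := mem_zpowers_of_prime_card (g := (⟨_, hwC⟩ : ↥(Subgroup.center ↥C)))
      (g' := ⟨_, hcommC x ⟨z, hzC⟩⟩) hZC
      (fun e => hw1 (congrArg (fun u : ↥(Subgroup.center ↥C) => ((u : ↥C) : G)) e))
    rw [← mem_powers_iff_mem_zpowers, Submonoid.mem_powers_iff] at h1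
    obtain ⟨n, hn⟩ := h1
    have hn' : (x : G) * z * (x : G)⁻¹ * (z : G)⁻¹ = (w : G) ^ n := by
      have := congrArg (fun u : ↥(Subgroup.center ↥C) => ((u : ↥C) : G)) hn
      simpa using this.symm
    refine ⟨n % 3, ?_, Nat.mod_lt _ (by norm_num)⟩
    rw [hn', ← hwo, pow_mod_orderOf]
  -- normalise
  obtain ⟨u, huw, huz⟩ : ∃ u : G, u * (w : G) = w * u ∧ u * (z : G) * u⁻¹ = z * (w : G)⁻¹ := by
    have hxw : (x : G) * w = w * x := mem_centralizer_singleton_iff.1 x.2
    have hwz : (w : G) * z = z * w := (hzcomm w).symm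
    obtain ⟨hk, hk3⟩ := hk
    rw [mul_inv_eq_iff_eq_mul] at hk
    interval_cases k
    · exfalso
      rw [pow_zero, one_mul, mul_inv_eq_iff_eq_mul] at hk
      exact hx (Subtype.ext hk)
    · refine ⟨(x : G)⁻¹, ((Commute.symm hxw).inv_right).symm.eq, ?_⟩
      rw [pow_one] at hk
      have h1 : (x : G)⁻¹ * (w * z) * x = (z : G) := by rw [← hk]; group
      rw [inv_inv]
      calc (x : G)⁻¹ * z * x = (x : G)⁻¹ * ((w * z) * (w : G)⁻¹) * x := by rw [hwz]; group
        _ = (x : G)⁻¹ * (w * z) * ((w : G)⁻¹ * x) := by group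
        _ = (x : G)⁻¹ * (w * z) * (x * (w : G)⁻¹) := by
          rw [((Commute.symm hxw).inv_left).eq]
        _ = _ := by rw [← mul_assoc, h1]
    · refine ⟨(x : G), hxw, ?_⟩
      have h3 : (w : G) ^ 2 = (w : G)⁻¹ := eq_inv_of_mul_eq_one_left (by
        rw [← pow_succ]
        have := pow_orderOf_eq_one (w : G)
        rwa [hwo] at this)
      rw [hk, h3, (show Commute (z : G) (w : G) from hwz.symm).inv_right.eq]
  -- an element of order four
  have hyz : (y : G) * z * (y : G)⁻¹ = z := by rw [← hzcomm y, mul_inv_cancel_right]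
  have hyw : (y : G) * w * (y : G)⁻¹ = z * w := by
    show (y : G) * w * (y : G)⁻¹ = ((y : G) * w * (y : G)⁻¹ * (w : G)⁻¹) * w
    group
  have hwz : (w : G) * z = z * w := (hzcomm w).symm
  have huw' : u * (w : G) * u⁻¹ = w := by rw [huw, mul_inv_cancel_right]
  set g := (y : G) * u * y with hg
  have hgz : g * z * g⁻¹ = (w : G)⁻¹ := by
    calc g * z * g⁻¹ = (y : G) * (u * ((y : G) * z * (y : G)⁻¹) * u⁻¹) * (y : G)⁻¹ := by
          rw [hg]; group
      _ = (y : G) * ((z : G) * (w : G)⁻¹) * (y : G)⁻¹ := by rw [hyz, huz]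
      _ = ((y : G) * z * (y : G)⁻¹) * ((y : G) * w * (y : G)⁻¹)⁻¹ := by group
      _ = (w : G)⁻¹ := by rw [hyz, hyw, ← hwz]; group
  have hgw : g * w * g⁻¹ = (z : G) := by
    calc g * w * g⁻¹ = (y : G) * (u * ((y : G) * w * (y : G)⁻¹) * u⁻¹) * (y : G)⁻¹ := by
          rw [hg]; group
      _ = (y : G) * ((u * z * u⁻¹) * (u * w * u⁻¹)) * (y : G)⁻¹ := by rw [hyw]; group
      _ = (y : G) * z * (y : G)⁻¹ := by rw [huz, huw', inv_mul_cancel_right]
      _ = z := hyz
  have hg2 : g ^ 2 * z * (g ^ 2)⁻¹ = (z : G)⁻¹ := by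
    calc g ^ 2 * z * (g ^ 2)⁻¹ = g * (g * z * g⁻¹) * g⁻¹ := by rw [sq]; group
      _ = (g * w * g⁻¹)⁻¹ := by rw [hgz]; group
      _ = _ := by rw [hgw]
  have hno : ¬ Commute (g ^ 2) (z : G) := by
    intro hc
    rw [hc.eq, mul_inv_cancel_right] at hg2
    have h2 : (z : G) ^ 2 = 1 := by rw [sq]; exact mul_eq_one_iff_eq_inv.2 hg2
    have := orderOf_dvd_of_pow_eq_one h2
    rw [hzo] at this
    norm_num at this
  have hg4 : Commute ((g ^ 2) ^ 2) (z : G) := by
    refine mul_inv_eq_iff_eq_mul.1 ?_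
    calc (g ^ 2) ^ 2 * z * ((g ^ 2) ^ 2)⁻¹ = g ^ 2 * (g ^ 2 * z * (g ^ 2)⁻¹) * (g ^ 2)⁻¹ := by
          rw [sq (g ^ 2)]; group
      _ = g ^ 2 * (z : G)⁻¹ * (g ^ 2)⁻¹ := by rw [hg2]
      _ = (g ^ 2 * z * (g ^ 2)⁻¹)⁻¹ := by rw [conj_inv]
      _ = z := by rw [hg2, inv_inv]
  have hodd : Odd (orderOf (g ^ 2)) := by
    rcases Nat.even_or_odd (orderOf g) with he | ho
    · rcases b.cb.even_order he.two_dvd with h | h
      · rw [orderOf_pow_of_dvd two_ne_zero (h ▸ dvd_rfl), h]; decide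
      · rw [orderOf_pow_of_dvd two_ne_zero (h ▸ dvd_mul_right 2 3), h]; decide
    · exact ho.of_dvd_nat (orderOf_pow_dvd 2)
  obtain ⟨m, hm⟩ := exists_pow_eq_self_of_coprime (x := g ^ 2) (Nat.coprime_two_left.2 hodd)
  exact hno (hm ▸ hg4.pow_left m)

end Big

/-- With an element of order `2 r`, the Sylow 2-subgroups have order at most four. -/
theorem CaseB.card_sylow_le {G : Type u} [Group G] [Finite G] {r : ℕ} (h : CaseB G r)
    (hns : ¬ Group.IsSolvable G) (S : Sylow 2 G) : Nat.card ↥(S : Subgroup G) ≤ 4 := by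
  by_contra h4
  push Not at h4
  haveI : Fact (Nat.Prime 2) := ⟨Nat.prime_two⟩
  obtain ⟨k, hk⟩ := S.isPGroup'.exists_card_eq
  have h8 : 8 ≤ Nat.card ↥(S : Subgroup G) := by
    rw [hk] at h4 ⊢
    rcases k with _ | _ | _ | k
    · norm_num at h4
    · norm_num at h4
    · norm_num at h4
    · have : 1 ≤ 2 ^ k := Nat.one_le_two_pow
      rw [pow_succ, pow_succ, pow_succ]
      omega
  have b : Big G r S := ⟨h, hns, h8⟩
  obtain rfl := b.r_eq_three
  exact b.not_nine_points

end CfsgLib.ThreeOrders
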