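import Mathlib
import Cfsg.Agent.Lib.ThreeOrders.Endgame
import Cfsg.Agent.Lib.ThreeOrders.Tori
import Cfsg.Agent.Lib.GW.Main
import Cfsg.Agent.Lib.GW.TopFacts
import Cfsg.Agent.Lib.AutPSL.OutPSL
import Cfsg.Agent.Lib.PSL2.Involution

/-!
# The case of a four-group as Sylow 2-subgroup

The group is then `PSL₂(q)` with `q ≡ 3, 5 (mod 8)`: it has a normal subgroup of this kind by the
theorem of Gorenstein and Walter, and a proper overgroup would need a field automorphism of order
`r` while the even torus has order at most `2 r`.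
-/

set_option autoImplicit false
set_option linter.style.haveILetI false

namespace CfsgLib.ThreeOrders

open Subgroup CfsgLib.CIT

universe u

variable {G : Type u} [Group G] [Finite G]

open CfsgLib.AutPSL in
/-- An overgroup of odd index has index dividing the degree of the field. -/
theorem index_dvd_degree (L : Subgroup G) [L.Normal] (hC : centralizer (L : Set G) = ⊥)
    {F : Type} [Field F] [Fintype F] (hodd : Odd (Fintype.card F)) (h3 : 3 < Fintype.card F)
    (e : ↥L ≃* Matrix.ProjectiveSpecialLinearGroup (Fin 2) F) {p f : ℕ} [Fact p.Prime]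
    (hF : Fintype.card F = p ^ f) (hidx : Odd L.index) : L.index ∣ f := by
  obtain ⟨E, hEL⟩ := CfsgLib.GW.TopFacts.exists_emb L hC hodd h3 e
  subst hEL
  haveI := E.norm
  haveI := conjAut_range_normal (F := F) (n := 2) le_rfl
  obtain ⟨φ, -, hker⟩ := exists_out_hom (conjAut : GL (Fin 2) F →* _).range inn_le_range
    (fieldAut : (F ≃+* F) →* _) (by
      rintro σ ⟨g, hg⟩
      exact (eq_one_of_conj_field le_rfl (g := g⁻¹) (σ := σ)
        (by rw [map_inv, hg, inv_mul_cancel])).2) (by
      intro β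
      obtain ⟨g, σ, rfl | rfl⟩ := aut_psl_structure le_rfl β
      · exact ⟨conjAut g, ⟨g, rfl⟩, σ, rfl⟩
      · obtain ⟨w, hw⟩ := iotaAut_two (F := F)
        refine ⟨conjAut (g * glField σ w), ⟨_, rfl⟩, σ, ?_⟩
        rw [map_mul, mul_assoc, ← hw, fieldAut_mul_conjAut, mul_assoc])
  obtain ⟨-, hcard⟩ := diag_image (n := 2) (F := F) le_rfl
  set ρ := (QuotientGroup.mk' (Cfsg.Inn (Matrix.ProjectiveSpecialLinearGroup (Fin 2) F))).comp E.φ
  have hρ : ρ.ker = E.L := by
    ext g
    rw [MonoidHom.mem_ker, MonoidHom.comp_apply, QuotientGroup.mk'_apply, QuotientGroup.eq_one_iff]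
    constructor
    · rintro ⟨x, hx⟩
      have h1 : E.φ g = E.φ (E.e.symm x : G) := by
        rw [E.map_L, E.e.apply_symm_apply]
        exact hx.symm
      rw [E.inj h1]
      exact SetLike.coe_mem _
    · exact fun hg => ⟨E.e ⟨g, hg⟩, (E.map_L ⟨g, hg⟩).symm⟩
  set K := (φ.ker.subgroupOf ρ.range)
  have hK : K = ⊥ := by
    have h1 : Nat.card K ∣ E.L.index := by
      rw [← hρ, index_ker]
      exact card_subgroup_dvd_card K
    have h2 : Nat.card K ≤ 2 := by
      refine le_trans (Nat.card_le_card_of_injective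
        (fun x : K => (⟨(x.1 : Cfsg.Out _), mem_subgroupOf.1 x.2⟩ : φ.ker))
        (fun a b hab => Subtype.ext (Subtype.ext (congrArg Subtype.val hab :)))) ?_
      rw [hker, hcard]
      exact Nat.gcd_le_left _ two_pos
    refine Subgroup.card_eq_one.1 ?_
    obtain ⟨c, hc⟩ := h1
    rw [hc] at hidx
    obtain ⟨j, hj⟩ := Nat.Odd.of_mul_left hidx
    omega
  have hinj : Function.Injective (φ.comp ρ.range.subtype) := by
    rw [← MonoidHom.ker_eq_bot_iff]
    exact hK
  have hd := Subgroup.card_dvd_of_injective _ hinj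
  obtain ⟨ef⟩ := nonempty_ringAut_equiv hF
  rw [← hρ, index_ker]
  rwa [Nat.card_congr ef.toEquiv, Nat.card_congr Multiplicative.toAdd, Nat.card_zmod] at hd

theorem four_r_lt {r : ℕ} (hr : 3 ≤ r) : 4 * r + 1 < 3 ^ r := by
  induction r, hr using Nat.le_induction with
  | base => norm_num
  | succ n hn ih => rw [pow_succ]; omega

/-- The theorem with a Sylow 2-subgroup of order 4. -/
theorem CaseB.conclusion
    (hS : ∀ (X : Type u) [Group X] [Finite X], CfsgLib.GW.Setup X → CfsgLib.GW.IsPSLOrA7 X)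
    {r : ℕ} (h : CaseB G r) (hns : ¬ Group.IsSolvable G) : Conclusion G := by
  classical
  haveI : Fact (Nat.Prime 2) := ⟨Nat.prime_two⟩
  obtain ⟨S⟩ := (inferInstance : Nonempty (Sylow 2 G))
  -- a four-group
  have hS4 : Nat.card ↥(S : Subgroup G) = 4 := by
    obtain ⟨k, hk⟩ := IsPGroup.iff_card.1 S.isPGroup'
    have hle := h.card_sylow_le hns S
    obtain ⟨a, ha, b, hb, ha2, hb2, hne⟩ := h.exists_pair hns S
    have h3 : 2 < Nat.card ↥(S : Subgroup G) := by
      haveI := Fintype.ofFinite ↥(S : Subgroup G)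
      rw [Nat.card_eq_fintype_card]
      exact Fintype.two_lt_card_iff.2 ⟨⟨a, ha⟩, ⟨b, hb⟩, 1, fun e => hne (congrArg Subtype.val e),
        fun e => by
          have h1 : a = 1 := congrArg Subtype.val e
          rw [h1, orderOf_one] at ha2
          exact absurd ha2 (by norm_num),
        fun e => by
          have h1 : b = 1 := congrArg Subtype.val e
          rw [h1, orderOf_one] at hb2
          exact absurd hb2 (by norm_num)⟩
    rw [hk] at h3 hle ⊢
    rcases k with _ | _ | _ | k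
    · norm_num at h3
    · norm_num at h3
    · rfl
    · have : 2 ^ 3 ≤ 2 ^ (k + 1 + 1 + 1) := Nat.pow_le_pow_right two_pos (by omega)
      omega
  haveI : Nontrivial ↥(S : Subgroup G) := Finite.one_lt_card_iff_nontrivial.1 (by omega)
  haveI : IsKleinFour ↥(S : Subgroup G) :=
    ⟨hS4, (Monoid.exponent_eq_prime_iff Nat.prime_two).2 fun g hg =>
      (orderOf_coe g).symm.trans (h.orderOf_mem_sylow g.2 fun e => hg (Subtype.ext e))⟩
  obtain ⟨eS⟩ := IsKleinFour.nonempty_mulEquiv (G₁ := ↥(S : Subgroup G)) (G₂ := DihedralGroup 2)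
  have hTop : CfsgLib.GW.Top G := CfsgLib.GW.Main.top_of_good (h.pPrimeCore_eq_bot hns)
    (CfsgLib.GW.Main.good_of_simple hS G S 2 (Or.inl ⟨eS⟩))
  have h8 : ¬ 8 ∣ Nat.card G := by
    intro h8
    have hc := (S : Subgroup G).card_mul_index
    rw [hS4] at hc
    have hno : ¬ 2 ∣ (S : Subgroup G).index := S.not_dvd_index
    omega
  rcases hTop with hp | ⟨⟨e⟩⟩ | ⟨⟨e⟩⟩ | ⟨L, hLn, hC, hL⟩
  · exact absurd (by haveI := hp.isNilpotent; infer_instance) hns
  · haveI := CfsgLib.InvCharSmall.isSolvable_perm_four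
    exact absurd (Group.isSolvable_of_isSolvable_injective
      (f := (alternatingGroup (Fin 4)).subtype.comp e.toMonoidHom)
      ((alternatingGroup (Fin 4)).subtype_injective.comp e.injective)) hns
  · haveI := CfsgLib.InvCharSmall.isSolvable_perm_four
    exact absurd (Group.isSolvable_of_isSolvable_injective (f := e.toMonoidHom) e.injective) hns
  haveI := hLn
  rcases hL with ⟨F, i1, i2, hodd, hq3, ⟨e⟩⟩ | ⟨⟨e⟩⟩
  swap
  · exfalso
    refine h8 (dvd_trans ?_ L.card_subgroup_dvd_card)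
    rw [Nat.card_congr e.toEquiv, nat_card_alternatingGroup]
    simp [Fintype.card_fin, Nat.factorial]
  set q := Fintype.card F with hqdef
  have hq2 : q % 2 = 1 := Nat.odd_iff.1 hodd
  have hcardL : 2 * Nat.card L = (q ^ 2 - 1) * q := by
    rw [Nat.card_congr e.toEquiv]
    have h1 := Cfsg.Agent.Classical.card_psl_mul (F := F) 2 (by norm_num)
    rw [CfsgLib.PSL2.gcd_eq_two hodd, Fin.prod_univ_two] at h1
    simp only [Fin.val_zero, Fin.val_one, pow_zero, pow_one, ← hqdef] at h1
    have h2 : q ^ 2 - q = (q - 1) * q := by rw [pow_two, Nat.sub_mul, one_mul]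
    rw [h2, mul_left_comm (q ^ 2 - 1), mul_left_comm 2] at h1
    exact Nat.eq_of_mul_eq_mul_left (by omega) h1
  obtain ⟨k, hk⟩ : ∃ k, q = 8 * k + q % 8 := ⟨q / 8, (Nat.div_add_mod q 8).symm⟩
  have hsq : q ^ 2 = 64 * (k * k) + 16 * k * (q % 8) + q % 8 * (q % 8) := by
    conv_lhs => rw [hk]
    ring
  have hq8 : q % 8 = 3 ∨ q % 8 = 5 := by
    by_contra hcon
    push Not at hcon
    have h16 : 16 ∣ q ^ 2 - 1 := by
      have : q % 8 = 1 ∨ q % 8 = 7 := by omega
      rcases this with e7 | e7 <;> rw [e7] at hsq <;> omega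
    obtain ⟨c, hc⟩ := h16
    refine h8 (dvd_trans ?_ L.card_subgroup_dvd_card)
    rw [hc, mul_assoc, show (16 : ℕ) = 2 * 8 from rfl, mul_assoc] at hcardL
    exact ⟨c * q, Nat.eq_of_mul_eq_mul_left two_pos hcardL⟩
  have h4 : 4 ∣ Nat.card L := by
    obtain ⟨c, hc⟩ : 8 ∣ q ^ 2 - 1 := by
      rcases hq8 with e7 | e7 <;> rw [e7] at hsq <;> omega
    rw [hc, mul_assoc, show (8 : ℕ) = 2 * 4 from rfl, mul_assoc] at hcardL
    exact ⟨c * q, Nat.eq_of_mul_eq_mul_left two_pos hcardL⟩
  have hidx : Odd L.index := by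
    obtain ⟨c, hc⟩ := h4
    have h1 := L.card_mul_index
    rw [hc] at h1
    rw [Nat.odd_iff]
    by_contra hne
    refine h8 ⟨c * (L.index / 2), ?_⟩
    have : L.index = 2 * (L.index / 2) := by omega
    rw [← h1, this, Nat.mul_div_cancel_left _ two_pos]
    ring
  -- an even torus of order 2 or 2r
  have hbound : q ≤ 5 ∨ q ≤ 4 * r + 1 := by
    obtain ⟨d, hd, hdev, hdq⟩ : ∃ d, (d = (q + 1) / 2 ∨ d = (q - 1) / 2) ∧ 2 ∣ d ∧ q ≤ 2 * d + 1 := by
      rcases hq8 with e8 | e8
      · exact ⟨_, Or.inl rfl, by omega, by omega⟩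
      · exact ⟨_, Or.inr rfl, by omega, by omega⟩
    obtain ⟨x, hx⟩ := psl_torus_odd e hodd hd
    rw [← orderOf_coe] at hx
    have hr := h.prime.two_le
    rcases h.even_order (dvd_trans hdev hx) with e2 | e2 <;> rw [e2] at hx
    · have := Nat.le_of_dvd two_pos hx
      exact Or.inl (by omega)
    · have := Nat.le_of_dvd (by omega) hx
      exact Or.inr (by omega)
  -- an involution and its centralizer
  obtain ⟨t0, ht0⟩ := exists_prime_orderOf_dvd_card' (G := ↥L) 2 (dvd_trans (by norm_num) h4)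
  set t : G := (t0 : G) with htdef
  have ht : orderOf t = 2 := (orderOf_coe t0).trans ht0
  have hcover : ∀ g : G, ∃ l ∈ L, l * g ∈ centralizer ({t} : Set G) := by
    intro g
    have hgt : g * t * g⁻¹ ∈ L := Normal.conj_mem inferInstance t t0.2 g
    obtain ⟨w, hw⟩ := isConj_iff.1 (CfsgLib.PSL2.isConj_of_orderOf_two
      (CfsgLib.PSL2.two_ne_zero_of_odd hodd) (x := e ⟨_, hgt⟩) (y := e t0)
      (by rw [e.orderOf_eq, orderOf_mk, ← ht]; exact (MulAut.conj g).orderOf_eq t)
      (by rw [e.orderOf_eq, ht0]))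
    obtain ⟨l, rfl⟩ := e.surjective w
    rw [← map_inv, ← map_mul, ← map_mul] at hw
    have hl : (l : G) * (g * t * g⁻¹) * (l : G)⁻¹ = t := congrArg Subtype.val (e.injective hw)
    refine ⟨l, l.2, mem_centralizer_singleton_iff.2 ?_⟩
    calc (l : G) * g * t = (l : G) * (g * t * g⁻¹) * (l : G)⁻¹ * (l * g) := by group
      _ = t * (l * g) := by rw [hl]
  have hone : L.index = 1 := by
    by_contra hne
    obtain ⟨s, hs, hsd⟩ := Nat.exists_prime_and_dvd hne
    have hsC : s ∣ Nat.card ↥(centralizer ({t} : Set G)) := by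
      refine dvd_trans hsd ?_
      rw [index_eq_card]
      refine Subgroup.card_dvd_of_surjective
        ((QuotientGroup.mk' L).comp (centralizer ({t} : Set G)).subtype) fun w => ?_
      obtain ⟨g, rfl⟩ := QuotientGroup.mk'_surjective L w
      obtain ⟨l, hl, hlg⟩ := hcover g
      refine ⟨⟨l * g, hlg⟩, ?_⟩
      show QuotientGroup.mk' L (l * g) = QuotientGroup.mk' L g
      rw [map_mul, show QuotientGroup.mk' L l = 1 from (QuotientGroup.eq_one_iff l).2 hl, one_mul]
    have hsr : s = r := (h.prime_dvd_centralizer_involution ht hs hsC).resolve_left fun e2 => by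
      rw [e2] at hsd
      exact (Nat.not_even_iff_odd.2 hidx) (even_iff_two_dvd.2 hsd)
    obtain ⟨p, hp⟩ := CharP.exists F
    obtain ⟨f, hpp, hF⟩ := FiniteField.card F p
    haveI : Fact p.Prime := ⟨hpp⟩
    have hdvd := dvd_trans hsd (index_dvd_degree L hC hodd hq3 e hF hidx)
    rw [hsr] at hdvd
    have hp3 : 3 ≤ p := by
      rcases Nat.lt_or_ge p 3 with hlt | hge
      · exfalso
        have : p = 2 := by have := hpp.two_le; omega
        subst this
        have h2 : 2 ∣ q := by rw [hqdef, hF]; exact dvd_pow_self 2 f.ne_zero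
        omega
      · exact hge
    have hr3 : 3 ≤ r := by
      have := h.prime.two_le
      have := h.ne_two
      omega
    have hbig : 3 ^ r ≤ q := by
      rw [hqdef, hF]
      exact le_trans (Nat.pow_le_pow_left hp3 r)
        (Nat.pow_le_pow_right hpp.pos (Nat.le_of_dvd f.pos hdvd))
    have := four_r_lt hr3
    omega
  have hLtop : L = ⊤ := index_eq_one.1 hone
  let eG : G ≃* Matrix.ProjectiveSpecialLinearGroup (Fin 2) F :=
    (topEquiv.symm.trans (MulEquiv.subgroupCongr hLtop.symm)).trans e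
  have h5 : 5 < q := by
    by_contra hle
    have hq5 : q = 5 := by omega
    obtain ⟨x, hx⟩ := h.witness
    have hi : orderOf (eG (x ^ r)) = 2 := by
      rw [eG.orderOf_eq, orderOf_pow_of_dvd h.prime.ne_zero (hx ▸ dvd_mul_left r 2), hx,
        Nat.mul_div_cancel _ h.prime.pos]
    have hmem : eG x ∈ centralizer ({eG (x ^ r)} : Set (Matrix.ProjectiveSpecialLinearGroup (Fin 2) F)) := by
      rw [mem_centralizer_singleton_iff, ← map_mul, ← map_mul, ← pow_succ', ← pow_succ]
    have hdvd := Subgroup.orderOf_dvd_natCard _ hmem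
    rw [eG.orderOf_eq, hx, CfsgLib.PSL2.card_centralizer_involution hodd hi, ← hqdef, hq5] at hdvd
    norm_num at hdvd
    have hr4 : r ∣ 2 ^ 2 := dvd_trans (dvd_mul_left r 2) hdvd
    exact h.ne_two ((Nat.prime_dvd_prime_iff_eq h.prime Nat.prime_two).1
      (h.prime.dvd_of_dvd_pow hr4))
  obtain ⟨hb1, hb2⟩ := h.tc.psl_odd_bounds eG hodd
  exact Or.inr (Or.inl ⟨F, i1, i2, h5, hq8, hb1, hb2, ⟨eG⟩⟩)

end CfsgLib.ThreeOrders
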