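import Mathlib
import Cfsg.Agent.Lib.ThreeOrders.CaseA
import Cfsg.Agent.Lib.ThreeOrders.RankTwo

/-!
# Nonsolvable groups in which no prime divides three element orders

Assembly, conditional on the theorem of Gorenstein and Walter.
-/

set_option autoImplicit false
set_option linter.style.haveILetI false

namespace CfsgLib.ThreeOrders

universe u

theorem conclusion
    (hS : ∀ (X : Type u) [Group X] [Finite X], CfsgLib.GW.Setup X → CfsgLib.GW.IsPSLOrA7 X)
    {G : Type u} [Group G] [Finite G] (hns : ¬ Group.IsSolvable G) (tc : ThreeCoprime G) :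
    Conclusion G := by
  by_cases hA : EvenSmall G
  · exact caseA tc hA hns
  simp only [EvenSmall] at hA
  push Not at hA
  obtain ⟨g, hg, h2, h4⟩ := hA
  obtain ⟨m, hm⟩ := hg
  have hlen := tc.length_le_two g
  have hm0 : m ≠ 0 := fun e => by
    rw [e, mul_zero] at hm
    exact (orderOf_pos g).ne' hm
  have hm1 : m ≠ 1 := fun e => h2 (by rw [hm, e])
  rw [hm, (Nat.perm_primeFactorsList_mul two_ne_zero hm0).length_eq,
    List.length_append, Nat.primeFactorsList_prime Nat.prime_two] at hlen
  have hml : m.primeFactorsList.length = 1 := by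
    have : m.primeFactorsList ≠ [] := fun e => by
      rcases (Nat.primeFactorsList_eq_nil _).1 e with h | h
      · exact hm0 h
      · exact hm1 h
    have := List.length_pos_of_ne_nil this
    simp only [List.length_singleton] at hlen
    omega
  obtain ⟨r, hr⟩ := List.length_eq_one_iff.1 hml
  have hrp : r.Prime := Nat.prime_of_mem_primeFactorsList (n := m) (by rw [hr]; simp)
  have hmr : m = r := by
    have := Nat.prod_primeFactorsList hm0
    rw [hr, List.prod_singleton] at this
    exact this.symm
  subst hmr
  have hr2 : m ≠ 2 := fun e => h4 (by rw [hm, e])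
  exact CaseB.conclusion hS (⟨tc, hrp, hr2, g, hm⟩ : CaseB G m) hns

end CfsgLib.ThreeOrders
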